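import Cfsg.Agent.Lib.MaxClassEss.CaseBBase

/-!
The case where the second centre lies in `E` is impossible.
-/

set_option autoImplicit false
set_option linter.style.haveILetI false
set_option linter.unusedSectionVars false

namespace CfsgLib.MaxClassEss

open Subgroup CfsgLib.Coprime.MaxClassUniform
open scoped commutatorElement

/-- A number whose powers are `1` modulo `p` only at multiples of `p - 1`. -/
theorem exists_gen (p : ℕ) [hp : Fact p.Prime] : ∃ a a' : ℕ,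
    ((a : ZMod p) * (a' : ZMod p)) = 1 ∧ ∀ r : ℕ, (a : ZMod p) ^ r = 1 → p - 1 ∣ r := by
  obtain ⟨uu, huu⟩ := IsCyclic.exists_generator (α := (ZMod p)ˣ)
  refine ⟨(uu : ZMod p).val, ((uu⁻¹ : (ZMod p)ˣ) : ZMod p).val, ?_, fun r hr => ?_⟩
  · rw [ZMod.natCast_zmod_val, ZMod.natCast_zmod_val, Units.mul_inv]
  · rw [ZMod.natCast_zmod_val] at hr
    have h1 : uu ^ r = 1 := Units.ext (by rw [Units.val_pow_eq_pow_val, hr, Units.val_one])
    have h2 := orderOf_dvd_of_pow_eq_one h1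
    rwa [orderOf_eq_card_of_forall_mem_zpowers huu, Nat.card_eq_fintype_card,
      ZMod.card_units p] at h2

variable {P : Type*} [Group P] [Finite P] {p : ℕ} [hp : Fact p.Prime] {n : ℕ}

theorem pow_center (h : IsMC p n P) {z : P} (hz : z ∈ center P) (hz1 : z ≠ 1) {x : P}
    (hx : x ∈ center P) : ∃ i : ℕ, x = z ^ i := by
  have h1 := pow_card_eq_one' (x := (⟨z, hz⟩ : center P))
  rw [h.card_center] at h1
  have hord : orderOf z = p := orderOf_eq_prime (by simpa using congrArg Subtype.val h1) hz1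
  have heq : zpowers z = center P := eq_of_le_of_card_ge (zpowers_le.2 hz) (by
    rw [h.card_center, Nat.card_zpowers, hord])
  obtain ⟨i, hi⟩ := (Submonoid.mem_powers_iff _ _).1
    (mem_powers_iff_mem_zpowers.2 (heq.ge hx))
  exact ⟨i, hi.symm⟩

/-- The image in `P ⧸ T` of an element outside a subgroup `T` of index `p` generates. -/
theorem outside_span {T : Subgroup P} [T.Normal] (hTi : T.index = p) {b : P} (hb : b ∉ T) (x : P) :
    ∃ i : ℕ, ∃ m ∈ T, x = m * b ^ i := by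
  obtain ⟨i, hi⟩ := (Submonoid.mem_powers_iff _ _).1 (mem_powers_iff_mem_zpowers.2
    ((zpowers_eq_top_of_prime_card (G := P ⧸ T) (by rw [← index_eq_card, hTi])
      (g := QuotientGroup.mk' T b) fun e => hb ((QuotientGroup.eq_one_iff _).1 e)).ge
      (mem_top (QuotientGroup.mk' T x))))
  refine ⟨i, x * (b ^ i)⁻¹, (QuotientGroup.eq_one_iff _).1 ?_, by rw [inv_mul_cancel_right]⟩
  show QuotientGroup.mk' T _ = 1
  rw [_root_.map_mul, _root_.map_inv, _root_.map_pow, hi, mul_inv_cancel]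

theorem map_TC (Ψ : P →* P) (hΨ : Function.Surjective Ψ) {i : ℕ} {x : P} (hx : x ∈ TC P i) :
    Ψ x ∈ TC P i := mem_TC_iff.2 fun u hu => by
  obtain ⟨u', hu', rfl⟩ := (map_LC Ψ hΨ i).ge hu
  rw [← map_commutatorElement]
  exact (map_LC Ψ hΨ (i + 2)).le (mem_map_of_mem Ψ (mem_TC_iff.1 hx u' hu'))

namespace CubeSys

variable {Y : CubeSys p n P}

theorem center_le_Z2 (Y : CubeSys p n P) : center P ≤ LC P (n - 3) := by
  rw [Y.mc.center_eq]
  exact LC_le (by omega)

theorem flag_torus (hB : Y.IsCaseB) (hp5 : 5 ≤ p) {a a' : ℕ}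
    (haa : ((a : ZMod p) * (a' : ZMod p)) = 1) (hz : Y.l ∈ center P ∨ Y.h ∈ center P) :
    ∃ ψ : P →* P, Function.Surjective ψ ∧ ψ Y.l = Y.l ^ a ∧ ψ Y.h = Y.h ∧
      ∃ i j : ℕ, ψ Y.c = Y.l ^ i * Y.h ^ j * Y.c ^ (a * a) := by
  obtain ⟨θ, hθ, hθA, θl, θh, i, j, θc⟩ := theta_B hB haa
  obtain ⟨ψ, hψ, hψx⟩ := ext_top hB hp5 hθ hθA (fun x hx => by
      rcases hz with hl | hh
      · obtain ⟨r, rfl⟩ := pow_center Y.mc hl Y.l_ne_one hx
        rw [Y.map_pow hθ Y.l_mem_A, θl]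
        exact pow_mem (pow_mem hl a) r
      · have hh1 : Y.h ≠ 1 := fun e => hp.out.not_dvd_one (Y.indep 0 1 0 (by simp [e])).2.1
        obtain ⟨r, rfl⟩ := pow_center Y.mc hh hh1 hx
        rw [Y.map_pow hθ Y.h_mem_A, θh]
        exact pow_mem hh r)
    (fun x hx => by
      obtain ⟨r, s, rfl⟩ := span_Z2 hB hx
      rw [Y.map_mul hθ _ (pow_mem Y.l_mem_A r) _ (pow_mem Y.h_mem_A s), Y.map_pow hθ Y.l_mem_A,
        Y.map_pow hθ Y.h_mem_A, θl, θh]
      exact mul_mem (pow_mem (pow_mem (l_mem_Z2 hB) a) r) (pow_mem (h_mem_Z2 hB) s))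
  let Ψ : P →* P := MonoidHom.mk' ψ fun x y => Y.map_mul hψ x (mem_top x) y (mem_top y)
  have hinj : Function.Injective Ψ := fun x y h => Y.map_inj hψ x (mem_top x) y (mem_top y) h
  exact ⟨Ψ, (Finite.injective_iff_bijective.1 hinj).2, (hψx _ Y.l_mem_A).trans θl,
    (hψx _ Y.h_mem_A).trans θh, i, j, (hψx _ Y.c_mem_A).trans θc⟩

theorem not_e_mem_T4 (hB : Y.IsCaseB) (hp5 : 5 ≤ p) : Y.e ∉ TC P (n - 4) := by
  intro he
  have h5 := Y.five_le
  have hlc : Y.l ∈ center P := by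
    have h1 := mem_TC_iff.1 he Y.c hB.2
    rw [show n - 4 + 2 = n - 2 by omega, ← Y.mc.center_eq] at h1
    have h2 := inv_mem h1
    rwa [commutatorElement_inv, commutatorElement_def, Y.c_e, mul_inv_cancel_right] at h2
  obtain ⟨a, a', haa, hgen⟩ := exists_gen p
  obtain ⟨ψ, -, ψl, ψh, iθ, jθ, ψc⟩ := flag_torus hB hp5 haa (Or.inl hlc)
  have he1 := e_not_LC_one hB
  have he3 := e_mem_T3 hB
  have hT3i := Y.mc.TC_index (i := n - 3) (by omega) (by omega)
  have hT4i := Y.mc.TC_index (i := n - 4) (by omega) (by omega)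
  have h34 : ∀ y ∈ TC P (n - 3), y ∈ TC P (n - 4) := fun y hy => by
    obtain ⟨i, w, hw, rfl⟩ := line_span Y.mc (LC_one_le_TC _) hT3i he1 he3 hy
    exact mul_mem (LC_one_le_TC _ hw) (pow_mem he i)
  haveI : (TC P (n - 3)).Normal := TC_normal _
  obtain ⟨b, -, hb⟩ := SetLike.exists_of_lt (lt_top_iff_ne_top.2
    (Y.mc.TC_ne_top (i := n - 3) (by omega) (by omega)))
  have hb4 : b ∉ TC P (n - 4) := fun hb' => by
    obtain ⟨i, w, hw, rfl⟩ := line_span Y.mc (LC_one_le_TC _) hT4i he1 he hb'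
    exact hb (mul_mem (LC_one_le_TC _ hw) (pow_mem he3 i))
  obtain ⟨i, m, hm, hψb⟩ := outside_span hT3i hb (ψ b)
  -- the action on the second centre
  have hhc : Y.h ∉ LC P (n - 2) := fun hh => by
    rw [← Y.mc.center_eq] at hh
    obtain ⟨r, hr⟩ := pow_center Y.mc hlc Y.l_ne_one hh
    have h1 := Y.indep (r * (p - 1)) 1 0 (by
      rw [pow_zero, mul_one, pow_one, hr, ← pow_add, ← Nat.mul_succ,
        Nat.succ_eq_add_one, Nat.sub_add_cancel hp.out.one_le, mul_comm, pow_mul, Y.exp_l, one_pow])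
    exact hp.out.not_dvd_one h1.2.1
  set z1 := ⁅b, Y.h⁆ with hz1
  have hz1c : z1 ∈ center P := by
    rw [Y.mc.center_eq]
    exact LC_le (by omega) (comm_LC_right b (h_mem_Z2 hB))
  have hz1ne : z1 ≠ 1 := fun e => Y.mc.comm_not_mem (by omega) hb (h_mem_Z2 hB)
    (by rw [show n - 3 + 1 = n - 2 by omega]; exact hhc) (by rw [← hz1, e]; exact one_mem _)
  have hz1p : z1 ^ p = 1 := by
    obtain ⟨r, hr⟩ := pow_center Y.mc hlc Y.l_ne_one hz1c
    rw [hr, ← pow_mul, mul_comm, pow_mul, Y.exp_l, one_pow]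
  have hzc : ∀ x : P, Commute z1 x := fun x => (mem_center_iff.1 hz1c x).symm
  have hψz1 : ψ z1 = z1 ^ a := by
    obtain ⟨r, hr⟩ := pow_center Y.mc hlc Y.l_ne_one hz1c
    rw [hr, _root_.map_pow, ψl, ← pow_mul, ← pow_mul, mul_comm]
  have hia : (i : ZMod p) = a := by
    have hmh : Commute m Y.h := by
      have := mem_TC_iff.1 hm _ (h_mem_Z2 hB)
      rw [Y.mc.LC_eq_bot (by omega), mem_bot] at this
      exact commutatorElement_eq_one_iff_commute.1 this
    have h1 : ⁅b ^ i, Y.h⁆ = z1 ^ i := by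
      simpa using comm_pow_pow hz1.symm (hzc b) (hzc Y.h) i 1
    have h2 : z1 ^ a = z1 ^ i := by
      rw [← hψz1, hz1, map_commutatorElement, ψh, hψb,
        comm_mul_left (by rw [h1]; exact ((hzc m).pow_left i).symm) hmh, h1]
    have h3 := pow_eq_pow_iff_modEq.1 h2
    rw [orderOf_eq_prime hz1p hz1ne, ← ZMod.natCast_eq_natCast_iff] at h3
    exact h3.symm
  -- the action on the third centre
  set π := QuotientGroup.mk' (LC P (n - 2))
  set z2 := ⁅b, Y.c⁆ with hz2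
  have hπl : π Y.l = 1 := (QuotientGroup.eq_one_iff _).2 (Y.mc.center_eq ▸ hlc)
  have hz2Z : z2 ∈ LC P (n - 3) := by
    have := comm_LC_right b hB.2
    rwa [show n - 4 + 1 = n - 3 by omega] at this
  have hcent : ∀ {x : P}, x ∈ LC P (n - 3) → ∀ y, Commute (π x) (π y) := fun hx y => by
    rw [← commutatorElement_eq_one_iff_commute, ← map_commutatorElement]
    refine (QuotientGroup.eq_one_iff _).2 ?_
    have := comm_LC_left hx y
    rwa [show n - 3 + 1 = n - 2 by omega] at this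
  have hz2ne : π z2 ≠ 1 := fun e => by
    have := Y.mc.comm_not_mem (by omega) hb4 hB.2
      (by rw [show n - 4 + 1 = n - 3 by omega]; exact c_not_Z2 hB)
    rw [show n - 4 + 2 = n - 2 by omega] at this
    exact this ((QuotientGroup.eq_one_iff _).1 e)
  have hz2p : π z2 ^ p = 1 := by
    obtain ⟨r, s, hrs⟩ := span_Z2 hB hz2Z
    rw [hrs, _root_.map_mul, _root_.map_pow, _root_.map_pow, hπl, one_pow, one_mul, ← pow_mul, mul_comm, pow_mul,
      ← _root_.map_pow π Y.h p, Y.exp_h, _root_.map_one, one_pow]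
  have hψz2 : π (ψ z2) = π z2 := by
    obtain ⟨r, s, hrs⟩ := span_Z2 hB hz2Z
    rw [hrs, _root_.map_mul ψ, _root_.map_pow ψ, _root_.map_pow ψ, ψl, ψh]
    simp only [_root_.map_mul, _root_.map_pow, hπl, one_pow]
  have hmc : Commute (π m) (π Y.c) := by
    rw [← commutatorElement_eq_one_iff_commute, ← map_commutatorElement]
    refine (QuotientGroup.eq_one_iff _).2 ?_
    have := mem_TC_iff.1 (h34 m hm) Y.c hB.2
    rwa [show n - 4 + 2 = n - 2 by omega] at this
  have hu : Y.l ^ iθ * Y.h ^ jθ ∈ LC P (n - 3) :=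
    mul_mem (pow_mem (l_mem_Z2 hB) _) (pow_mem (h_mem_Z2 hB) _)
  have h1 : ⁅π b ^ i, π Y.c ^ (a * a)⁆ = π z2 ^ (i * (a * a)) :=
    comm_pow_pow (map_commutatorElement π b Y.c).symm (hcent hz2Z b) (hcent hz2Z Y.c) _ _
  have h2 : π z2 ^ 1 = π z2 ^ (i * (a * a)) := by
    rw [pow_one]
    conv_lhs => rw [← hψz2, hz2, map_commutatorElement ψ, map_commutatorElement π, hψb, ψc, _root_.map_mul,
      _root_.map_pow, _root_.map_mul π _ (Y.c ^ (a * a)), _root_.map_pow π Y.c]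
    rw [comm_mul_right (v := π (Y.l ^ iθ * Y.h ^ jθ)) (by
        rw [comm_mul_left (by rw [h1]; exact ((hcent hz2Z m).pow_left _).symm) (hmc.pow_right _), h1]
        exact ((hcent hz2Z _).pow_left _).symm)
      (by rw [← _root_.map_pow, ← _root_.map_mul]; exact (hcent hu _).symm),
      comm_mul_left (by rw [h1]; exact ((hcent hz2Z m).pow_left _).symm) (hmc.pow_right _), h1]
  have h3 := pow_eq_pow_iff_modEq.1 h2
  rw [orderOf_eq_prime hz2p hz2ne, ← ZMod.natCast_eq_natCast_iff] at h3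
  push_cast at h3
  have h4 := Nat.le_of_dvd (by norm_num) (hgen 3 (by rw [h3, hia]; ring))
  omega

/-- The subcase where `Z(P)` is not spanned by `h`. -/
theorem false_of_h_not_center (hB : Y.IsCaseB) (hp5 : 5 ≤ p) (he4 : Y.e ∉ TC P (n - 4))
    (hh : Y.h ∉ center P) : False := by
  classical
  have h5 := Y.five_le
  have hZ : center P = LC P (n - 2) := Y.mc.center_eq
  have hlc : Y.l ∉ center P := fun hl => he4 (mem_TC_iff.2 fun u hu => by
    rw [← A_eq hB] at hu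
    obtain ⟨i, j, k, rfl⟩ := Y.span_A hu
    rw [show n - 4 + 2 = n - 2 by omega]
    set π := QuotientGroup.mk' (LC P (n - 2))
    refine (QuotientGroup.eq_one_iff _).1 ?_
    show π _ = 1
    have c1 : Commute (π Y.e) (π Y.c) := by
      rw [← commutatorElement_eq_one_iff_commute, ← map_commutatorElement]
      refine (QuotientGroup.eq_one_iff _).2 ?_
      rw [← commutatorElement_inv, commutatorElement_def Y.c Y.e, Y.c_e, mul_inv_cancel_right, ← hZ]
      exact inv_mem hl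
    have c2 : Commute (π Y.e) (π Y.l) := Y.commute_le.symm.map π
    have c3 : Commute (π Y.e) (π Y.h) := Y.commute_he.symm.map π
    rw [map_commutatorElement, commutatorElement_eq_one_iff_commute, _root_.map_mul, _root_.map_mul, _root_.map_pow,
      _root_.map_pow, _root_.map_pow]
    exact ((c2.pow_right i).mul_right (c3.pow_right j)).mul_right (c1.pow_right k))
  have hHA : LC P (n - 3) ≤ Y.A := by rw [A_eq hB]; exact LC_le (by omega)
  have hAn : Y.A.Normal := by rw [A_eq hB]; infer_instance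
  obtain ⟨ζ, hζ', hζne⟩ := Y.mc.exists_mem_not_mem (i := n - 2) (by omega) (by omega)
  have hζ : ζ ∈ center P := hZ ▸ hζ'
  have hζ1 : ζ ≠ 1 := fun e => hζne (e ▸ one_mem _)
  obtain ⟨i, q, hζe⟩ := span_Z2 hB (center_le_Z2 Y hζ)
  have hi : ¬ p ∣ i := by
    rintro ⟨i', rfl⟩
    rw [pow_mul, Y.exp_l, one_pow, one_mul] at hζe
    by_cases hq : p ∣ q
    · obtain ⟨q', rfl⟩ := hq
      rw [pow_mul, Y.exp_h, one_pow] at hζe
      exact hζ1 hζe
    · obtain ⟨k, hk⟩ := not_dvd_exists_pow Y.exp_h hq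
      exact hh (hk ▸ pow_mem (hζe ▸ hζ) k)
  have hζp : ζ ^ p = 1 := by
    rw [hζe, Y.commute_lh.pow_pow i q |>.mul_pow, ← pow_mul, ← pow_mul, mul_comm i, mul_comm q,
      pow_mul, pow_mul, Y.exp_l, Y.exp_h, one_pow, one_pow, one_mul]
  obtain ⟨a, a', haa, hgen⟩ := exists_gen p
  have ha1 : (a : ZMod p) ≠ 1 := fun e => by
    have := Nat.le_of_dvd one_pos (hgen 1 (by rw [e, one_pow]))
    omega
  obtain ⟨θ, hθ, hθA, θl, θh, -, -, -⟩ := theta_B hB haa
  obtain ⟨θ', hθ', hθ'A, hl', hr'⟩ := Y.map_inv hθ hθA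
  have h1 : ((a * a' : ℕ) : ZMod p) = ((1 : ℕ) : ZMod p) := by push_cast; exact haa
  have θl' : θ' Y.l = Y.l ^ a' := by
    rw [← hl' _ (pow_mem Y.l_mem_A a'), Y.map_pow hθ Y.l_mem_A, θl, ← pow_mul,
      pow_eq_of_cast Y.exp_l h1, pow_one]
  have θh' : θ' Y.h = Y.h := by
    conv_lhs => rw [← θh]
    exact hl' _ Y.h_mem_A
  -- an element moving `l` along the centre
  obtain ⟨b, -, hb⟩ := SetLike.exists_of_lt (lt_top_iff_ne_top.2
    (Y.mc.TC_ne_top (i := n - 3) (by omega) (by omega)))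
  obtain ⟨δ, hδ⟩ := pow_center Y.mc hζ hζ1 (x := ⁅b, Y.l⁆) (by
    rw [hZ]; exact LC_le (by omega) (comm_LC_right b (l_mem_Z2 hB)))
  have hδp : ¬ p ∣ δ := by
    rintro ⟨d, rfl⟩
    refine Y.mc.comm_not_mem (by omega) hb (l_mem_Z2 hB)
      (by rw [show n - 3 + 1 = n - 2 by omega, ← hZ]; exact hlc) ?_
    rw [hδ, pow_mul, hζp, one_pow]
    exact one_mem _
  set kk : ZMod p := ((δ : ZMod p) * i * ((a : ZMod p) - 1))⁻¹ with hkk
  set k := kk.val with hk
  have hkc : (k : ZMod p) * ((δ : ZMod p) * i * ((a : ZMod p) - 1)) = 1 := by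
    rw [hk, ZMod.natCast_zmod_val, hkk, inv_mul_cancel₀]
    refine mul_ne_zero (mul_ne_zero ?_ ?_) (sub_ne_zero.2 ha1)
    · exact fun e => hδp ((ZMod.natCast_eq_zero_iff _ _).1 e)
    · exact fun e => hi ((ZMod.natCast_eq_zero_iff _ _).1 e)
  have hbl : ∀ r : ℕ, b ^ r * Y.l * (b ^ r)⁻¹ = ζ ^ (δ * r) * Y.l := by
    intro r
    induction r with
    | zero => simp
    | succ r ih =>
      rw [show b ^ (r + 1) * Y.l * (b ^ (r + 1))⁻¹ = b * (b ^ r * Y.l * (b ^ r)⁻¹) * b⁻¹ by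
          rw [pow_succ']; group, ih,
        show b * (ζ ^ (δ * r) * Y.l) * b⁻¹ = b * ζ ^ (δ * r) * b⁻¹ * (b * Y.l * b⁻¹) by group,
        (show Commute b ζ from mem_center_iff.1 hζ b).pow_right (δ * r) |>.eq,
        mul_inv_cancel_right, conj_eq_comm_mul b Y.l, hδ, ← mul_assoc, ← pow_add, ← Nat.mul_succ]
  set φ : P → P := θ' ∘ cj (b ^ k) with hφdef
  have hcA : ∀ x ∈ Y.A, cj (b ^ k) x ∈ Y.A := fun x hx => hAn.conj_mem x hx _
  have hφ : Y.Map Y.A φ := Y.map_comp (Y.map_conj Y.A (b ^ k)) hθ' hcA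
  have hφA : ∀ x ∈ Y.A, φ x ∈ Y.A := fun x hx => hθ'A _ (hcA x hx)
  have hζA : ζ ∈ Y.A := hHA (center_le_Z2 Y hζ)
  have hφl : φ Y.l = ζ ^ (δ * k) := by
    simp only [hφdef, Function.comp_apply, cj]
    rw [hbl, Y.map_mul hθ' _ (pow_mem hζA _) _ Y.l_mem_A, Y.map_pow hθ' hζA, hζe,
      Y.map_mul hθ' _ (pow_mem Y.l_mem_A i) _ (pow_mem Y.h_mem_A q), Y.map_pow hθ' Y.l_mem_A,
      Y.map_pow hθ' Y.h_mem_A, θl', θh', ← pow_mul, Commute.mul_pow (Y.commute_lh.pow_pow _ _),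
      Commute.mul_pow (Y.commute_lh.pow_pow _ _), mul_assoc,
      ((Y.commute_lh.pow_pow a' q).symm.pow_left (δ * k)).eq, ← mul_assoc, ← pow_mul,
      ← pow_mul _ i, ← pow_add]
    congr 1
    refine pow_eq_of_cast Y.exp_l ?_
    push_cast
    linear_combination (δ : ZMod p) * k * i * haa
      - (a' : ZMod p) * hkc
  have hφZ2 : ∀ x ∈ LC P (n - 3), φ x ∈ LC P (n - 3) := by
    intro x hx
    have hx' : cj (b ^ k) x ∈ LC P (n - 3) :=
      (inferInstance : (LC P (n - 3)).Normal).conj_mem x hx _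
    obtain ⟨r, s, hrs⟩ := span_Z2 hB hx'
    simp only [hφdef, Function.comp_apply]
    rw [hrs, Y.map_mul hθ' _ (pow_mem Y.l_mem_A r) _ (pow_mem Y.h_mem_A s),
      Y.map_pow hθ' Y.l_mem_A, Y.map_pow hθ' Y.h_mem_A, θl', θh']
    exact mul_mem (pow_mem (pow_mem (l_mem_Z2 hB) a') r) (pow_mem (h_mem_Z2 hB) s)
  obtain ⟨φ', hφ', hφ'A, hlφ, hrφ⟩ := Y.map_inv hφ hφA
  have hφ'Z2 : ∀ x ∈ LC P (n - 3), φ' x ∈ LC P (n - 3) := by
    intro x hx
    have hin : Function.Injective fun y : LC P (n - 3) => (⟨φ y, hφZ2 y y.2⟩ : LC P (n - 3)) :=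
      fun u v huv => Subtype.ext
        (Y.map_inj hφ _ (hHA u.2) _ (hHA v.2) (congrArg Subtype.val huv))
    obtain ⟨y, hy⟩ := (Finite.injective_iff_bijective.1 hin).2 ⟨x, hx⟩
    rw [show x = φ y from (congrArg Subtype.val hy).symm, hlφ _ (hHA y.2)]
    exact y.2
  -- the image of conjugation by `e`
  have heA : ∀ x ∈ Y.A, cj Y.e x ∈ Y.A := fun x hx => hAn.conj_mem x hx _
  have hec : Y.e * Y.c * Y.e⁻¹ = Y.l⁻¹ * Y.c := by
    rw [eq_inv_mul_iff_mul_eq]
    have := Y.c_e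
    calc Y.l * (Y.e * Y.c * Y.e⁻¹) = (Y.l * Y.e) * Y.c * Y.e⁻¹ := by group
      _ = Y.c := by rw [← this]; group
  have hcomm : ∀ x ∈ Y.A, ⁅Y.e, x⁆ ∈ zpowers Y.l := by
    intro x hx
    obtain ⟨r, s, t, rfl⟩ := Y.span_A hx
    have hel : Commute Y.e (Y.l ^ r * Y.h ^ s) :=
      (Y.commute_le.symm.pow_right r).mul_right (Y.commute_he.symm.pow_right s)
    rw [comm_mul_right (v := Y.l ^ r * Y.h ^ s) (u := Y.e) ?_ hel]
    · rw [commutatorElement_def, ← conj_pow, hec,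
        (Commute.inv_left (show Commute Y.l Y.c from (Y.mem_A.1 Y.l_mem_A).2)).mul_pow,
        mul_inv_cancel_right]
      exact pow_mem (inv_mem (mem_zpowers _)) t
    · rw [commutatorElement_def, ← conj_pow, hec,
        (Commute.inv_left (show Commute Y.l Y.c from (Y.mem_A.1 Y.l_mem_A).2)).mul_pow,
        mul_inv_cancel_right]
      exact (((Commute.refl Y.l).pow_left r).mul_left
        (Y.commute_lh.symm.pow_left s)).inv_right.pow_right t
  set f : P → P := φ ∘ (cj Y.e ∘ φ') with hfdef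
  have hf : Y.Map Y.A f :=
    Y.map_comp (Y.map_comp hφ' (Y.map_conj Y.A Y.e) hφ'A) hφ fun x hx => heA _ (hφ'A x hx)
  have hfix2 : ∀ x ∈ LC P (n - 3), f x = x := fun x hx => by
    simp only [hfdef, Function.comp_apply, cj]
    rw [Y.comm_E _ Y.e_mem _ (hB.1 (hφ'Z2 x hx)), mul_inv_cancel_right, hrφ x (hHA hx)]
  have hfsmall : ∀ x ∈ Y.A, f x * x⁻¹ ∈ center P := by
    intro x hx
    obtain ⟨t, ht⟩ := (Submonoid.mem_powers_iff _ _).1
      (mem_powers_iff_mem_zpowers.2 (hcomm _ (hφ'A x hx)))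
    have h2 : f x * x⁻¹ = φ ⁅Y.e, φ' x⁆ := by
      simp only [hfdef, Function.comp_apply, cj]
      rw [show ⁅Y.e, φ' x⁆ = Y.e * φ' x * Y.e⁻¹ * (φ' x)⁻¹ from commutatorElement_def _ _,
        Y.map_mul hφ _ (show Y.e * φ' x * Y.e⁻¹ ∈ Y.A from heA _ (hφ'A x hx)) _
          (inv_mem (hφ'A x hx)), Y.map_inv' hφ (hφ'A x hx), hrφ x hx]
    rw [h2, ← ht, Y.map_pow hφ Y.l_mem_A, hφl]
    exact pow_mem (pow_mem hζ _) t
  obtain ⟨g1, hg1⟩ := conj_of_flag hB hp5 hf (fun x hx => hφA _ (heA _ (hφ'A x hx)))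
    (fun z hz => hfix2 z (center_le_Z2 Y hz)) (fun x hx => hfsmall x (hHA hx))
    (fun x hx => center_le_Z2 Y (hfsmall x hx))
  have hq : ∀ (r : ℕ), ∀ y ∈ Y.A,
      φ (Y.e ^ r * y * (Y.e ^ r)⁻¹) = g1 ^ r * φ y * (g1 ^ r)⁻¹ := by
    intro r
    induction r with
    | zero => simp
    | succ r ih =>
      intro y hy
      have hy' : Y.e * y * Y.e⁻¹ ∈ Y.A := heA y hy
      have h2 := hg1 (φ y) (hφA y hy)
      simp only [hfdef, Function.comp_apply, cj, hlφ y hy] at h2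
      rw [show Y.e ^ (r + 1) * y * (Y.e ^ (r + 1))⁻¹ =
          Y.e ^ r * (Y.e * y * Y.e⁻¹) * (Y.e ^ r)⁻¹ by rw [pow_succ]; group, ih _ hy', h2]
      group
  haveI := hAn
  have hAtop : normalizer (Y.A : Set P) = ⊤ := normalizer_eq_top Y.A
  obtain ⟨F, hF, hFx⟩ := Y.ext (Or.inr hAn) hφ hφA Y.A_le_N (hAtop.symm ▸ le_top) fun g hg => by
    obtain ⟨x, hx, t, rfl, -⟩ := Y.act_N hg
    obtain ⟨r, s, w, rfl⟩ := Y.span x hx
    refine ⟨g1 ^ w, fun y hy => ?_⟩
    have hlh : Y.l ^ r * Y.h ^ s ∈ Y.A := mul_mem (pow_mem Y.l_mem_A r) (pow_mem Y.h_mem_A s)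
    have hct : Y.c ^ t * y * (Y.c ^ t)⁻¹ = y := by
      rw [comm_A hB _ (pow_mem Y.c_mem_A t) _ hy, mul_inv_cancel_right]
    have he' : Y.e ^ w * y * (Y.e ^ w)⁻¹ ∈ Y.A := hAn.conj_mem y hy _
    rw [show Y.l ^ r * Y.h ^ s * Y.e ^ w * Y.c ^ t * y *
        (Y.l ^ r * Y.h ^ s * Y.e ^ w * Y.c ^ t)⁻¹ =
      Y.l ^ r * Y.h ^ s * (Y.e ^ w * (Y.c ^ t * y * (Y.c ^ t)⁻¹) * (Y.e ^ w)⁻¹) *
        (Y.l ^ r * Y.h ^ s)⁻¹ by group, hct, comm_A hB _ hlh _ he', mul_inv_cancel_right]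
    exact hq w y hy
  have heN := Y.le_N Y.e_mem
  -- the image of `e`
  have he' : ∀ x ∈ Y.A, F Y.e * x * (F Y.e)⁻¹ = f x := by
    intro x hx
    have h2 := Y.map_conj_apply hF heN (Y.A_le_N (hφ'A x hx))
    rw [hFx _ (show Y.e * φ' x * Y.e⁻¹ ∈ Y.A from heA _ (hφ'A x hx)), hFx _ (hφ'A x hx), hrφ x hx] at h2
    exact h2.symm
  have he3 : F Y.e ∈ TC P (n - 3) := mem_TC_iff.2 fun u hu => by
    rw [commutatorElement_def, he' u (hHA hu), hfix2 u hu, mul_inv_cancel]
    exact one_mem _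
  have he'4 : F Y.e ∈ TC P (n - 4) := mem_TC_iff.2 fun u hu => by
    rw [← A_eq hB] at hu
    rw [commutatorElement_def, he' u hu, show n - 4 + 2 = n - 2 by omega, ← hZ]
    exact hfsmall u hu
  have he'1 : F Y.e ∈ LC P 1 := line_inter Y.mc (LC_one_le_TC _)
    (Y.mc.TC_index (i := n - 3) (by omega) (by omega)) (LC_one_le_TC _)
    (fun hle => he4 (hle (e_mem_T3 hB))) he3 he'4
  let K : Subgroup P :=
    { carrier := {y | ∃ x ∈ Y.E, F x = y}
      one_mem' := ⟨1, Y.E.one_mem, Y.map_one hF⟩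
      mul_mem' := by
        rintro _ _ ⟨x, hx, rfl⟩ ⟨y, hy, rfl⟩
        exact ⟨x * y, mul_mem hx hy, Y.map_mul hF _ (Y.le_N hx) _ (Y.le_N hy)⟩
      inv_mem' := by
        rintro _ ⟨x, hx, rfl⟩
        exact ⟨x⁻¹, inv_mem hx, Y.map_inv' hF (Y.le_N hx)⟩ }
  have hKcard : Nat.card K = p ^ 3 := by
    rw [← Y.card_E]
    refine (Nat.card_congr (Equiv.ofBijective (fun x : Y.E => (⟨F x, x, x.2, rfl⟩ : K))
      ⟨fun x y hxy => Subtype.ext (Y.map_inj hF _ (Y.le_N x.2) _ (Y.le_N y.2)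
        (congrArg Subtype.val hxy)), ?_⟩)).symm
    rintro ⟨_, x, hx, rfl⟩
    exact ⟨⟨x, hx⟩, rfl⟩
  refine not_le_LC_one K hKcard (fun x hx => ?_) (Y.small hF Y.le_N K fun y => Iff.rfl) h5 Y.mc ?_
  · exact ⟨φ' x, hB.1 (hφ'Z2 x hx), by rw [hFx _ (hφ'A x (hHA hx)), hrφ x (hHA hx)]⟩
  · rintro _ ⟨x, hx, rfl⟩
    obtain ⟨r, s, w, rfl⟩ := Y.span x hx
    have hlh : Y.l ^ r * Y.h ^ s ∈ LC P (n - 3) :=
      mul_mem (pow_mem (l_mem_Z2 hB) r) (pow_mem (h_mem_Z2 hB) s)
    rw [Y.map_mul hF _ (Y.A_le_N (hHA hlh)) _ (pow_mem heN w), Y.map_pow hF heN,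
      hFx _ (hHA hlh)]
    exact mul_mem (LC_le (by omega) (hφZ2 _ hlh)) (pow_mem he'1 w)

/-- The subcase where `h` spans `Z(P)`. -/
theorem false_of_h_center (hB : Y.IsCaseB) (hp5 : 5 ≤ p) (he4 : Y.e ∉ TC P (n - 4))
    (hh : Y.h ∈ center P) : False := by
  classical
  have h5 := Y.five_le
  have hZ : center P = LC P (n - 2) := Y.mc.center_eq
  have he1 : Y.e ∉ LC P 1 := fun h => he4 (LC_one_le_TC _ h)
  have he3 := e_mem_T3 hB
  have hh1 : Y.h ≠ 1 := fun e => hp.out.not_dvd_one (Y.indep 0 1 0 (by simp [e])).2.1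
  have hlc : Y.l ∉ LC P (n - 2) := fun hl => by
    rw [← hZ] at hl
    obtain ⟨r, hr⟩ := pow_center Y.mc hh hh1 hl
    have h1 := Y.indep 1 (r * (p - 1)) 0 (by
      rw [pow_zero, mul_one, pow_one, hr, ← pow_add, add_comm r, ← Nat.mul_succ,
        Nat.succ_eq_add_one, Nat.sub_add_cancel hp.out.one_le, mul_comm, pow_mul, Y.exp_h, one_pow])
    exact hp.out.not_dvd_one h1.1
  set a := p - 1 with ha
  have hac : (a : ZMod p) = -1 := by
    rw [ha, Nat.cast_sub hp.out.one_le, ZMod.natCast_self, zero_sub, Nat.cast_one]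
  have haa : ((a : ZMod p) * (a : ZMod p)) = 1 := by rw [hac]; ring
  obtain ⟨ψ, hψs, ψl, ψh, iθ, jθ, ψc⟩ := flag_torus hB hp5 haa (Or.inr hh)
  have hψLC : ∀ i, ∀ x ∈ LC P i, ψ x ∈ LC P i := fun i x hx =>
    (map_LC ψ hψs i).le (mem_map_of_mem ψ hx)
  have hT3i := Y.mc.TC_index (i := n - 3) (by omega) (by omega)
  have hT4i := Y.mc.TC_index (i := n - 4) (by omega) (by omega)
  obtain ⟨b, hb4, hb1⟩ : ∃ b ∈ TC P (n - 4), b ∉ LC P 1 := by
    by_contra hc
    push Not at hc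
    have h1 := card_le_of_le (show TC P (n - 4) ≤ LC P 1 from hc)
    have h2 := (TC P (n - 4)).card_mul_index
    rw [hT4i, Y.mc.card_eq] at h2
    rw [Y.mc.card_LC le_rfl (by omega)] at h1
    have h3 : p ^ n ≤ p ^ (n - 1 - 1 + 1) := by
      rw [← h2, pow_succ]
      exact Nat.mul_le_mul_right p h1
    rw [Nat.pow_le_pow_iff_right hp.out.one_lt] at h3
    omega
  have hb3 : b ∉ TC P (n - 3) := fun hb => hb1 (line_inter Y.mc (LC_one_le_TC _) hT3i
    (LC_one_le_TC _) (fun hle => he4 (hle he3)) hb hb4)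
  have hbe : b ∉ zpowers Y.e ⊔ LC P 1 := fun hb =>
    hb3 ((sup_le (zpowers_le.2 he3) (LC_one_le_TC _)) hb)
  -- `ψ` inverts the Frattini quotient
  obtain ⟨s, y, hy, hψe⟩ := line_span Y.mc (LC_one_le_TC _) hT3i he1 he3 (map_TC ψ hψs he3)
  obtain ⟨r, y', hy', hψb⟩ := line_span Y.mc (LC_one_le_TC _) hT4i hb1 hb4 (map_TC ψ hψs hb4)
  have hs : (s : ZMod p) = a := by
    set π := QuotientGroup.mk' (LC P (n - 2))
    have hcent : ∀ {x : P}, x ∈ LC P (n - 3) → ∀ y, Commute (π x) (π y) := fun hx y => by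
      rw [← commutatorElement_eq_one_iff_commute, ← map_commutatorElement]
      refine (QuotientGroup.eq_one_iff _).2 ?_
      have := comm_LC_left hx y
      rwa [show n - 3 + 1 = n - 2 by omega] at this
    have hec : ⁅π Y.e, π Y.c⁆ = (π Y.l)⁻¹ := by
      rw [← commutatorElement_inv, ← map_commutatorElement, commutatorElement_def Y.c Y.e, Y.c_e,
        mul_inv_cancel_right]
    have hl' := inv_mem (l_mem_Z2 hB)
    have h1 : ⁅π Y.e ^ s, π Y.c ^ (a * a)⁆ = (π Y.l)⁻¹ ^ (s * (a * a)) :=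
      comm_pow_pow hec (by rw [← _root_.map_inv]; exact hcent hl' _) (by rw [← _root_.map_inv]; exact hcent hl' _)
        _ _
    have hyc : Commute (π y) (π Y.c) := by
      rw [← commutatorElement_eq_one_iff_commute, ← map_commutatorElement]
      exact (QuotientGroup.eq_one_iff _).2 (LC_le (by omega) (comm_LC hy hB.2 le_rfl))
    have hu : Y.l ^ iθ * Y.h ^ jθ ∈ LC P (n - 3) :=
      mul_mem (pow_mem (l_mem_Z2 hB) _) (pow_mem (h_mem_Z2 hB) _)
    have h2' : ⁅π y * π Y.e ^ s, π Y.c ^ (a * a)⁆ = (π Y.l)⁻¹ ^ (s * (a * a)) := by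
      rw [comm_mul_left (by rw [h1, ← _root_.map_inv]; exact ((hcent hl' y).pow_left _).symm)
        (hyc.pow_right _), h1]
    have h2 : (π Y.l)⁻¹ ^ a = (π Y.l)⁻¹ ^ (s * (a * a)) := by
      have h3 : π (ψ ⁅Y.e, Y.c⁆) = (π Y.l)⁻¹ ^ a := by
        rw [← commutatorElement_inv, commutatorElement_def Y.c Y.e, Y.c_e, mul_inv_cancel_right,
          _root_.map_inv ψ, ψl, _root_.map_inv, _root_.map_pow, inv_pow]
      rw [← h3, map_commutatorElement ψ, map_commutatorElement π, hψe, ψc, _root_.map_mul π y, _root_.map_pow π,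
        _root_.map_mul π _ (Y.c ^ (a * a)), _root_.map_pow π Y.c,
        comm_mul_right (v := π (Y.l ^ iθ * Y.h ^ jθ))
          (by rw [h2', ← _root_.map_inv, ← _root_.map_pow]; exact hcent hu _)
          (by rw [← _root_.map_pow, ← _root_.map_mul]; exact (hcent hu _).symm), h2']
    have hlp : (π Y.l)⁻¹ ^ p = 1 := by rw [inv_pow, ← _root_.map_pow, Y.exp_l, _root_.map_one, inv_one]
    have hord : orderOf (π Y.l)⁻¹ = p := orderOf_eq_prime hlp fun e =>
      hlc ((QuotientGroup.eq_one_iff _).1 (inv_eq_one.1 e))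
    have h3 := pow_eq_pow_iff_modEq.1 h2
    rw [hord, ← ZMod.natCast_eq_natCast_iff] at h3
    push_cast at h3
    rw [haa, mul_one] at h3
    exact h3.symm
  set z3 := ⁅b, Y.l⁆ with hz3
  have hz3c : z3 ∈ center P := by
    rw [hZ]; exact LC_le (by omega) (comm_LC_right b (l_mem_Z2 hB))
  have hz3ne : z3 ≠ 1 := fun e => Y.mc.comm_not_mem (by omega) hb3 (l_mem_Z2 hB)
    (by rw [show n - 3 + 1 = n - 2 by omega]; exact hlc) (by rw [← hz3, e]; exact one_mem _)
  have hz3x : ∀ x : P, Commute z3 x := fun x => (mem_center_iff.1 hz3c x).symm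
  have hr : (r : ZMod p) = a := by
    obtain ⟨w, hw⟩ := pow_center Y.mc hh hh1 hz3c
    have hz3p : z3 ^ p = 1 := by rw [hw, ← pow_mul, mul_comm, pow_mul, Y.exp_h, one_pow]
    have h1 : ⁅b ^ r, Y.l ^ a⁆ = z3 ^ (r * a) :=
      comm_pow_pow hz3.symm (hz3x b) (hz3x Y.l) _ _
    have hyl : Commute y' (Y.l ^ a) := by
      have h0 := comm_LC hy' (l_mem_Z2 hB) (k := n - 1) (by omega)
      rw [Y.mc.LC_eq_bot le_rfl, mem_bot] at h0
      exact (commutatorElement_eq_one_iff_commute.1 h0).pow_right a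
    have hψz : ψ z3 = z3 := by rw [hw, _root_.map_pow, ψh]
    have h2 : z3 ^ 1 = z3 ^ (r * a) := by
      rw [pow_one]
      conv_lhs => rw [← hψz, hz3, map_commutatorElement, hψb, ψl]
      rw [comm_mul_left (by rw [h1]; exact ((hz3x y').pow_left _).symm) hyl, h1]
    have h3 := pow_eq_pow_iff_modEq.1 h2
    rw [orderOf_eq_prime hz3p hz3ne, ← ZMod.natCast_eq_natCast_iff] at h3
    push_cast at h3
    linear_combination (-(r : ZMod p)) * haa - (a : ZMod p) * h3
  -- `e` acts injectively on the layers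
  have heT : ∀ i, 1 ≤ i → i + 4 ≤ n → Y.e ∉ TC P i := by
    intro i hi1 hin
    rcases Nat.lt_or_ge (i + 4) n with hlt | hge
    · intro hT
      have hmem : ∀ u : LC P i, ⁅(u : P), Y.e⁆ ∈ LC P (i + 2) := fun u => by
        rw [← commutatorElement_inv]
        exact inv_mem (mem_TC_iff.1 hT u u.2)
      have hAi : Y.A ≤ LC P i := by rw [A_eq hB]; exact LC_le (by omega)
      have hle2 : LC P (n - 3) ≤ LC P (i + 2) := LC_le (by omega)
      let G : LC P i ⧸ Y.A.subgroupOf (LC P i) →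
          LC P (i + 2) ⧸ (LC P (n - 3)).subgroupOf (LC P (i + 2)) :=
        fun u => QuotientGroup.mk ⟨_, hmem u.out⟩
      have hG : Function.Injective G := fun u v huv => by
        have h1 : ⁅(u.out : P), Y.e⁆⁻¹ * ⁅(v.out : P), Y.e⁆ ∈ LC P (n - 3) :=
          mem_subgroupOf.1 (QuotientGroup.eq.1 huv)
        set g := (u.out : P)⁻¹ * v.out with hg
        have h2 : ⁅g, Y.e⁆ ∈ LC P (n - 3) := by
          have h3 := (inferInstance : (LC P (n - 3)).Normal).conj_mem _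
            (inv_mem h1) ((u.out : P)⁻¹ * ⁅(u.out : P), Y.e⁆)
          have h4 : (u.out : P)⁻¹ * ⁅(u.out : P), Y.e⁆ *
              (⁅(u.out : P), Y.e⁆⁻¹ * ⁅(v.out : P), Y.e⁆)⁻¹ *
              ((u.out : P)⁻¹ * ⁅(u.out : P), Y.e⁆)⁻¹ = ⁅g, Y.e⁆⁻¹ := by
            rw [hg]; simp only [commutatorElement_def]; group
          rw [h4] at h3
          exact inv_mem_iff.1 h3
        have hgN : g ∈ normalizer (Y.E : Set P) := mem_normalizer_fintype fun x hx => by
          obtain ⟨i', j', q', rfl⟩ := Y.span x hx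
          have hu : Y.l ^ i' * Y.h ^ j' ∈ LC P (n - 3) :=
            mul_mem (pow_mem (l_mem_Z2 hB) _) (pow_mem (h_mem_Z2 hB) _)
          rw [show g * (Y.l ^ i' * Y.h ^ j' * Y.e ^ q') * g⁻¹ =
            g * (Y.l ^ i' * Y.h ^ j') * g⁻¹ * (⁅g, Y.e⁆ * Y.e) ^ q' by
              rw [← conj_eq_comm_mul, conj_pow]; group]
          exact mul_mem (hB.1 ((inferInstance : (LC P (n - 3)).Normal).conj_mem _ hu g))
            (pow_mem (mul_mem (hB.1 h2) Y.e_mem) q')
        have hgA : g ∈ Y.A := by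
          have hg1 : g ∈ LC P 1 := LC_le hi1 (mul_mem (inv_mem u.out.2) v.out.2)
          have hle : Y.A ≤ normalizer (Y.E : Set P) ⊓ LC P 1 :=
            le_inf Y.A_le_N (hAi.trans (LC_le hi1))
          refine (eq_of_le_of_card_ge hle ?_).ge ⟨hgN, hg1⟩
          have hlt' : Nat.card (normalizer (Y.E : Set P) ⊓ LC P 1 : Subgroup P) <
              Nat.card (normalizer (Y.E : Set P)) :=
            lt_of_le_of_ne (card_le_of_le inf_le_left) fun e => he1
              ((inf_le_right : normalizer (Y.E : Set P) ⊓ LC P 1 ≤ LC P 1)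
                ((eq_of_le_of_card_ge inf_le_left e.ge).ge (Y.le_N Y.e_mem)))
          obtain ⟨w, hw⟩ := (Y.isPGroup.to_subgroup
            (normalizer (Y.E : Set P) ⊓ LC P 1 : Subgroup P)).exists_card_eq
          rw [Y.card_N, hw, Nat.pow_lt_pow_iff_right hp.out.one_lt] at hlt'
          rw [hw, Y.card_A]
          exact Nat.pow_le_pow_right hp.out.pos (by omega)
        rw [← QuotientGroup.out_eq' u, ← QuotientGroup.out_eq' v]
        exact QuotientGroup.eq.2 (mem_subgroupOf.2 hgA)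
      have hc := Nat.card_le_card_of_injective G hG
      have e1 := (Y.A.subgroupOf (LC P i)).card_mul_index
      have e2 := ((LC P (n - 3)).subgroupOf (LC P (i + 2))).card_mul_index
      rw [Nat.card_congr (subgroupOfEquivOfLe hAi).toEquiv, Y.card_A,
        Y.mc.card_LC hi1 (by omega),
        show p ^ (n - 1 - i) = p ^ 3 * p ^ (n - 4 - i) by rw [← pow_add]; congr 1; omega] at e1
      rw [Nat.card_congr (subgroupOfEquivOfLe hle2).toEquiv, Y.mc.card_LC (by omega) (by omega),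
        Y.mc.card_LC (by omega) (by omega), show n - 1 - (n - 3) = 2 by omega,
        show p ^ (n - 1 - (i + 2)) = p ^ 2 * p ^ (n - 5 - i) by
          rw [← pow_add]; congr 1; omega] at e2
      rw [← index_eq_card, ← index_eq_card, Nat.eq_of_mul_eq_mul_left (pow_pos hp.out.pos 3) e1,
        Nat.eq_of_mul_eq_mul_left (pow_pos hp.out.pos 2) e2,
        Nat.pow_le_pow_iff_right hp.out.one_lt] at hc
      omega
    · rwa [show i = n - 4 by omega]
  -- the chain
  let v : ℕ → P := Nat.rec b fun _ x => ⁅Y.e, x⁆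
  have hv0 : v 0 = b := rfl
  have hvs : ∀ i, v (i + 1) = ⁅Y.e, v i⁆ := fun i => rfl
  have hv : ∀ i, i + 4 ≤ n → v i ∈ LC P i ∧ v i ∉ LC P (i + 1) := by
    intro i
    induction i with
    | zero => exact fun _ => ⟨mem_top _, hb1⟩
    | succ i ih =>
      intro hin
      obtain ⟨h1, h2⟩ := ih (by omega)
      refine ⟨hvs i ▸ comm_LC_right Y.e h1, ?_⟩
      rw [hvs]
      rcases Nat.eq_zero_or_pos i with rfl | hi
      · intro hc
        have htop : closure ({Y.e, b} : Set P) = ⊤ :=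
          Y.mc.eq_top_of_gen' he1 hbe (subset_closure (by simp)) (subset_closure (by simp))
        have h3 : ⁅closure ({Y.e, b} : Set P), closure ({Y.e, b} : Set P)⁆ ≤ LC P 2 := by
          refine commutator_closure_le ?_
          rintro x (rfl | rfl) z (rfl | rfl)
          · rw [commutatorElement_self]; exact one_mem _
          · exact hc
          · rw [← commutatorElement_inv]; exact inv_mem hc
          · rw [commutatorElement_self]; exact one_mem _
        rw [htop] at h3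
        obtain ⟨x, hx, hx'⟩ := Y.mc.exists_mem_not_mem (i := 1) le_rfl (by omega)
        exact hx' (h3 hx)
      · exact Y.mc.comm_not_mem hi (heT i hi (by omega)) h1 h2
  -- the scalars along the chain force `n` odd
  have hψv : ∀ i, i + 4 ≤ n → (v i ^ (a ^ (i + 1)))⁻¹ * ψ (v i) ∈ LC P (i + 1) := by
    intro i
    induction i with
    | zero =>
      intro _
      set π := QuotientGroup.mk' (LC P 1)
      refine (QuotientGroup.eq_one_iff _).1 ?_
      show π _ = 1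
      rw [hv0, hψb, zero_add, pow_one, _root_.map_mul, _root_.map_inv, _root_.map_mul, _root_.map_pow, _root_.map_pow,
        (show π y' = 1 from (QuotientGroup.eq_one_iff _).2 hy'), one_mul,
        pow_eq_of_cast (show π b ^ p = 1 by
          rw [← _root_.map_pow]; exact (QuotientGroup.eq_one_iff _).2 (Y.mc.pow_mem_LC_one b)) hr,
        inv_mul_cancel]
    | succ i ih =>
      intro hin
      obtain ⟨h1, h2⟩ := hv i (by omega)
      have h3 := ih (by omega)
      set π := QuotientGroup.mk' (LC P (i + 2))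
      have cz : ∀ {z : P}, z ∈ LC P (i + 1) → ∀ x, Commute (π z) (π x) := fun hz x => by
        rw [← commutatorElement_eq_one_iff_commute, ← map_commutatorElement]
        exact (QuotientGroup.eq_one_iff _).2 (comm_LC_left hz x)
      have hz1 : v (i + 1) ∈ LC P (i + 1) := (hv (i + 1) hin).1
      refine (QuotientGroup.eq_one_iff _).1 ?_
      show π _ = 1
      obtain ⟨w, hw, hψvi⟩ : ∃ w ∈ LC P (i + 1), ψ (v i) = v i ^ (a ^ (i + 1)) * w :=
        ⟨_, h3, (mul_inv_cancel_left _ _).symm⟩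
      have e1 : ⁅π Y.e ^ s, π (v i) ^ (a ^ (i + 1))⁆ = π (v (i + 1)) ^ (s * a ^ (i + 1)) :=
        comm_pow_pow (by rw [← map_commutatorElement, hvs]) (cz hz1 _) (cz hz1 _) _ _
      have hyv : Commute (π y) (π (v i)) := by
        rw [← commutatorElement_eq_one_iff_commute, ← map_commutatorElement]
        exact (QuotientGroup.eq_one_iff _).2 (comm_LC hy h1 (by omega))
      have e2 : ⁅π y * π Y.e ^ s, π (v i) ^ (a ^ (i + 1))⁆ =
          π (v (i + 1)) ^ (s * a ^ (i + 1)) := by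
        rw [comm_mul_left (by rw [e1]; exact ((cz hz1 y).pow_left _).symm) (hyv.pow_right _), e1]
      have hvp : π (v (i + 1)) ^ p = 1 := by
        have hle : LC P (i + 2) ≤ LC P (i + 1) := LC_le (by omega)
        set K := (LC P (i + 2)).subgroupOf (LC P (i + 1))
        have h4 := K.card_mul_index
        rw [Nat.card_congr (subgroupOfEquivOfLe hle).toEquiv,
          Y.mc.card_LC (by omega) (by omega), Y.mc.card_LC (by omega) (by omega),
          show n - 1 - (i + 1) = n - 1 - (i + 2) + 1 by omega, pow_succ] at h4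
        haveI : K.Normal := Normal.subgroupOf inferInstance _
        have h5 := K.pow_index_mem ⟨v (i + 1), hz1⟩
        rw [Nat.eq_of_mul_eq_mul_left (pow_pos hp.out.pos _) h4] at h5
        rw [← _root_.map_pow]
        exact (QuotientGroup.eq_one_iff _).2 (mem_subgroupOf.1 h5)
      rw [_root_.map_mul, _root_.map_inv, _root_.map_pow, hvs i, map_commutatorElement ψ, map_commutatorElement π Y.e (v i),
        map_commutatorElement π,
        hψe, hψvi, _root_.map_mul π y, _root_.map_pow π Y.e,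
        _root_.map_mul π (v i ^ (a ^ (i + 1))) w,
        _root_.map_pow π (v i),
        show π (v i) ^ (a ^ (i + 1)) * π w = π w * π (v i) ^ (a ^ (i + 1)) from
          ((cz hw (v i)).pow_right _).eq.symm,
        comm_mul_right (by rw [e2]; exact (cz hz1 w).symm.pow_right _)
          (by rw [← _root_.map_pow, ← _root_.map_mul]; exact (cz hw _).symm), e2, ← map_commutatorElement π,
        ← hvs i, pow_eq_of_cast hvp (show ((a ^ (i + 1 + 1) : ℕ) : ZMod p) =
          ((s * a ^ (i + 1) : ℕ) : ZMod p) by push_cast; rw [hs]; ring), inv_mul_cancel]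
  have hodd : Even (n - 3) := by
    obtain ⟨h1, h2⟩ := hv (n - 4) (by omega)
    have h3 := hψv (n - 4) (by omega)
    rw [show n - 4 + 1 = n - 3 by omega] at h2 h3
    rw [← A_eq hB] at h1
    set π := QuotientGroup.mk' (LC P (n - 3))
    have h4 : π (v (n - 4)) ^ (a ^ (n - 3)) = π (ψ (v (n - 4))) := by
      rw [← _root_.map_pow]
      exact QuotientGroup.eq.2 h3
    have hπl : π Y.l = 1 := (QuotientGroup.eq_one_iff _).2 (l_mem_Z2 hB)
    have hπh : π Y.h = 1 := (QuotientGroup.eq_one_iff _).2 (h_mem_Z2 hB)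
    have hπc : π Y.c ^ p = 1 := by
      rw [← _root_.map_pow]; exact (QuotientGroup.eq_one_iff _).2 (c_pow_p_mem hB)
    obtain ⟨i', j', t, hvt⟩ := Y.span_A h1
    have hvc : π (v (n - 4)) = π Y.c ^ t := by
      rw [hvt, _root_.map_mul, _root_.map_mul, _root_.map_pow, _root_.map_pow, _root_.map_pow, hπl, hπh, one_pow, one_pow, one_mul,
        one_mul]
    have h5 : π (ψ (v (n - 4))) = π Y.c ^ (a * a * t) := by
      rw [hvt, _root_.map_mul ψ, _root_.map_mul ψ, _root_.map_pow ψ, _root_.map_pow ψ, _root_.map_pow ψ, ψl, ψh, ψc]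
      simp only [_root_.map_mul, _root_.map_pow, hπl, hπh, one_pow, one_mul, ← pow_mul]
    rw [hvc, h5, ← pow_mul] at h4
    have h6 := pow_eq_pow_iff_modEq.1 h4
    rw [orderOf_eq_prime hπc fun e => c_not_Z2 hB ((QuotientGroup.eq_one_iff _).1 e),
      ← ZMod.natCast_eq_natCast_iff] at h6
    push_cast at h6
    rw [haa, one_mul] at h6
    have ht : (t : ZMod p) ≠ 0 := fun e => h2 ((QuotientGroup.eq_one_iff _).1 (by
      obtain ⟨t', rfl⟩ := (ZMod.natCast_eq_zero_iff _ _).1 e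
      show π _ = 1
      rw [hvc, pow_mul, hπc, one_pow]))
    have h7 : (-1 : ZMod p) ^ (n - 3) = 1 := by
      rw [← hac]
      exact mul_left_cancel₀ ht (by rw [h6, mul_one])
    by_contra hne
    rw [Odd.neg_one_pow (Nat.not_even_iff_odd.1 hne)] at h7
    have h8 : ((2 : ℕ) : ZMod p) = 0 := by
      push_cast
      linear_combination -h7
    have := Nat.le_of_dvd two_pos ((ZMod.natCast_eq_zero_iff _ _).1 h8)
    omega
  -- the pairing along the chain
  have hstep : ∀ i, 1 ≤ i → i + 5 ≤ n →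
      (⁅v i, v (n - 3 - i)⁆ = 1 ↔ ⁅v (i + 1), v (n - 4 - i)⁆ = 1) := by
    intro i hi1 hin
    set j := n - 4 - i with hj
    rw [show n - 3 - i = j + 1 by omega]
    have hvi := (hv i (by omega)).1
    have hvi' := (hv (i + 1) (by omega)).1
    have hvj := (hv j (by omega)).1
    have hvj' := (hv (j + 1) (by omega)).1
    have hbot : ∀ {x y : P} {u w : ℕ}, x ∈ LC P u → y ∈ LC P w → n - 1 ≤ u + w + 1 →
        ⁅x, y⁆ = 1 := fun hx hy h => by
      have := comm_LC hx hy h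
      rwa [Y.mc.LC_eq_bot le_rfl, mem_bot] at this
    set w := ⁅v i, v j⁆ with hw
    have hwZ : w ∈ LC P (n - 3) := comm_LC hvi hvj (by omega)
    have hwfix : Y.e * w * Y.e⁻¹ = w := by
      rw [Y.comm_E _ Y.e_mem _ (hB.1 hwZ), mul_inv_cancel_right]
    set f1 := ⁅v i, v (j + 1)⁆ with hf1
    set f2 := ⁅v (i + 1), v j⁆ with hf2
    have hf1c : f1 ∈ center P := by rw [hZ]; exact comm_LC hvi hvj' (by omega)
    have hf2c : f2 ∈ center P := by rw [hZ]; exact comm_LC hvi' hvj (by omega)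
    have hcw : ∀ {x : P} {u : ℕ}, x ∈ LC P u → 1 ≤ u → Commute x w := fun hx hu =>
      commutatorElement_eq_one_iff_commute.1 (hbot hx hwZ (by omega))
    have hexp : ⁅v (i + 1) * v i, v (j + 1) * v j⁆ = f1 * w * f2 := by
      have e1 : ⁅v i, v (j + 1) * v j⁆ = f1 * w := by
        rw [show ⁅v i, v (j + 1) * v j⁆ = f1 * (v (j + 1) * w * (v (j + 1))⁻¹) by
          simp only [hf1, hw, commutatorElement_def]; group,
          (hcw hvj' (by omega)).eq, mul_inv_cancel_right]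
      have e2 : ⁅v (i + 1), v (j + 1) * v j⁆ = f2 := by
        rw [show ⁅v (i + 1), v (j + 1) * v j⁆ =
            ⁅v (i + 1), v (j + 1)⁆ * (v (j + 1) * f2 * (v (j + 1))⁻¹) by
          simp only [hf2, commutatorElement_def]; group,
          hbot hvi' hvj' (by omega), one_mul, mem_center_iff.1 hf2c _, mul_inv_cancel_right]
      have e3 : Commute (v (i + 1)) (f1 * w) :=
        (show Commute (v (i + 1)) f1 from mem_center_iff.1 hf1c _).mul_right (hcw hvi' (by omega))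
      rw [show ⁅v (i + 1) * v i, v (j + 1) * v j⁆ = v (i + 1) * ⁅v i, v (j + 1) * v j⁆ *
          (v (i + 1))⁻¹ * ⁅v (i + 1), v (j + 1) * v j⁆ by
        simp only [commutatorElement_def]; group, e1, e2, e3.eq, mul_inv_cancel_right]
    have hconj : ⁅v (i + 1) * v i, v (j + 1) * v j⁆ = w := by
      rw [hvs i, hvs j, ← conj_eq_comm_mul, ← conj_eq_comm_mul,
        show ⁅Y.e * v i * Y.e⁻¹, Y.e * v j * Y.e⁻¹⁆ = Y.e * ⁅v i, v j⁆ * Y.e⁻¹ by
          simp only [commutatorElement_def]; group]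
      exact hwfix
    rw [hexp, ← mem_center_iff.1 hf1c w, mul_assoc, mul_eq_left] at hconj
    constructor <;> intro h
    · rwa [h, one_mul] at hconj
    · rwa [h, mul_one] at hconj
  have hiff : ∀ i, 1 ≤ i → i + 4 ≤ n →
      (⁅v i, v (n - 3 - i)⁆ = 1 ↔ ⁅v 1, v (n - 4)⁆ = 1) := by
    intro i hi1
    induction i, hi1 using Nat.le_induction with
    | base => intro _; rw [show n - 3 - 1 = n - 4 by omega]
    | succ i hi1 ih =>
      intro hin
      rw [← ih (by omega), hstep i hi1 (by omega), show n - 3 - (i + 1) = n - 4 - i by omega]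
  obtain ⟨t, ht⟩ := hodd
  have hf1 : ⁅v 1, v (n - 4)⁆ = 1 := (hiff t (by omega) (by omega)).1 (by
    rw [show n - 3 - t = t by omega, commutatorElement_self])
  -- `v 1` centralizes `c`
  have hv1c : Commute (v 1) Y.c := by
    obtain ⟨h1, h2⟩ := hv (n - 4) (by omega)
    obtain ⟨u, hu, z, hz, hcz⟩ := mem_sup_of_normal_right.1 (Y.mc.LC_gen (by omega) h1 h2 hB.2)
    obtain ⟨t', rfl⟩ := mem_zpowers_iff.1 hu
    rw [← hcz]
    refine ((commutatorElement_eq_one_iff_commute.1 hf1).zpow_right t').mul_right ?_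
    have h3 := comm_LC (hv 1 (by omega)).1 hz (k := n - 1) (by omega)
    rw [Y.mc.LC_eq_bot le_rfl, mem_bot] at h3
    exact commutatorElement_eq_one_iff_commute.1 h3
  have hv1l : Commute (v 1) Y.l := by
    have h3 := comm_LC (hv 1 (by omega)).1 (l_mem_Z2 hB) (k := n - 1) (by omega)
    rw [Y.mc.LC_eq_bot le_rfl, mem_bot] at h3
    exact commutatorElement_eq_one_iff_commute.1 h3
  -- but `e` and `b` do not commute on `A`
  set z := ⁅b, Y.c⁆ with hz
  have hzc : z ∈ center P := by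
    rw [hZ]
    have := mem_TC_iff.1 hb4 Y.c hB.2
    rwa [show n - 4 + 2 = n - 2 by omega] at this
  have hzx : ∀ x : P, Commute z x := fun x => (mem_center_iff.1 hzc x).symm
  have hec : Y.e * Y.c * Y.e⁻¹ = Y.l⁻¹ * Y.c := by
    rw [eq_inv_mul_iff_mul_eq]
    calc Y.l * (Y.e * Y.c * Y.e⁻¹) = (Y.l * Y.e) * Y.c * Y.e⁻¹ := by group
      _ = Y.c := by rw [← Y.c_e]; group
  have h1 : (Y.e * b) * Y.c * (Y.e * b)⁻¹ = z * (Y.l⁻¹ * Y.c) := by
    rw [show (Y.e * b) * Y.c * (Y.e * b)⁻¹ = Y.e * (b * Y.c * b⁻¹) * Y.e⁻¹ by group,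
      conj_eq_comm_mul b Y.c, ← hz,
      show Y.e * (z * Y.c) * Y.e⁻¹ = Y.e * z * Y.e⁻¹ * (Y.e * Y.c * Y.e⁻¹) by group, hec,
      (hzx Y.e).symm.eq, mul_inv_cancel_right]
  have hkey : (Y.l⁻¹ * z3⁻¹) * (z * Y.c) = z * (Y.l⁻¹ * Y.c) := by
    rw [← h1, show (Y.e * b) * Y.c * (Y.e * b)⁻¹ =
        v 1 * (b * (Y.e * Y.c * Y.e⁻¹) * b⁻¹) * (v 1)⁻¹ by
      rw [show v 1 = ⁅Y.e, v 0⁆ from rfl, hv0, commutatorElement_def]; group,
      hec, show b * (Y.l⁻¹ * Y.c) * b⁻¹ = (b * Y.l * b⁻¹)⁻¹ * (b * Y.c * b⁻¹) by group,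
      conj_eq_comm_mul b Y.l, conj_eq_comm_mul b Y.c, ← hz, ← hz3, mul_inv_rev]
    have hc' : Commute (v 1) (Y.l⁻¹ * z3⁻¹ * (z * Y.c)) :=
      (hv1l.inv_right.mul_right (hz3x _).symm.inv_right).mul_right
        ((hzx _).symm.mul_right hv1c)
    rw [hc'.eq, mul_inv_cancel_right]
  rw [← mul_assoc z, (hzx Y.l⁻¹).eq, ← mul_assoc, mul_left_inj, mul_assoc, mul_right_inj,
    mul_eq_right, inv_eq_one] at hkey
  exact hz3ne hkey

theorem not_caseB (hB : Y.IsCaseB) (hp5 : 5 ≤ p) : False := by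
  by_cases hh : Y.h ∈ center P
  · exact false_of_h_center hB hp5 (not_e_mem_T4 hB hp5) hh
  · exact false_of_h_not_center hB hp5 (not_e_mem_T4 hB hp5) hh

end CubeSys

end CfsgLib.MaxClassEss
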