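import Cfsg.Agent.Lib.MaxClassEss.CaseA
import Cfsg.Agent.Lib.MaxClassEss.CaseB
import Cfsg.Agent.Lib.Fusion.EssentialCube
import Cfsg.Agent.Lib.Fusion.Centric

/-!
An elementary abelian essential subgroup of order `p³` does not occur in a group of maximal class
of order at least `p⁵` when `p ≥ 5`.
-/

set_option autoImplicit false
set_option linter.style.haveILetI false
set_option linter.unusedSectionVars false

namespace CfsgLib.MaxClassEss

open Subgroup CfsgLib.Fusion CfsgLib.Coprime.MaxClassUniform Cfsg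
open scoped commutatorElement

variable {Ω : Type*} [Group Ω] {S : Subgroup Ω} [Finite S] {F : FusionSystem S}
  {p : ℕ} [hp : Fact p.Prime]

theorem isMC_of_class {n : ℕ} (hn : Nat.card S = p ^ n) (h3 : 3 ≤ n)
    (hmax : Subgroup.lowerCentralSeries S (n - 2) ≠ ⊥) : IsMC p n S := by
  refine ⟨h3, hn, le_antisymm ((CfsgLib.Transfer.nilpotencyClass_le_of_card hn).trans
    (max_le le_rfl (by omega))) ?_⟩
  by_contra hc
  haveI := (IsPGroup.of_card hn).isNilpotent
  refine hmax ?_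
  have h := Subgroup.lowerCentralSeries_eq_bot_iff_nilpotencyClass_le.2
    (show Group.nilpotencyClass S ≤ n - 2 by omega)
  rw [← top_subtype_lowerCentralSeries, h, Subgroup.map_bot]

/-- Maps of `F` read on `↥S`. -/
def MapS (F : FusionSystem S) (Q : Subgroup S) (f : S → S) : Prop :=
  ∃ g : Ω → Ω, IsMap F (Q.map S.subtype) g ∧ ∀ x ∈ Q, g (x : Ω) = (f x : S)

theorem mapS_of_isMap {Q : Subgroup S} {g : Ω → Ω} (hg : IsMap F (Q.map S.subtype) g) :
    ∃ f : S → S, MapS F Q f ∧ ∀ x ∈ Q, (f x : Ω) = g x := by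
  classical
  refine ⟨fun x => if hx : x ∈ Q then ⟨g x, hg.mem (mem_map_of_mem _ hx)⟩ else 1,
    ⟨g, hg, fun x hx => ?_⟩, fun x hx => ?_⟩
  · simp only [dif_pos hx]
  · simp only [dif_pos hx]

theorem coe_mem_map {Q : Subgroup S} {x : S} : (x : Ω) ∈ Q.map S.subtype ↔ x ∈ Q :=
  Subgroup.mem_map_iff_mem S.subtype_injective

theorem mem_coe {Q : Subgroup S} {x : S} (hx : x ∈ Q) : (x : Ω) ∈ Q.map S.subtype :=
  coe_mem_map.2 hx

theorem img_eq_of_stable {Q : Subgroup S} {f : S → S} {g : Ω → Ω}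
    (hg : IsMap F (Q.map S.subtype) g) (hgf : ∀ x ∈ Q, g (x : Ω) = (f x : S))
    (hfQ : ∀ x ∈ Q, f x ∈ Q) : img (Q.map S.subtype) g = Q.map S.subtype := by
  haveI := finite_of_le (S := S) (map_subtype_le Q)
  refine CfsgLib.Fusion.eq_of_le_of_card_le (fun y hy => ?_) hg.card_img.ge
  obtain ⟨_, ⟨x, hx, rfl⟩, rfl⟩ := hg.mem_img.1 hy
  exact ⟨f x, hfQ x hx, (hgf x hx).symm⟩

theorem fullyNormalized_normal (F : FusionSystem S) {Q : Subgroup S} (hQ : Q.Normal) :
    F.IsFullyNormalized (Q.map S.subtype) := by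
  refine ⟨map_subtype_le Q, fun R _ => ?_⟩
  have h : FusionSystem.normalizerIn S (Q.map S.subtype) = S := by
    refine le_antisymm inf_le_left fun a ha => ⟨ha, ?_⟩
    haveI := finite_of_le (S := S) (map_subtype_le Q)
    haveI : Finite (Q.map S.subtype : Set Ω) :=
      inferInstanceAs (Finite (Q.map S.subtype : Subgroup Ω))
    refine mem_normalizer_fintype ?_
    rintro _ ⟨x, hx, rfl⟩
    exact ⟨⟨a, ha⟩ * x * ⟨a, ha⟩⁻¹, hQ.conj_mem x hx _, rfl⟩
  rw [h]
  exact Subgroup.card_le_of_le inf_le_left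

section Fields

variable (hS : IsPGroup p S) (hF : F.IsSaturated p) {E : Subgroup S}
  (hE : F.IsEssential p (E.map S.subtype))
include hS hF hE

theorem receptive_S {Q : Subgroup S} (h : E ≤ Q ∨ Q.Normal) :
    F.IsReceptive (Q.map S.subtype) := by
  rcases h with h | h
  · exact receptive_of_fullyCentralized hS hF
      (centric_fullyCentralized (centric_of_le hE.1 (Subgroup.map_mono h) (map_subtype_le Q)))
  · exact receptive_of_fullyNormalized hS hF (fullyNormalized_normal F h)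

theorem automized_S {Q : Subgroup S} (h : Q = E ∨ Q.Normal) :
    F.IsFullyAutomized p (Q.map S.subtype) := by
  rcases h with rfl | h
  · exact fullyAutomized_of_fullyNormalized hS hF hE.2.1
  · exact fullyAutomized_of_fullyNormalized hS hF (fullyNormalized_normal F h)

theorem ext_S {Q R : Subgroup S} {f : S → S} (hQ : E ≤ Q ∨ Q.Normal) (hf : MapS F Q f)
    (hfQ : ∀ x ∈ Q, f x ∈ Q) (hQR : Q ≤ R) (hR : R ≤ normalizer (Q : Set S))
    (hconj : ∀ g ∈ R, ∃ g', ∀ x ∈ Q, f (g * x * g⁻¹) = g' * f x * g'⁻¹) :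
    ∃ f', MapS F R f' ∧ ∀ x ∈ Q, f' x = f x := by
  obtain ⟨g, hg, hgf⟩ := hf
  obtain ⟨g', hg', hg'x⟩ := receptive_extend (receptive_S hS hF hE hQ) hg
    (img_eq_of_stable hg hgf hfQ) (R := R.map S.subtype) (Subgroup.map_mono hQR) (by
      rintro _ ⟨a, ha, rfl⟩
      haveI := finite_of_le (map_subtype_le Q)
      haveI : Finite (Q.map S.subtype : Set Ω) :=
        inferInstanceAs (Finite (Q.map S.subtype : Subgroup Ω))
      refine ⟨a.2, mem_normalizer_fintype ?_, ?_⟩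
      · rintro _ ⟨x, hx, rfl⟩
        exact ⟨a * x * a⁻¹, (hR ha x).1 hx, rfl⟩
      · obtain ⟨b, hb⟩ := hconj a ha
        refine ⟨b, b.2, ?_⟩
        rintro _ ⟨x, hx, rfl⟩
        have h1 := hgf _ ((hR ha x).1 hx)
        simp only [coe_mul, coe_inv, coe_subtype] at h1 ⊢
        rw [h1, hgf x hx, hb x hx]
        simp)
  obtain ⟨f', hf', hf'g⟩ := mapS_of_isMap hg'
  exact ⟨f', hf', fun x hx => Subtype.ext (by
    rw [hf'g x (hQR hx), hg'x _ (mem_coe hx), hgf x hx])⟩

theorem syl_S {Q : Subgroup S} (hQ : Q = E ∨ Q.Normal) (U : (S → S) → Prop)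
    (hcomp : ∀ f g, (∀ x ∈ Q, f x ∈ Q) → (∀ x ∈ Q, g x ∈ Q) → U f → U g → U (f ∘ g))
    (hcongr : ∀ f g, (∀ x ∈ Q, f x = g x) → U f → U g)
    (hconj : ∀ g ∈ normalizer (Q : Set S), U (cj g))
    (hexp : ∀ f, MapS F Q f → (∀ x ∈ Q, f x ∈ Q) → U f → ∀ x ∈ Q, f^[p] x = x)
    (f : S → S) (hf : MapS F Q f) (hfQ : ∀ x ∈ Q, f x ∈ Q) (hUf : U f) :
    ∃ g ∈ normalizer (Q : Set S), ∀ x ∈ Q, f x = g * x * g⁻¹ := by
  classical
  set Q' : Subgroup Ω := Q.map S.subtype with hQ'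
  have hQS : Q' ≤ S := map_subtype_le Q
  haveI := finite_of_le hQS
  let lift : MulAut Q' → S → S := fun α x =>
    if hx : x ∈ Q then ⟨(α ⟨x, mem_coe hx⟩ : Q'), hQS (α _).2⟩ else 1
  have hlift : ∀ α : MulAut Q', ∀ x (hx : x ∈ Q),
      (lift α x : Ω) = (α ⟨x, mem_coe hx⟩ : Q') := fun α x hx => by
    show ((dite _ _ _ : S) : Ω) = _
    rw [dif_pos hx]
  have hliftQ : ∀ α : MulAut Q', ∀ x ∈ Q, lift α x ∈ Q := fun α x hx =>
    coe_mem_map.1 ((hlift α x hx) ▸ (α _).2)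
  have hliftmul : ∀ α β : MulAut Q', ∀ x ∈ Q, lift (α * β) x = lift α (lift β x) :=
    fun α β x hx => Subtype.ext (by
      rw [hlift _ _ hx, hlift _ _ (hliftQ β x hx), MulAut.mul_apply]
      congr 2
      exact Subtype.ext (hlift β x hx).symm)
  have hlift1 : ∀ x ∈ Q, lift 1 x = x := fun x hx => Subtype.ext (by rw [hlift _ _ hx]; rfl)
  let M : Submonoid (MulAut Q') :=
    { carrier := {α | α ∈ F.autGroup Q' ∧ U (lift α)}
      one_mem' := ⟨one_mem _, hcongr _ _ (fun x hx => by rw [hlift1 x hx, cj]; group)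
        (hconj 1 (one_mem _))⟩
      mul_mem' := fun {α β} hα hβ => ⟨mul_mem hα.1 hβ.1, hcongr _ _
        (fun x hx => (hliftmul α β x hx).symm) (hcomp _ _ (hliftQ α) (hliftQ β) hα.2 hβ.2)⟩ }
  let K : Subgroup (MulAut Q') :=
    { M with
      inv_mem' := fun {α} hα => by
        have h1 : α⁻¹ = α ^ (orderOf α - 1) := by
          refine inv_eq_of_mul_eq_one_right ?_
          rw [← pow_succ', Nat.sub_add_cancel (orderOf_pos α), pow_orderOf_eq_one]
        rw [h1]
        exact M.pow_mem hα _ }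
  have hK : ∀ {α}, α ∈ K ↔ α ∈ F.autGroup Q' ∧ U (lift α) := Iff.rfl
  have hmapS : ∀ α ∈ F.autGroup Q', MapS F Q (lift α) := fun α hα =>
    ⟨_, isMap_of_autGroup hQS hα, fun x hx => by
      rw [toFun_aut_apply α (mem_coe hx), hlift α x hx]⟩
  have hKp : IsPGroup p K := fun ⟨α, hα⟩ => ⟨1, Subtype.ext (by
    rw [pow_one]
    show α ^ p = 1
    refine MulEquiv.ext fun u => Subtype.ext ?_
    obtain ⟨_, x, hx, rfl⟩ := u
    have hit : ∀ k : ℕ, lift (α ^ k) x = (lift α)^[k] x := by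
      intro k
      induction k with
      | zero => rw [pow_zero, hlift1 x hx]; rfl
      | succ k ih => rw [pow_succ', hliftmul _ _ x hx, ih, Function.iterate_succ_apply']
    have h1 := congrArg Subtype.val
      ((hit p).trans (hexp _ (hmapS α (hK.1 hα).1) (hliftQ α) (hK.1 hα).2 x hx))
    rw [hlift _ _ hx] at h1
    exact h1)⟩
  have hind : autInducedBy S Q' ≤ K := fun α hα => by
    obtain ⟨g, hg, hgx⟩ := mem_autInducedBy_iff.1 hα
    refine hK.2 ⟨autInducedBy_le_autGroup hQS hα, hcongr _ _ (fun x hx => Subtype.ext ?_)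
      (hconj ⟨g, hg⟩ (mem_normalizer_fintype fun x hx => coe_mem_map.1 ?_))⟩
    · rw [hlift _ _ hx, hgx]
      simp [cj]
    · have h1 := hgx ⟨x, mem_coe hx⟩
      simp only [coe_mul, coe_inv]
      exact h1 ▸ (α _).2
  obtain ⟨β, -, hβ⟩ :=
    exists_conj_le_autInducedBy (automized_S hS hF hE hQ) K hKp fun α hα => (hK.1 hα).1
  have heq : autInducedBy S Q' = K := by
    refine Subgroup.eq_of_le_of_card_ge hind ?_
    rw [← card_map_of_injective (K := K) (f := (MulAut.conj β).toMonoidHom)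
      (MulAut.conj β).injective]
    refine Subgroup.card_le_of_le ?_
    rintro _ ⟨κ, hκ, rfl⟩
    exact hβ κ hκ
  -- the given map
  obtain ⟨g, hg, hgf⟩ := hf
  have hi := img_eq_of_stable hg hgf hfQ
  have hα : hg.toAut hi ∈ K := hK.2 ⟨hg.toAut_mem hi, hcongr _ _ (fun x hx => Subtype.ext (by
    rw [hlift _ _ hx, IsMap.toAut_apply, hgf x hx])) hUf⟩
  rw [← heq] at hα
  obtain ⟨a, ha, hax⟩ := mem_autInducedBy_iff.1 hα
  refine ⟨⟨a, ha⟩, mem_normalizer_fintype fun x hx => coe_mem_map.1 ?_, fun x hx => Subtype.ext ?_⟩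
  · have h1 := hax ⟨x, mem_coe hx⟩
    simp only [coe_mul, coe_inv]
    exact h1 ▸ (hg.toAut hi _).2
  · have h1 := hax ⟨x, mem_coe hx⟩
    rw [IsMap.toAut_apply] at h1
    simp only [coe_mul, coe_inv]
    rw [← hgf x hx]
    exact h1

theorem agree_S {Q : Subgroup S} {f g : S → S} (hEQ : E ≤ Q) (hf : MapS F Q f) (hg : MapS F Q g)
    (h : ∀ x ∈ E, f x = g x) : ∃ z ∈ E, ∀ y ∈ Q, g y = f (z * y * z⁻¹) := by
  obtain ⟨f₁, hf₁, hff⟩ := hf
  obtain ⟨g₁, hg₁, hgg⟩ := hg
  obtain ⟨z, ⟨z₀, hz₀, hz⟩, -, hzy⟩ := exists_conj_of_agree hS hF hE.1 (Subgroup.map_mono hEQ)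
    hf₁ hg₁ (by
      rintro _ ⟨x, hx, rfl⟩
      show f₁ (x : Ω) = g₁ (x : Ω)
      rw [hff x (hEQ hx), hgg x (hEQ hx), h x hx])
  refine ⟨z₀, hz₀, fun y hy => Subtype.ext ?_⟩
  have h1 := hzy y (mem_coe hy)
  rw [← hgg y hy, ← hff _ (mul_mem (mul_mem (hEQ hz₀) hy) (inv_mem (hEQ hz₀))), h1, ← hz]
  simp

theorem small_S {R : Subgroup S} {f : S → S} (hf : MapS F R f) (hER : E ≤ R) (K : Subgroup S)
    (hK : ∀ y, y ∈ K ↔ ∃ x ∈ E, f x = y) :
    Nat.card (normalizer (K : Set S)) ≤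
      Nat.card (FusionSystem.normalizerIn S (E.map S.subtype)) := by
  obtain ⟨g, hg, hgf⟩ := hf
  have hg' := hg.mono (Subgroup.map_mono (f := S.subtype) hER)
  have hi : img (E.map S.subtype) g = K.map S.subtype := by
    ext z
    rw [hg'.mem_img]
    constructor
    · rintro ⟨_, ⟨x, hx, rfl⟩, rfl⟩
      exact ⟨f x, (hK _).2 ⟨x, hx, rfl⟩, (hgf x (hER hx)).symm⟩
    · rintro ⟨y, hy, rfl⟩
      obtain ⟨x, hx, rfl⟩ := (hK y).1 hy
      exact ⟨x, mem_coe hx, hgf x (hER hx)⟩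
  refine le_trans ?_ (hE.2.1.2 _ (hi ▸ hg'.isConj))
  haveI : Finite (FusionSystem.normalizerIn S (K.map S.subtype)) := finite_of_le inf_le_left
  refine Nat.card_le_card_of_injective (fun x => ⟨((x : S) : Ω), (x : S).2, ?_⟩) fun x y h =>
    Subtype.ext (Subtype.ext (congrArg (fun t : FusionSystem.normalizerIn S (K.map S.subtype) =>
      (t : Ω)) h))
  haveI := finite_of_le (map_subtype_le K)
  haveI : Finite (K.map S.subtype : Set Ω) :=
    inferInstanceAs (Finite (K.map S.subtype : Subgroup Ω))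
  refine mem_normalizer_fintype ?_
  rintro _ ⟨y, hy, rfl⟩
  exact ⟨(x : S) * y * (x : S)⁻¹, (x.2 y).1 hy, rfl⟩

end Fields

theorem normalizerIn_map (E : Subgroup S) :
    FusionSystem.normalizerIn S (E.map S.subtype) = (normalizer (E : Set S)).map S.subtype := by
  refine le_antisymm (fun a ha => ?_) ?_
  · refine ⟨⟨a, ha.1⟩, mem_normalizer_fintype fun x hx => coe_mem_map.1 ?_, rfl⟩
    simp only [coe_mul, coe_inv]
    exact (ha.2 _).1 (mem_coe hx)
  · rintro _ ⟨a, ha, rfl⟩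
    haveI := finite_of_le (map_subtype_le E)
    haveI : Finite (E.map S.subtype : Set Ω) :=
      inferInstanceAs (Finite (E.map S.subtype : Subgroup Ω))
    refine ⟨a.2, mem_normalizer_fintype ?_⟩
    rintro _ ⟨x, hx, rfl⟩
    exact ⟨a * x * a⁻¹, (ha x).1 hx, rfl⟩

/-- The abstract system attached to a transvection `c`. -/
theorem exists_cubeSys (hS : IsPGroup p S) (hF : F.IsSaturated p) {n : ℕ} (hmc : IsMC p n S)
    (h5 : 5 ≤ n) {E : Subgroup S} (hE : F.IsEssential p (E.map S.subtype))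
    (hel : Cfsg.IsElementaryAbelian p (E.map S.subtype)) (hcard : Nat.card E = p ^ 3)
    {c : S} (hc : c ∈ normalizer (E : Set S)) (hcE : c ∉ E) {L : Subgroup S}
    (hL : Nat.card L = p) (hLE : L ≤ E) (hcL : ∀ x ∈ E, ⁅c, x⁆ ∈ L) :
    ∃ Y : CubeSys p n S, Y.E = E ∧ Y.c = c := by
  have hcardE : Nat.card (E.map S.subtype) = p ^ 3 := by
    rw [card_map_of_injective S.subtype_injective, hcard]
  obtain ⟨hN, l, h, e, hl, hh, he, -, hcl, hch, hce, hind, hspan, htor⟩ :=
    CfsgLib.Fusion.EssentialCube.exists_torus hS hF hE hel hcardE (c := (c : Ω))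
      (by rw [normalizerIn_map]; exact mem_map_of_mem S.subtype hc)
      (fun h => hcE (coe_mem_map.1 h)) (L := L.map S.subtype)
      (by rw [card_map_of_injective S.subtype_injective, hL]) (Subgroup.map_mono hLE)
      (by
        rintro _ ⟨x, hx, rfl⟩
        exact ⟨_, hcL x hx, by simp [commutatorElement_def]⟩)
  obtain ⟨l, hl, rfl⟩ := hl
  obtain ⟨h, hh, rfl⟩ := hh
  obtain ⟨e, he, rfl⟩ := he
  have hN' : Nat.card (normalizer (E : Set S)) = p ^ 4 := by
    rw [← card_map_of_injective (K := normalizer (E : Set S)) S.subtype_injective,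
      ← normalizerIn_map, hN]
  refine ⟨{
    Map := MapS F
    E := E
    c := c
    l := l
    h := h
    e := e
    mc := hmc
    five_le := h5
    map_mul := ?_
    map_inj := ?_
    map_congr := ?_
    map_mono := ?_
    map_comp := ?_
    map_conj := ?_
    map_inv := ?_
    ext := fun hQ hf hfQ hQR hR hconj => ext_S hS hF hE hQ hf hfQ hQR hR hconj
    syl := fun hQ U h1 h2 h3 h4 f hf hfQ hU => syl_S hS hF hE hQ U h1 h2 h3 h4 f hf hfQ hU
    agree := fun hEQ hf hg h => agree_S hS hF hE hEQ hf hg h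
    small := fun hf hER K hK => (small_S hS hF hE hf hER K hK).trans hN.le
    card_E := hcard
    comm_E := ?_
    exp_E := ?_
    cent_E := ?_
    card_N := hN'
    c_mem := hc
    c_not := hcE
    l_mem := hl
    h_mem := hh
    e_mem := he
    c_l := Subtype.ext (by simpa using hcl)
    c_h := Subtype.ext (by simpa using hch)
    c_e := Subtype.ext (by simpa using hce)
    indep := fun i j k hijk => hind i j k (by simpa using congrArg Subtype.val hijk)
    span := ?_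
    torus := ?_ }, rfl, rfl⟩
  · rintro Q f ⟨g, hg, hgf⟩ x hx y hy
    refine Subtype.ext ?_
    rw [coe_mul, ← hgf _ (mul_mem hx hy), ← hgf x hx, ← hgf y hy, coe_mul,
      hg.map_mul (mem_coe hx) (mem_coe hy)]
  · rintro Q f ⟨g, hg, hgf⟩ x hx y hy hxy
    exact Subtype.ext (hg.inj (mem_coe hx)
      (mem_coe hy) (by rw [hgf x hx, hgf y hy, hxy]))
  · rintro Q f f' ⟨g, hg, hgf⟩ hff
    exact ⟨g, hg, fun x hx => by rw [hgf x hx, hff x hx]⟩
  · rintro Q R f ⟨g, hg, hgf⟩ hQR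
    exact ⟨g, hg.mono (Subgroup.map_mono hQR), fun x hx => hgf x (hQR hx)⟩
  · rintro Q R f f' ⟨g, hg, hgf⟩ ⟨g', hg', hgf'⟩ hfR
    refine ⟨_, hg.comp hg' ?_, fun x hx => ?_⟩
    · rintro _ ⟨x, hx, rfl⟩
      rw [coe_subtype, hgf x hx]
      exact mem_map_of_mem S.subtype (hfR x hx)
    · show g' (g (x : Ω)) = _
      rw [hgf x hx, hgf' _ (hfR x hx)]
      rfl
  · intro Q g
    exact ⟨_, isMap_conj F (map_subtype_le Q) g.2, fun x _ => by simp [cj]⟩
  · rintro Q f ⟨g, hg, hgf⟩ hfQ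
    have hi := img_eq_of_stable hg hgf hfQ
    obtain ⟨g', hg', hgg, hgy, -⟩ := hg.exists_inv
    obtain ⟨f', hf', hfg'⟩ := mapS_of_isMap (Q := Q) (hi ▸ hg')
    have hmem : ∀ x ∈ Q, (x : Ω) ∈ img (Q.map S.subtype) g := fun x hx => by
      rw [hi]; exact mem_coe hx
    have hf'Q : ∀ x ∈ Q, f' x ∈ Q := fun x hx => coe_mem_map.1 (by
      rw [hfg' x hx]; exact (hgy _ (hmem x hx)).1)
    refine ⟨f', hf', hf'Q, fun x hx => Subtype.ext ?_, fun x hx => Subtype.ext ?_⟩
    · rw [hfg' _ (hfQ x hx), ← hgf x hx, hgg _ (mem_coe hx)]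
    · rw [← hgf _ (hf'Q x hx), hfg' x hx, (hgy _ (hmem x hx)).2]
  · intro x hx y hy
    exact Subtype.ext (congrArg (fun t : E.map S.subtype => (t : Ω))
      (hel.1.is_comm.comm ⟨x, mem_coe hx⟩ ⟨y, mem_coe hy⟩))
  · intro x hx
    exact Subtype.ext (by simpa using hel.2 _ (mem_map_of_mem S.subtype hx))
  · intro x hx
    refine coe_mem_map.1 (hE.1.2 _ (isConj_refl hE.1.1) ⟨x.2, ?_⟩)
    rintro _ ⟨y, hy, rfl⟩
    simpa using congrArg Subtype.val (mem_centralizer_iff.1 hx y hy)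
  · intro x hx
    obtain ⟨i, j, k, hijk⟩ := hspan _ (mem_map_of_mem S.subtype hx)
    exact ⟨i, j, k, Subtype.ext (by simpa using hijk)⟩
  · intro a a' haa
    obtain ⟨θ, hθ, hθx⟩ := htor a a' haa
    obtain ⟨f, hf, hfg⟩ := mapS_of_isMap (Q := E) (isMap_of_autGroup hE.1.1 hθ)
    obtain ⟨t1, t2, t3⟩ := hθx (mem_coe hl) (mem_coe hh) (mem_coe he)
    refine ⟨f, hf, fun x hx => coe_mem_map.1 ?_, Subtype.ext ?_, Subtype.ext ?_, Subtype.ext ?_⟩
    · rw [hfg x hx, toFun_aut_apply θ (mem_coe hx)]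
      exact (θ _).2
    · rw [hfg l hl, toFun_aut_apply θ (mem_coe hl)]
      simpa using t1
    · rw [hfg h hh, toFun_aut_apply θ (mem_coe hh)]
      simpa using t2
    · rw [hfg e he, toFun_aut_apply θ (mem_coe he)]
      simpa using t3

/-- Commutators with an element fixing a subgroup of index `p` form a subgroup of order `p`. -/
theorem exists_line {G : Type*} [Group G] [Finite G] (hG : IsPGroup p G) {E H : Subgroup G}
    (hab : ∀ x ∈ E, ∀ y ∈ E, x * y = y * x) (hexp : ∀ x ∈ E, x ^ p = 1)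
    (hcE : centralizer (E : Set G) ≤ E) (hE : Nat.card E = p ^ 3) (hH : Nat.card H = p ^ 2)
    (hHE : H ≤ E) {c : G} (hc : c ∈ normalizer (E : Set G)) (hcnot : c ∉ E)
    (hcH : ∀ x ∈ H, Commute c x) :
    ∃ L : Subgroup G, Nat.card L = p ∧ L ≤ E ∧ ∀ x ∈ E, ⁅c, x⁆ ∈ L := by
  obtain ⟨x0, hx0, hne⟩ : ∃ x0 ∈ E, ¬ Commute c x0 := by
    by_contra hcon
    push Not at hcon
    exact hcnot (hcE (mem_centralizer_iff.2 fun x hx => (hcon x hx).symm.eq))
  set y := ⁅c, x0⁆ with hy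
  have hyE : y ∈ E := by
    rw [hy, commutatorElement_def]
    exact mul_mem ((hc x0).1 hx0) (inv_mem hx0)
  have hy1 : y ≠ 1 := fun e => hne (commutatorElement_eq_one_iff_commute.1 e)
  refine ⟨zpowers y, by rw [Nat.card_zpowers, orderOf_eq_prime (hexp y hyE) hy1],
    zpowers_le.2 hyE, fun x hx => ?_⟩
  have hx0H : x0 ∉ H := fun h => hne (hcH x0 h)
  have hle : H ⊔ zpowers x0 ≤ E := sup_le hHE (zpowers_le.2 hx0)
  have heq : H ⊔ zpowers x0 = E := eq_of_le_of_card_ge hle (by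
    have hlt : Nat.card H < Nat.card (H ⊔ zpowers x0 : Subgroup G) :=
      lt_of_le_of_ne (Subgroup.card_le_of_le le_sup_left) fun e => hx0H
        ((eq_of_le_of_card_ge (le_sup_left : H ≤ H ⊔ zpowers x0) e.ge).ge
          (mem_sup_right (mem_zpowers x0)))
    obtain ⟨k, hk⟩ := (hG.to_subgroup (H ⊔ zpowers x0 : Subgroup G)).exists_card_eq
    rw [hH, hk, Nat.pow_lt_pow_iff_right hp.out.one_lt] at hlt
    rw [hE, hk]
    exact Nat.pow_le_pow_right hp.out.pos (by omega))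
  obtain ⟨u, hu, z, hz, rfl⟩ : ∃ u ∈ H, ∃ z ∈ zpowers x0, u * z = x := by
    let T : Subgroup G :=
      { carrier := {x | ∃ u ∈ H, ∃ z ∈ zpowers x0, u * z = x}
        one_mem' := ⟨1, one_mem _, 1, one_mem _, one_mul 1⟩
        mul_mem' := by
          rintro _ _ ⟨u, hu, z, hz, rfl⟩ ⟨u', hu', z', hz', rfl⟩
          refine ⟨u * u', mul_mem hu hu', z * z', mul_mem hz hz', ?_⟩
          rw [mul_assoc, ← mul_assoc u', hab _ (hHE hu') _ (zpowers_le.2 hx0 hz)]
          group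
        inv_mem' := by
          rintro _ ⟨u, hu, z, hz, rfl⟩
          refine ⟨u⁻¹, inv_mem hu, z⁻¹, inv_mem hz, ?_⟩
          rw [mul_inv_rev]
          exact hab _ (inv_mem (hHE hu)) _ (inv_mem (zpowers_le.2 hx0 hz)) }
    have : H ⊔ zpowers x0 ≤ T := sup_le (fun u hu => ⟨u, hu, 1, one_mem _, mul_one u⟩)
      (fun z hz => ⟨1, one_mem _, z, hz, one_mul z⟩)
    exact this (heq.ge hx)
  obtain ⟨k, rfl⟩ := mem_zpowers_iff.1 hz
  have h1 : c * x0 * c⁻¹ = y * x0 := by rw [hy, commutatorElement_def, inv_mul_cancel_right]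
  rw [commutatorElement_def, show c * (u * x0 ^ k) * c⁻¹ * (u * x0 ^ k)⁻¹ =
      c * u * c⁻¹ * (c * x0 * c⁻¹) ^ k * (x0 ^ k)⁻¹ * u⁻¹ by rw [conj_zpow]; group,
    (hcH u hu).eq, mul_inv_cancel_right, h1,
    (show Commute y x0 from hab y hyE x0 hx0).mul_zpow k,
    show u * (y ^ k * x0 ^ k) * (x0 ^ k)⁻¹ * u⁻¹ = u * y ^ k * u⁻¹ by group,
    hab _ (hHE hu) _ (zpow_mem hyE k), mul_inv_cancel_right]
  exact zpow_mem (mem_zpowers y) k

theorem no_elementary_cube {n : ℕ} (hp5 : 5 ≤ p) (hS : IsPGroup p S) (hn : Nat.card S = p ^ n)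
    (h5 : 5 ≤ n) (hmax : Subgroup.lowerCentralSeries S (n - 2) ≠ ⊥) (hF : F.IsSaturated p)
    {E₀ : Subgroup Ω} (hE : F.IsEssential p E₀) (hel : Cfsg.IsElementaryAbelian p E₀)
    (hcard : Nat.card E₀ = p ^ 3) : False := by
  obtain ⟨E, rfl⟩ : ∃ E : Subgroup S, E.map S.subtype = E₀ :=
    ⟨E₀.subgroupOf S, map_subgroupOf_eq_of_le hE.1.1⟩
  rw [card_map_of_injective S.subtype_injective] at hcard
  have hmc := isMC_of_class hn (by omega) hmax
  have hab : ∀ x ∈ E, ∀ y ∈ E, x * y = y * x := fun x hx y hy =>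
    Subtype.ext (congrArg (fun t : E.map S.subtype => (t : Ω))
      (hel.1.is_comm.comm ⟨x, mem_coe hx⟩ ⟨y, mem_coe hy⟩))
  have hexp : ∀ x ∈ E, x ^ p = 1 := fun x hx =>
    Subtype.ext (by simpa using hel.2 _ (mem_map_of_mem S.subtype hx))
  have hcent : centralizer (E : Set S) ≤ E := fun x hx => by
    refine coe_mem_map.1 (hE.1.2 _ (isConj_refl hE.1.1) ⟨x.2, ?_⟩)
    rintro _ ⟨y, hy, rfl⟩
    simpa using congrArg Subtype.val (mem_centralizer_iff.1 hx y hy)
  have hZE : center S ≤ E := (center_le_centralizer _).trans hcent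
  have hZ2card : Nat.card (LC S (n - 3)) = p ^ 2 := by
    rw [hmc.card_LC (by omega) (by omega), show n - 1 - (n - 3) = 2 by omega]
  by_cases hZ2 : LC S (n - 3) ≤ E
  · have hnorm : ∀ g : S, g ∈ LC S (n - 4) → g ∈ normalizer (E : Set S) := fun g hg =>
      mem_normalizer_fintype fun x hx => by
        rw [conj_eq_comm_mul]
        refine mul_mem (hZ2 ?_) hx
        have := comm_LC_left hg x
        rwa [show n - 4 + 1 = n - 3 by omega] at this
    by_cases hle : LC S (n - 4) ≤ E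
    · -- `E` would be normal
      have heq : LC S (n - 4) = E := eq_of_le_of_card_ge hle (by
        rw [hcard, hmc.card_LC (by omega) (by omega), show n - 1 - (n - 4) = 3 by omega])
      haveI hEn : E.Normal := heq ▸ inferInstance
      obtain ⟨c, hc, hcE⟩ : ∃ c ∈ TC S (n - 3), c ∉ E := by
        by_contra hcon
        push Not at hcon
        have h1 := Subgroup.card_le_of_le (show TC S (n - 3) ≤ E from hcon)
        have h2 := (TC S (n - 3)).card_mul_index
        rw [hmc.TC_index (by omega) (by omega), hmc.card_eq] at h2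
        have h3 : p ^ n ≤ p ^ 4 := by
          rw [← h2, pow_succ _ 3, ← hcard]
          exact Nat.mul_le_mul_right p h1
        rw [Nat.pow_le_pow_iff_right hp.out.one_lt] at h3
        omega
      have hcN : c ∈ normalizer (E : Set S) := by rw [normalizer_eq_top]; exact mem_top c
      obtain ⟨L, hL, hLE, hcL⟩ := exists_line hS hab hexp hcent hcard hZ2card hZ2 hcN hcE
        fun x hx => by
          have := mem_TC_iff.1 hc x hx
          rw [hmc.LC_eq_bot (by omega), mem_bot] at this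
          exact commutatorElement_eq_one_iff_commute.1 this
      obtain ⟨Y, hYE, -⟩ := exists_cubeSys hS hF hmc h5 hE hel hcard hcN hcE hL hLE hcL
      have h1 := Y.card_N
      rw [hYE, normalizer_eq_top, Subgroup.card_top, hmc.card_eq] at h1
      have := Nat.pow_right_injective hp.out.two_le h1
      omega
    · obtain ⟨c, hc, hcE⟩ := SetLike.not_le_iff_exists.1 hle
      obtain ⟨L, hL, hLE, hcL⟩ := exists_line hS hab hexp hcent hcard hZ2card hZ2 (hnorm c hc) hcE
        fun x hx => by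
          have := comm_LC hc hx (k := n - 1) (by omega)
          rw [hmc.LC_eq_bot le_rfl, mem_bot] at this
          exact commutatorElement_eq_one_iff_commute.1 this
      obtain ⟨Y, hYE, hYc⟩ := exists_cubeSys hS hF hmc h5 hE hel hcard (hnorm c hc) hcE hL hLE hcL
      exact CubeSys.not_caseB (Y := Y) ⟨hYE ▸ hZ2, hYc ▸ hc⟩ hp5
  · obtain ⟨c, hc, hcE⟩ := SetLike.not_le_iff_exists.1 hZ2
    have hcl : ∀ x : S, ⁅c, x⁆ ∈ center S := fun x => by
      rw [hmc.center_eq]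
      have := comm_LC_left hc x
      rwa [show n - 3 + 1 = n - 2 by omega] at this
    have hcN : c ∈ normalizer (E : Set S) := mem_normalizer_fintype fun x hx => by
      rw [conj_eq_comm_mul]
      exact mul_mem (hZE (hcl x)) hx
    obtain ⟨Y, hYE, hYc⟩ := exists_cubeSys hS hF hmc h5 hE hel hcard hcN hcE hmc.card_center hZE
      fun x _ => hcl x
    refine CubeSys.not_caseA (Y := Y) ⟨?_, hYc ▸ hc⟩ hp5
    have h1 := hcl Y.e
    rwa [commutatorElement_def, ← hYc, Y.c_e, mul_inv_cancel_right] at h1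

end CfsgLib.MaxClassEss
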