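import Cfsg.Agent.Lib.Invol.MaxClassSecond

/-!
Facts about a group of maximal class with an element whose centralizer has order `p²`.
-/

set_option autoImplicit false
set_option linter.unusedSectionVars false

namespace CfsgLib.MaxClassEss

open Subgroup CfsgLib.Coprime.MaxClassUniform
open scoped commutatorElement

variable {X : Type*} [Group X]

theorem comm_pow_pow {u e z : X} (hz : ⁅u, e⁆ = z) (h1 : Commute z u) (h2 : Commute z e)
    (i j : ℕ) : ⁅u ^ i, e ^ j⁆ = z ^ (i * j) := by
  have h3 : u * e * u⁻¹ = z * e := by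
    rw [← hz, commutatorElement_def, inv_mul_cancel_right]
  have h4 : ∀ k : ℕ, u ^ k * e * (u ^ k)⁻¹ = z ^ k * e := by
    intro k
    induction k with
    | zero => simp
    | succ k ih =>
      rw [show u ^ (k + 1) * e * (u ^ (k + 1))⁻¹ = u * (u ^ k * e * (u ^ k)⁻¹) * u⁻¹ by
          rw [pow_succ']; group, ih,
        show u * (z ^ k * e) * u⁻¹ = (u * z ^ k * u⁻¹) * (u * e * u⁻¹) by group, h3,
        ← (h1.pow_left k).eq, mul_inv_cancel_right, ← mul_assoc, ← pow_succ]
  rw [commutatorElement_def, ← conj_pow, h4, (h2.pow_left i).mul_pow, ← pow_mul,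
    mul_inv_cancel_right]

theorem TC_normal (i : ℕ) : (TC X i).Normal := ⟨fun x hx g => mem_TC_iff.2 fun u hu => by
  have h1 := mem_TC_iff.1 hx _ ((inferInstance : (LC X i).Normal).conj_mem u hu g⁻¹)
  have h2 := (inferInstance : (LC X (i + 2)).Normal).conj_mem _ h1 g
  rwa [← MulAut.conj_apply, map_commutatorElement, MulAut.conj_apply, MulAut.conj_apply, inv_inv,
    show g * (g⁻¹ * u * g) * g⁻¹ = u by group] at h2⟩

variable [Finite X] {p : ℕ} [hp : Fact p.Prime] {m : ℕ}

theorem not_TC_of_cap (h : IsMC p m X) {e : X}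
    (hcap : ∀ x ∈ LC X 1, Commute x e → x ∈ center X) {t : ℕ} (h1 : 1 ≤ t) (ht : t + 3 ≤ m) :
    e ∉ TC X t := by
  intro hTC
  have hmem : ∀ u : LC X t, ⁅(u : X), e⁆ ∈ LC X (t + 2) := fun u => by
    rw [← commutatorElement_inv]
    exact inv_mem (mem_TC_iff.1 hTC u u.2)
  let F : LC X t ⧸ (center X).subgroupOf (LC X t) → LC X (t + 2) := fun q => ⟨_, hmem q.out⟩
  have hF : Function.Injective F := fun q r hqr => by
    have h2 : ⁅(q.out : X), e⁆ = ⁅(r.out : X), e⁆ := congrArg Subtype.val hqr
    rw [commutatorElement_def, commutatorElement_def, mul_left_inj] at h2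
    have h3 : Commute ((q.out : X)⁻¹ * r.out) e := by
      show (q.out : X)⁻¹ * r.out * e = e * ((q.out : X)⁻¹ * r.out)
      calc (q.out : X)⁻¹ * r.out * e
          = (q.out : X)⁻¹ * ((r.out : X) * e * (r.out : X)⁻¹) * r.out := by group
        _ = e * ((q.out : X)⁻¹ * r.out) := by rw [← h2]; group
    have h4 : (q.out : X)⁻¹ * r.out ∈ LC X 1 :=
      LC_le h1 (mul_mem (inv_mem q.out.2) r.out.2)
    rw [← QuotientGroup.out_eq' q, ← QuotientGroup.out_eq' r]
    exact QuotientGroup.eq.2 (mem_subgroupOf.2 (hcap _ h4 h3))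
  have h5 := Nat.card_le_card_of_injective F hF
  have hle : center X ≤ LC X t := h.center_eq ▸ LC_le (show t ≤ m - 2 by omega)
  have h6 := ((center X).subgroupOf (LC X t)).card_mul_index
  rw [Nat.card_congr (subgroupOfEquivOfLe hle).toEquiv, h.card_center, h.card_LC h1 (by omega),
    show p ^ (m - 1 - t) = p * p ^ (m - 2 - t) by rw [← pow_succ']; congr 1; omega] at h6
  rw [← index_eq_card, Nat.eq_of_mul_eq_mul_left hp.out.pos h6, h.card_LC (by omega) (by omega),
    Nat.pow_le_pow_iff_right hp.out.one_lt] at h5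
  omega

theorem class_surj (h : IsMC p m X) {e : X}
    (hC : Nat.card (centralizer ({e} : Set X)) = p ^ 2) {η : X} (hη : η ∈ LC X 1) :
    ∃ x : X, x * e * x⁻¹ = η * e := by
  have := h.three_le
  have hmem : ∀ x : X, ⁅x, e⁆ ∈ LC X 1 := fun x => comm_LC_left (i := 0) (mem_top x) e
  let F : X ⧸ centralizer ({e} : Set X) → LC X 1 := fun q => ⟨_, hmem q.out⟩
  have hF : Function.Injective F := fun q r hqr => by
    have h2 : ⁅q.out, e⁆ = ⁅r.out, e⁆ := congrArg Subtype.val hqr
    rw [commutatorElement_def, commutatorElement_def, mul_left_inj] at h2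
    rw [← QuotientGroup.out_eq' q, ← QuotientGroup.out_eq' r]
    refine QuotientGroup.eq.2 (mem_centralizer_singleton_iff.2 ?_)
    calc q.out⁻¹ * r.out * e = q.out⁻¹ * (r.out * e * r.out⁻¹) * r.out := by group
      _ = e * (q.out⁻¹ * r.out) := by rw [← h2]; group
  have hle : Nat.card (LC X 1) ≤ Nat.card (X ⧸ centralizer ({e} : Set X)) := by
    have h1 := (centralizer ({e} : Set X)).card_mul_index
    rw [hC, h.card_eq, show p ^ m = p ^ 2 * p ^ (m - 2) by rw [← pow_add]; congr 1; omega] at h1
    rw [← index_eq_card, Nat.eq_of_mul_eq_mul_left (pow_pos hp.out.pos 2) h1,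
      h.card_LC le_rfl (by omega), show m - 1 - 1 = m - 2 by omega]
  obtain ⟨q, hq⟩ := (hF.bijective_of_nat_card_le hle).2 ⟨η, hη⟩
  exact ⟨q.out, mul_inv_eq_iff_eq_mul.1 (congrArg Subtype.val hq)⟩

/-- An endomorphism scaling `e`, a second generator and the centre ties the three scalars. -/
theorem scalar_rel (h : IsMC p m X) {e : X}
    (hcap : ∀ x ∈ LC X 1, Commute x e → x ∈ center X) (he : e ∉ LC X 1) {v : X}
    (hv : v ∉ zpowers e ⊔ LC X 1) (φ : X →* X) {a a' μ : ℕ} (φe : φ e = e ^ a') {w : X}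
    (hw : w ∈ LC X 1) (φv : φ v = v ^ μ * w) (φz : ∀ z ∈ center X, φ z = z ^ a) :
    (μ : ZMod p) * (a' : ZMod p) ^ (m - 2) = (a : ZMod p) := by
  have := h.three_le
  have hv1 : v ∉ LC X 1 := fun hh => hv (mem_sup_right hh)
  have key : ∀ t, t ≤ m - 2 → ∃ u ∈ LC X t, u ∉ LC X (t + 1) ∧ (t = 0 → u = v) ∧
      ∃ y ∈ LC X (t + 1), φ u = u ^ (μ * a' ^ t) * y := by
    intro t
    induction t with
    | zero =>
      intro _
      exact ⟨v, mem_top v, hv1, fun _ => rfl, w, hw, by rw [φv, pow_zero, mul_one]⟩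
    | succ t ih =>
      intro ht
      obtain ⟨u, hu, hu', hu0, y, hy, φu⟩ := ih (by omega)
      have hz : ⁅u, e⁆ ∈ LC X (t + 1) := comm_LC_left hu e
      refine ⟨⁅u, e⁆, hz, ?_, fun h0 => absurd h0 (by omega), ?_⟩
      · rcases Nat.eq_zero_or_pos t with rfl | htp
        · intro hc
          obtain rfl := hu0 rfl
          have htop : closure ({e, u} : Set X) = ⊤ :=
            h.eq_top_of_gen' he hv (subset_closure (by simp)) (subset_closure (by simp))
          have h2 : ⁅closure ({e, u} : Set X), closure ({e, u} : Set X)⁆ ≤ LC X 2 := by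
            refine commutator_closure_le ?_
            rintro a (rfl | rfl) b (rfl | rfl)
            · rw [commutatorElement_self]; exact one_mem _
            · rw [← commutatorElement_inv]; exact inv_mem hc
            · exact hc
            · rw [commutatorElement_self]; exact one_mem _
          rw [htop] at h2
          obtain ⟨x, hx, hx'⟩ := h.exists_mem_not_mem (i := 1) le_rfl (by omega)
          exact hx' (h2 hx)
        · intro hc
          refine h.comm_not_mem htp (not_TC_of_cap h hcap htp (by omega)) hu hu' ?_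
          rw [← commutatorElement_inv]
          exact inv_mem hc
      · set π := QuotientGroup.mk' (LC X (t + 2))
        have cz : ∀ {z : X}, z ∈ LC X (t + 1) → ∀ x, Commute (π z) (π x) := fun hz x => by
          rw [← commutatorElement_eq_one_iff_commute, ← map_commutatorElement]
          exact (QuotientGroup.eq_one_iff _).2 (comm_LC_left hz x)
        refine ⟨(⁅u, e⁆ ^ (μ * a' ^ (t + 1)))⁻¹ * φ ⁅u, e⁆, (QuotientGroup.eq_one_iff _).1 ?_,
          by rw [mul_inv_cancel_left]⟩
        show π _ = 1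
        have e1 : ⁅π u ^ (μ * a' ^ t) * π y, π e ^ a'⁆ = ⁅π u ^ (μ * a' ^ t), π e ^ a'⁆ := by
          have hyc : Commute (π y) (π e ^ a') := (cz hy e).pow_right a'
          rw [commutatorElement_def, commutatorElement_def,
            show π u ^ (μ * a' ^ t) * π y * π e ^ a' * (π u ^ (μ * a' ^ t) * π y)⁻¹ * (π e ^ a')⁻¹ =
              π u ^ (μ * a' ^ t) * (π y * π e ^ a' * (π y)⁻¹) * (π u ^ (μ * a' ^ t))⁻¹ *
                (π e ^ a')⁻¹ by group, hyc.eq, mul_inv_cancel_right]
        rw [map_mul, map_inv, map_pow, map_commutatorElement φ, φe, φu, map_commutatorElement π,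
          map_commutatorElement π, map_mul, map_pow, map_pow, e1,
          comm_pow_pow (map_commutatorElement π u e).symm (cz hz u) (cz hz e),
          map_commutatorElement π, pow_succ, mul_assoc, inv_mul_cancel]
  obtain ⟨u, hu, hu', -, y, hy, φu⟩ := key (m - 2) le_rfl
  rw [show m - 2 + 1 = m - 1 by omega, h.LC_eq_bot le_rfl, mem_bot] at hu' hy
  have huc : u ∈ center X := by rw [h.center_eq]; exact hu
  rw [hy, mul_one, φz u huc] at φu
  have hord : orderOf u = p := by
    refine orderOf_eq_prime ?_ hu'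
    have h1 := pow_card_eq_one' (x := (⟨u, huc⟩ : center X))
    rw [h.card_center] at h1
    simpa using congrArg Subtype.val h1
  have h2 := pow_eq_pow_iff_modEq.1 φu
  rw [hord, ← ZMod.natCast_eq_natCast_iff] at h2
  rw [h2]
  push_cast
  ring

end CfsgLib.MaxClassEss
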