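import Cfsg.Agent.Lib.MaxClassEss.CaseAExt
import Cfsg.Agent.Lib.MaxClassEss.MCLemma

/-!
The case where `c` generates the second centre modulo the centre is impossible.
-/

set_option autoImplicit false
set_option linter.style.haveILetI false
set_option linter.unusedSectionVars false

namespace CfsgLib.MaxClassEss

open Subgroup CfsgLib.Coprime.MaxClassUniform
open scoped commutatorElement

variable {P : Type*} [Group P] [Finite P] {p : ℕ} [hp : Fact p.Prime] {n : ℕ}
  {Y : CubeSys p n P}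

namespace CubeSys

/-- Elements normalizing `C(h)` move `h` along the centre. -/
theorem conj_h (hA : Y.IsCaseA) {g : P}
    (hg : g ∈ normalizer (centralizer ({Y.h} : Set P) : Set P)) :
    ∃ i : ℕ, g * Y.h * g⁻¹ = Y.h * Y.l ^ i := by
  have h5 := Y.five_le
  obtain ⟨j, hj1, hjn, hj, hj'⟩ := exists_layer hA
  set x := g * Y.h * g⁻¹ with hx
  have hcomm : ∀ y ∈ centralizer ({Y.h} : Set P), y * x = x * y := by
    intro y hy
    have h1 := mem_centralizer_singleton_iff.1 ((mem_normalizer_iff''.1 hg y).1 hy)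
    calc y * x = g * (g⁻¹ * y * g * Y.h) * g⁻¹ := by rw [hx]; group
      _ = g * (Y.h * (g⁻¹ * y * g)) * g⁻¹ := by rw [h1]
      _ = x * y := by rw [hx]; group
  have hxE : x ∈ Y.E := Y.cent_E (mem_centralizer_iff.2 fun y hy =>
    hcomm y (N_le_C hA (Y.le_N hy)))
  have hxA : x ∈ Y.A := Y.mem_A.2 ⟨Y.le_N hxE, (hcomm _ (N_le_C hA Y.c_mem)).symm⟩
  obtain ⟨i, s, hxs⟩ := Y.mem_E_A hxE hxA
  set π := QuotientGroup.mk' (LC P (j + 1))
  have hπl : π Y.l = 1 := (QuotientGroup.eq_one_iff _).2 (by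
    have hl := hA.1
    rw [Y.mc.center_eq] at hl
    exact LC_le (by omega) hl)
  have hπh : π x = π Y.h := by
    rw [hx, conj_eq_comm_mul, _root_.map_mul]
    rw [show π ⁅g, Y.h⁆ = 1 from (QuotientGroup.eq_one_iff _).2 (comm_LC_right g hj), one_mul]
  have hord : orderOf (π Y.h) = p := orderOf_eq_prime (by rw [← _root_.map_pow, Y.exp_h, _root_.map_one])
    (fun e => hj' ((QuotientGroup.eq_one_iff _).1 e))
  have h2 : π Y.h ^ s = π Y.h ^ 1 := by
    rw [hxs, _root_.map_mul, _root_.map_pow, _root_.map_pow, hπl, one_pow, one_mul] at hπh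
    rw [pow_one]; exact hπh
  have h3 := pow_eq_pow_iff_modEq.1 h2
  rw [hord, ← ZMod.natCast_eq_natCast_iff] at h3
  refine ⟨i, ?_⟩
  rw [hxs, pow_eq_of_cast Y.exp_h h3, pow_one]
  exact (Y.commute_lh.pow_left i).eq

/-- The restriction of a map to an invariant subgroup, as an endomorphism. -/
def endo {f : P → P} {Q : Subgroup P} (hf : Y.Map Q f) (hfQ : ∀ x ∈ Q, f x ∈ Q) : Q →* Q :=
  MonoidHom.mk' (fun x => ⟨f x, hfQ x x.2⟩) fun x y => Subtype.ext (Y.map_mul hf x x.2 y y.2)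

@[simp] theorem coe_endo {f : P → P} {Q : Subgroup P} (hf : Y.Map Q f)
    (hfQ : ∀ x ∈ Q, f x ∈ Q) (x : Q) : ((endo hf hfQ x : Q) : P) = f x := rfl

theorem not_caseA (hA : Y.IsCaseA) (hp5 : 5 ≤ p) : False := by
  classical
  have h5 := Y.five_le
  have hp2 : p ≠ 2 := by omega
  obtain ⟨j, hj1, hjn, hj, hj'⟩ := exists_layer hA
  obtain ⟨hnjp, hjp⟩ := layer_bounds hA hp2 hj1 hjn hj hj'
  -- a generator of the scalars
  obtain ⟨uu, huu⟩ := IsCyclic.exists_generator (α := (ZMod p)ˣ)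
  set a := (uu : ZMod p).val with ha
  set a' := ((uu⁻¹ : (ZMod p)ˣ) : ZMod p).val with ha'
  have hac : (a : ZMod p) = (uu : ZMod p) := by rw [ha, ZMod.natCast_zmod_val]
  have ha'c : (a' : ZMod p) = ((uu⁻¹ : (ZMod p)ˣ) : ZMod p) := by rw [ha', ZMod.natCast_zmod_val]
  have haa : ((a : ZMod p) * (a' : ZMod p)) = 1 := by rw [hac, ha'c, Units.mul_inv]
  have hgen : ∀ r : ℕ, (a : ZMod p) ^ r = 1 → p - 1 ∣ r := by
    intro r hr
    have h1 : uu ^ r = 1 := Units.ext (by rw [Units.val_pow_eq_pow_val, ← hac, hr, Units.val_one])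
    have h2 := orderOf_dvd_of_pow_eq_one h1
    rwa [orderOf_eq_card_of_forall_mem_zpowers huu, Nat.card_eq_fintype_card,
      ZMod.card_units p] at h2
  obtain ⟨θ, hθall⟩ := exists_theta_C hA hp2 haa
  obtain ⟨hθ, hθC, θl, θh, θe, iθ, jθ, θc⟩ := hθall
  have hθall : Y.IsTorusMap a a' _ θ := ⟨hθ, hθC, θl, θh, θe, iθ, jθ, θc⟩
  set C : Subgroup P := centralizer ({Y.h} : Set P) with hCdef
  have hEC : Y.E ≤ C := Y.le_N.trans (N_le_C hA)
  let h0 : C := ⟨Y.h, hEC Y.h_mem⟩
  let l0 : C := ⟨Y.l, hEC Y.l_mem⟩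
  let e0 : C := ⟨Y.e, hEC Y.e_mem⟩
  set K0 : Subgroup C := zpowers h0 with hK0def
  haveI hK0 : K0.Normal := ⟨fun x hx g => by
    obtain ⟨t, rfl⟩ := mem_zpowers_iff.1 hx
    have hc : Commute g h0 := Subtype.ext (mem_centralizer_singleton_iff.1 g.2)
    rw [(hc.zpow_right t).eq, mul_inv_cancel_right]
    exact hx⟩
  set π := QuotientGroup.mk' K0 with hπdef
  have hπsurj : Function.Surjective π := QuotientGroup.mk'_surjective K0
  have hh0 : π h0 = 1 := (QuotientGroup.eq_one_iff _).2 (mem_zpowers h0)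
  have hπeq : ∀ x y : C, π x = π y → ∃ i : ℕ, (y : P) = (x : P) * Y.h ^ i := by
    intro x y hxy
    obtain ⟨i, hi⟩ := (Submonoid.mem_powers_iff _ _).1
      (mem_powers_iff_mem_zpowers.2 (QuotientGroup.eq.1 hxy))
    exact ⟨i, by
      have := congrArg Subtype.val hi
      simp only [SubmonoidClass.coe_pow, coe_mul, coe_inv] at this
      rw [this, mul_inv_cancel_left]⟩
  -- the orders
  have hh1 : Y.h ≠ 1 := fun e => hj' (e ▸ one_mem _)
  have hK0card : Nat.card K0 = p := by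
    rw [hK0def, Nat.card_zpowers, ← Subgroup.orderOf_coe]
    exact orderOf_eq_prime Y.exp_h hh1
  obtain ⟨kC, hkC⟩ := (Y.isPGroup.to_subgroup C).exists_card_eq
  have hCtop : C < ⊤ := lt_top_iff_ne_top.2 fun e => by
    have h1 : Y.h ∈ center P := mem_center_iff.2 fun g =>
      mem_centralizer_singleton_iff.1 (e.ge (mem_top g))
    rw [Y.mc.center_eq] at h1
    exact hj' (LC_le (by omega) h1)
  have hkC4 : 4 ≤ kC := by
    have h1 := card_le_of_le (N_le_C hA)
    rwa [Y.card_N, ← hCdef, hkC, Nat.pow_le_pow_iff_right hp.out.one_lt] at h1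
  have hkCn : kC < n := by
    have h1 : Nat.card C < Nat.card P := lt_of_le_of_ne (Subgroup.card_le_card_group C) fun e =>
      hCtop.ne ((Subgroup.card_eq_iff_eq_top C).1 e)
    rwa [hkC, Y.mc.card_eq, Nat.pow_lt_pow_iff_right hp.out.one_lt] at h1
  obtain ⟨m, rfl⟩ : ∃ m, kC = m + 1 := ⟨kC - 1, by omega⟩
  have hXcard : Nat.card (C ⧸ K0) = p ^ m := by
    have h1 := K0.card_mul_index
    rw [hK0card, hkC, index_eq_card, pow_succ'] at h1
    exact Nat.eq_of_mul_eq_mul_left hp.out.pos h1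
  -- the image of `E`
  have hcardmap : ∀ W : Subgroup C, K0 ≤ W → Nat.card W = p * Nat.card (W.map π) := by
    intro W hW
    have h1 := relIndex_mul_relIndex ⊥ K0 W bot_le hW
    rw [relIndex_bot_left, relIndex_bot_left, hK0card] at h1
    rw [← h1]
    conv_lhs => rw [← QuotientGroup.ker_mk' K0, relIndex_ker]
  set Eb := (Y.E.subgroupOf C).map π with hEb
  have hEbcard : Nat.card Eb = p ^ 2 := by
    have h1 := hcardmap (Y.E.subgroupOf C) (zpowers_le.2 (mem_subgroupOf.2 Y.h_mem))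
    rw [Nat.card_congr (subgroupOfEquivOfLe hEC).toEquiv, Y.card_E, show p ^ 3 = p * p ^ 2 by ring,
      ← hEb] at h1
    exact (Nat.eq_of_mul_eq_mul_left hp.out.pos h1).symm
  have hcente : centralizer ({π e0} : Set (C ⧸ K0)) = Eb := by
    refine le_antisymm (fun x hx => ?_) ?_
    · obtain ⟨u, rfl⟩ := hπsurj x
      have h1 : π (e0) = π (u * e0 * u⁻¹) := by
        rw [_root_.map_mul, _root_.map_mul, _root_.map_inv, mem_centralizer_singleton_iff.1 hx, mul_inv_cancel_right]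
      obtain ⟨i, hi⟩ := hπeq _ _ h1
      exact ⟨u, mem_subgroupOf.2 (conj_e_mem hA (mem_centralizer_singleton_iff.1 u.2) hi).1, rfl⟩
    · rintro _ ⟨u, hu, rfl⟩
      refine mem_centralizer_singleton_iff.2 ?_
      rw [← _root_.map_mul, ← _root_.map_mul]
      exact congrArg π (Subtype.ext (Y.comm_E _ (mem_subgroupOf.1 hu) _ Y.e_mem))
  have hX : IsMC p m (C ⧸ K0) := ⟨by omega, hXcard,
    CfsgLib.Transfer.maxClass_of_self_centralizing hXcard Eb hEbcard (le_antisymm
      (fun x hx => hcente.le (mem_centralizer_singleton_iff.2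
        (mem_centralizer_iff.1 hx (π e0) (mem_map_of_mem π (mem_subgroupOf.2 Y.e_mem : e0 ∈ Y.E.subgroupOf C))).symm))
      (fun x hx => mem_centralizer_iff.2 fun y hy => by
        obtain ⟨u, hu, rfl⟩ := hx
        obtain ⟨w, hw, rfl⟩ := hy
        rw [← _root_.map_mul, ← _root_.map_mul]
        exact congrArg π (Subtype.ext
          (Y.comm_E _ (mem_subgroupOf.1 hw) _ (mem_subgroupOf.1 hu)))))⟩
  -- the derived subgroup of the quotient
  have hmapLC : (LC C 1).map π = LC (C ⧸ K0) 1 := map_LC π hπsurj 1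
  have hLCC : ∀ y ∈ LC C 1, (y : P) ∈ LC P 1 := by
    have : LC C 1 ≤ (LC P 1).comap C.subtype := commutator_le.2 fun x _ y _ => by
      rw [mem_comap, map_commutatorElement]
      exact comm_LC_left (i := 0) (mem_top _) _
    exact fun y hy => this hy
  have hTh : Commute Y.h Y.c := (mul_inv_eq_iff_eq_mul.1 Y.c_h).symm
  have hcom : ∀ y : C, π y ∈ LC (C ⧸ K0) 1 → Commute (y : P) Y.c := by
    intro y hy
    obtain ⟨y', hy', he⟩ := hmapLC.ge hy
    obtain ⟨i, hi⟩ := hπeq _ _ he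
    rw [hi]
    exact ((mem_TC_top hA).1 (LC_one_le_TC _ (hLCC y' hy'))).mul_left (hTh.pow_left i)
  have hlc : π l0 ∈ center (C ⧸ K0) := mem_center_iff.2 fun x => by
    obtain ⟨u, rfl⟩ := hπsurj x
    rw [← _root_.map_mul, ← _root_.map_mul]
    exact congrArg π (Subtype.ext (mem_center_iff.1 hA.1 (u : P)))
  have hl1 : π l0 ∈ LC (C ⧸ K0) 1 := by
    rw [hX.center_eq] at hlc
    exact LC_le (by omega) hlc
  have hcap : ∀ x ∈ LC (C ⧸ K0) 1, Commute x (π e0) → ∃ i : ℕ, x = π l0 ^ i := by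
    intro x hx hxe
    obtain ⟨u, hu, rfl⟩ := hcente.le (mem_centralizer_singleton_iff.2 hxe.eq)
    obtain ⟨i, k, hik⟩ := Y.mem_E_A (mem_subgroupOf.1 hu)
      (Y.mem_A.2 ⟨Y.le_N (mem_subgroupOf.1 hu), hcom u hx⟩)
    refine ⟨i, ?_⟩
    rw [show u = l0 ^ i * h0 ^ k from Subtype.ext (by simpa using hik), _root_.map_mul, _root_.map_pow, _root_.map_pow,
      hh0, one_pow, mul_one]
  have hcap' : ∀ x ∈ LC (C ⧸ K0) 1, Commute x (π e0) → x ∈ center (C ⧸ K0) := fun x hx hxe => by
    obtain ⟨i, rfl⟩ := hcap x hx hxe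
    exact pow_mem hlc i
  have he1 : π e0 ∉ LC (C ⧸ K0) 1 := fun hh => Y.e_not_commute_c (hcom e0 hh)
  -- an element commuting with `c` outside the derived subgroup
  set T : Subgroup P := TC P (n - 3) with hT
  haveI : T.Normal := TC_normal (n - 3)
  have hTidx : T.index = p := Y.mc.TC_index (by omega) (by omega)
  obtain ⟨v, hvc, hvS⟩ : ∃ v : C, Commute (v : P) Y.c ∧
      π v ∉ zpowers (π e0) ⊔ LC (C ⧸ K0) 1 := by
    have hne : zpowers (π e0) ⊔ LC (C ⧸ K0) 1 ≠ ⊤ := fun e => by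
      have h1 := hX.line_index he1
      rw [e, index_top] at h1
      exact hp.out.ne_one h1.symm
    obtain ⟨x, -, hx⟩ := SetLike.exists_of_lt (lt_top_iff_ne_top.2 hne)
    obtain ⟨v1, rfl⟩ := hπsurj x
    have heT : (QuotientGroup.mk' T) Y.e ≠ 1 := fun e =>
      Y.e_not_commute_c ((mem_TC_top hA).1 ((QuotientGroup.eq_one_iff _).1 e))
    obtain ⟨i, hi⟩ := (Submonoid.mem_powers_iff _ _).1 (mem_powers_iff_mem_zpowers.2
      ((zpowers_eq_top_of_prime_card (G := P ⧸ T) (by rw [← index_eq_card, hTidx]) heT).ge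
        (mem_top (QuotientGroup.mk' T (v1 : P)))))
    refine ⟨v1 * (e0 ^ i)⁻¹, (mem_TC_top hA).1 ((QuotientGroup.eq_one_iff _).1 ?_), fun hh => hx ?_⟩
    · show QuotientGroup.mk' T _ = 1
      simp only [coe_mul, coe_inv, SubmonoidClass.coe_pow]
      rw [_root_.map_mul, _root_.map_inv, _root_.map_pow, hi]
      exact mul_inv_cancel _
    · have := mul_mem hh (mem_sup_left (pow_mem (mem_zpowers (π e0)) i))
      rwa [_root_.map_mul, _root_.map_inv, _root_.map_pow, inv_mul_cancel_right] at this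
  have hv1 : π v ∉ LC (C ⧸ K0) 1 := fun hh => hvS (mem_sup_right hh)
  have hMbar : ∀ x : C, Commute (x : P) Y.c →
      ∃ i : ℕ, ∃ w ∈ LC (C ⧸ K0) 1, π x = π v ^ i * w := by
    set Mb := (T.subgroupOf C).map π with hMb
    have hle : zpowers (π v) ⊔ LC (C ⧸ K0) 1 ≤ Mb := by
      refine sup_le (zpowers_le.2 ⟨v, mem_subgroupOf.2 ((mem_TC_top hA).2 hvc), rfl⟩) ?_
      intro x hx
      obtain ⟨u, rfl⟩ := hπsurj x
      exact ⟨u, mem_subgroupOf.2 ((mem_TC_top hA).2 (hcom u hx)), rfl⟩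
    have hne : π e0 ∉ Mb := by
      rintro ⟨y, hy, he⟩
      obtain ⟨i, hi⟩ := hπeq _ _ he
      refine Y.e_not_commute_c ?_
      rw [show Y.e = (y : P) * Y.h ^ i from hi]
      exact ((mem_TC_top hA).1 (mem_subgroupOf.1 hy)).mul_left (hTh.pow_left i)
    have heq : zpowers (π v) ⊔ LC (C ⧸ K0) 1 = Mb := by
      rcases (Nat.dvd_prime hp.out).1 ((hX.line_index hv1) ▸ index_dvd_of_le hle) with e | e
      · exact absurd ((index_eq_one.1 e).ge (mem_top _)) hne
      · refine eq_of_le_of_card_ge hle ?_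
        have h1 := (zpowers (π v) ⊔ LC (C ⧸ K0) 1).card_mul_index
        have h2 := Mb.card_mul_index
        rw [hX.line_index hv1] at h1
        rw [e] at h2
        exact (Nat.eq_of_mul_eq_mul_right hp.out.pos (h2.trans h1.symm)).le
    intro x hx
    obtain ⟨z, hz, w, hw, hzw⟩ := mem_sup_of_normal_right.1
      (heq.ge ⟨x, mem_subgroupOf.2 ((mem_TC_top hA).2 hx), rfl⟩)
    obtain ⟨i, rfl⟩ := (Submonoid.mem_powers_iff _ _).1 (mem_powers_iff_mem_zpowers.2 hz)
    exact ⟨i, w, hw, hzw.symm⟩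
  -- the Frattini quotient of `C`
  set D : Subgroup C := (LC (C ⧸ K0) 1).comap π with hD
  haveI : D.Normal := Normal.comap inferInstance π
  set π2 := QuotientGroup.mk' D with hπ2
  have hQc : ∀ x y : C, Commute (π2 x) (π2 y) := fun x y => by
    rw [← commutatorElement_eq_one_iff_commute, ← map_commutatorElement]
    refine (QuotientGroup.eq_one_iff _).2 ?_
    rw [hD, mem_comap, map_commutatorElement]
    exact comm_LC_left (i := 0) (mem_top _) _
  have hee : π2 e0 ^ p = 1 := by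
    rw [← _root_.map_pow, show e0 ^ p = 1 from Subtype.ext (by simpa using Y.exp_e), _root_.map_one]
  have hvp : π2 v ^ p = 1 := by
    rw [← _root_.map_pow]
    refine (QuotientGroup.eq_one_iff _).2 ?_
    rw [hD, mem_comap, _root_.map_pow]
    exact hX.pow_mem_LC_one _
  have hvord : orderOf (π2 v) = p := orderOf_eq_prime hvp fun e =>
    hv1 ((QuotientGroup.eq_one_iff v).1 e : v ∈ D)
  have hvcast : ∀ r s : ℕ, π2 v ^ r = π2 v ^ s → (r : ZMod p) = s := fun r s h => by
    have h1 := pow_eq_pow_iff_modEq.1 h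
    rwa [hvord, ← ZMod.natCast_eq_natCast_iff] at h1
  have hM2 : ∀ x : C, Commute (x : P) Y.c → ∃ i : ℕ, π2 x = π2 v ^ i := by
    intro x hx
    obtain ⟨i, w, hw, hxw⟩ := hMbar x hx
    refine ⟨i, ?_⟩
    rw [← _root_.map_pow]
    refine (QuotientGroup.eq.2 ?_).symm
    rw [hD, mem_comap, _root_.map_mul, _root_.map_inv, _root_.map_pow, hxw, inv_mul_cancel_left]
    exact hw
  -- invariance
  have hDinv : ∀ (f : P → P) (hf : Y.Map C f) (hfC : ∀ x ∈ C, f x ∈ C) (k : ℕ),
      f Y.h = Y.h * Y.l ^ k → D ≤ D.comap (endo hf hfC) := by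
    intro f hf hfC k fh x hx
    obtain ⟨y, hy, he⟩ := hmapLC.ge hx
    obtain ⟨i, hi⟩ := hπeq _ _ he
    have hxe : x = y * h0 ^ i := Subtype.ext (by simpa using hi)
    rw [mem_comap, hxe, _root_.map_mul, _root_.map_pow]
    have hL : LC C 1 ≤ (LC C 1).comap (endo hf hfC) := commutator_le.2 fun u _ w _ => by
      rw [mem_comap, map_commutatorElement]
      exact comm_LC_left (i := 0) (mem_top _) _
    refine mul_mem ?_ (pow_mem ?_ i)
    · rw [hD, mem_comap]
      exact hmapLC.le (mem_map_of_mem π (hL hy))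
    · rw [hD, mem_comap, show endo hf hfC h0 = h0 * l0 ^ k from Subtype.ext (by simpa [h0, l0] using fh),
        _root_.map_mul, _root_.map_pow, hh0, one_mul]
      exact pow_mem hl1 k
  -- the key fact
  have hKEY : ∀ (f : P → P) (k : ℕ), Y.Map C f → f Y.l = Y.l → f Y.h = Y.h * Y.l ^ k →
      ∀ y : C, (y : P) = f Y.e * Y.e⁻¹ → y ∈ D → p ∣ k := by
    intro f k hf fl fh y hy hyD
    obtain ⟨x, hx⟩ := class_surj hX (e := π e0) (by rw [hcente, hEbcard]) (η := π y) hyD
    obtain ⟨r, rfl⟩ := hπsurj x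
    rw [← _root_.map_inv, ← _root_.map_mul, ← _root_.map_mul, ← _root_.map_mul] at hx
    obtain ⟨i, hi⟩ := hπeq _ _ hx
    simp only [coe_mul, coe_inv, hy, e0, inv_mul_cancel_right] at hi
    have hrh : Commute (r : P) Y.h := mem_centralizer_singleton_iff.1 r.2
    have hψ : Y.Map Y.E (cj (r : P)⁻¹ ∘ f) := Y.map_comp (Y.map_mono hf hEC)
      (Y.map_conj ⊤ _) fun x _ => mem_top _
    have hrl : Commute (r : P)⁻¹ Y.l := mem_center_iff.1 hA.1 _
    have h1 := Y.fix_h_of_uni hp2 hψ (k := k) (i := i) (j := 0)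
      (by
        simp only [Function.comp_apply, cj]
        rw [fl, hrl.eq, mul_inv_cancel_right])
      (by
        simp only [Function.comp_apply, cj]
        rw [fh, (hrh.inv_left.mul_right (hrl.pow_right k)).eq, mul_inv_cancel_right])
      (by
        simp only [Function.comp_apply, cj]
        rw [hi, pow_zero, mul_one, inv_inv, mul_assoc ((r : P)⁻¹), mul_assoc _ (Y.h ^ i) (r : P),
          ← (hrh.pow_right i).eq]
        group)
    simp only [Function.comp_apply, cj] at h1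
    rw [fh, (hrh.inv_left.mul_right (hrl.pow_right k)).eq, mul_inv_cancel_right, mul_eq_left] at h1
    exact (Y.indep k 0 0 (by rw [h1]; simp)).1
  -- the scalars
  have hθc : ∀ x : C, Commute (x : P) Y.c → Commute (endo hθ hθC x : P) Y.c := fun x hx =>
    commute_c_map hA haa (N_le_C hA) le_rfl hθall x.2 hx
  have hθh0 : endo hθ hθC h0 = h0 := Subtype.ext θh
  obtain ⟨μ, w, hw, hμw⟩ := hMbar _ (hθc v hvc)
  set φ : C ⧸ K0 →* C ⧸ K0 := QuotientGroup.map K0 K0 (endo hθ hθC)
    (zpowers_le.2 (by rw [mem_comap, hθh0]; exact mem_zpowers h0)) with hφ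
  have hφπ : ∀ x : C, φ (π x) = π (endo hθ hθC x) := fun x => rfl
  have hrel := scalar_rel hX hcap' he1 hvS φ (a := a) (a' := a') (μ := μ)
    (by rw [hφπ, ← _root_.map_pow]; exact congrArg π (Subtype.ext (by simpa [e0] using θe))) hw
    (by rw [hφπ, hμw])
    (fun z hz => by
      have hz1 : z ∈ LC (C ⧸ K0) 1 := by
        rw [hX.center_eq] at hz
        exact LC_le (by omega) hz
      obtain ⟨i, rfl⟩ := hcap z hz1 (mem_center_iff.1 hz (π e0)).symm
      rw [_root_.map_pow, hφπ, show endo hθ hθC l0 = l0 ^ a from Subtype.ext (by simpa [l0] using θl),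
        _root_.map_pow, ← pow_mul, ← pow_mul, mul_comm])
  -- conjugation by an element normalizing `C`
  haveI := Y.isPGroup.isNilpotent
  obtain ⟨g, hgN, hgC⟩ := SetLike.exists_of_lt
    (Group.normalizerCondition_of_isNilpotent C hCtop)
  obtain ⟨k, hgk⟩ := conj_h hA hgN
  have hk : ¬ p ∣ k := fun ⟨k', hk'⟩ => hgC (mem_centralizer_singleton_iff.2 (by
    rw [hk', pow_mul, Y.exp_l, one_pow, mul_one, mul_inv_eq_iff_eq_mul] at hgk
    exact hgk))
  have hgC' : ∀ g' ∈ normalizer (C : Set P), ∀ x ∈ C, cj g' x ∈ C := fun g' hg' x hx =>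
    (hg' x).1 hx
  set cg := endo (Y.map_conj C g) (hgC' g hgN) with hcg
  set ψg := QuotientGroup.map D D cg (hDinv _ _ _ k hgk) with hψg
  set ψθ := QuotientGroup.map D D (endo hθ hθC)
    (hDinv _ _ _ 0 (by rw [pow_zero, mul_one]; exact θh)) with hψθ
  have hψgπ : ∀ x : C, ψg (π2 x) = π2 (cg x) := fun x => rfl
  have hψθπ : ∀ x : C, ψθ (π2 x) = π2 (endo hθ hθC x) := fun x => rfl
  have hiter : ∀ (N : ℕ) (x : C), ψg^[N] (π2 x) = π2 (cg^[N] x) ∧
      ((cg^[N] x : C) : P) = g ^ N * x * (g ^ N)⁻¹ := by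
    intro N x
    induction N with
    | zero => exact ⟨rfl, by simp⟩
    | succ N ih =>
      refine ⟨by rw [Function.iterate_succ_apply', Function.iterate_succ_apply', ih.1, hψgπ], ?_⟩
      rw [Function.iterate_succ_apply', hcg, coe_endo, ← hcg, ih.2, cj, pow_succ']
      group
  have hgv : ψg (π2 v) = π2 v := by
    obtain ⟨t, ht⟩ := hM2 (cg v) ((mem_TC_top hA).1
      ((TC_normal (n - 3)).conj_mem _ ((mem_TC_top hA).2 hvc) g))
    rw [← hψgπ] at ht
    have hN : ∀ N : ℕ, ψg^[N] (π2 v) = π2 v ^ t ^ N := by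
      intro N
      induction N with
      | zero => simp
      | succ N ih => rw [Function.iterate_succ_apply', ih, _root_.map_pow, ht, ← pow_mul, pow_succ']
    have hg1 : g ^ p ^ n = 1 := by
      rw [← Y.mc.card_eq]
      exact pow_card_eq_one'
    have h1 : π2 v ^ t ^ (p ^ n) = π2 v ^ 1 := by
      rw [← hN, (hiter _ v).1, pow_one]
      exact congrArg π2 (Subtype.ext (by rw [(hiter _ v).2, hg1]; simp))
    have h2 := hvcast _ _ h1
    rw [Nat.cast_pow, ZMod.pow_card_pow] at h2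
    rw [ht, pow_eq_of_cast hvp h2, pow_one]
  obtain ⟨s, hs⟩ : ∃ s : ℕ, ψg (π2 e0) = π2 v ^ s * π2 e0 := by
    obtain ⟨s, hs⟩ := hM2 (cg e0 * e0⁻¹) ((mem_TC_top hA).1 (LC_one_le_TC _ (by
      simp only [coe_mul, coe_inv, hcg, coe_endo, cj]
      rw [← commutatorElement_def]
      exact comm_LC_left (i := 0) (mem_top g) _)))
    exact ⟨s, by rw [← hs, hψgπ, _root_.map_mul, _root_.map_inv, inv_mul_cancel_right]⟩
  have hθv : ψθ (π2 v) = π2 v ^ μ := by
    rw [hψθπ, ← _root_.map_pow]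
    refine (QuotientGroup.eq.2 ?_).symm
    rw [hD, mem_comap, _root_.map_mul, _root_.map_inv, _root_.map_pow, hμw, inv_mul_cancel_left]
    exact hw
  have hθe : ψθ (π2 e0) = π2 e0 ^ a' := by
    rw [hψθπ, ← _root_.map_pow]
    exact congrArg π2 (Subtype.ext (by simpa [e0] using θe))
  have hgq : ∀ q : ℕ, ψg^[q] (π2 e0) = π2 v ^ (q * s) * π2 e0 ∧
      g ^ q * Y.h * (g ^ q)⁻¹ = Y.h * Y.l ^ (q * k) := by
    intro q
    induction q with
    | zero => simp
    | succ q ih =>
      refine ⟨?_, ?_⟩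
      · rw [Function.iterate_succ_apply', ih.1, _root_.map_mul, _root_.map_pow, hgv, hs, ← mul_assoc, ← pow_add,
          ← Nat.succ_mul]
      · have hgl : Commute g (Y.l ^ (q * k)) :=
          (show Commute g Y.l from mem_center_iff.1 hA.1 g).pow_right _
        calc g ^ (q + 1) * Y.h * (g ^ (q + 1))⁻¹
            = g * (g ^ q * Y.h * (g ^ q)⁻¹) * g⁻¹ := by rw [pow_succ']; group
          _ = g * Y.h * g⁻¹ * (g * Y.l ^ (q * k) * g⁻¹) := by rw [ih.2]; group
          _ = _ := by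
            rw [hgk, hgl.eq, mul_inv_cancel_right, mul_assoc, ← pow_add, Nat.succ_mul, add_comm k]
  -- `μ = 1`
  have hμ : (μ : ZMod p) = 1 := by
    obtain ⟨θ', hθ', hθ'C, hl', hr'⟩ := Y.map_inv hθ hθC
    have hlC := hEC Y.l_mem
    have hhC := hEC Y.h_mem
    have heC := hEC Y.e_mem
    have h1 : ((a * a' : ℕ) : ZMod p) = ((1 : ℕ) : ZMod p) := by push_cast; exact haa
    have θl' : θ' Y.l = Y.l ^ a' := by
      rw [← hl' _ (pow_mem hlC a'), Y.map_pow hθ hlC, θl, ← pow_mul, pow_eq_of_cast Y.exp_l h1,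
        pow_one]
    have θe' : θ' Y.e = Y.e ^ a := by
      rw [← hl' _ (pow_mem heC a), Y.map_pow hθ heC, θe, ← pow_mul, mul_comm,
        pow_eq_of_cast Y.exp_e h1, pow_one]
    have θh' : θ' Y.h = Y.h := by
      conv_lhs => rw [← θh]
      exact hl' _ hhC
    set q := μ * a with hq
    set g' := (g ^ q)⁻¹ with hg'
    have hg'N : g' ∈ normalizer (C : Set P) := inv_mem (pow_mem hgN q)
    set f1 : P → P := θ ∘ (cj g ∘ θ') with hf1
    have hf1C : ∀ x ∈ C, f1 x ∈ C := fun x hx => hθC _ (hgC' g hgN _ (hθ'C x hx))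
    set F : P → P := cj g' ∘ f1 with hF
    have hFmap : Y.Map C F := Y.map_comp
      (Y.map_comp (Y.map_comp hθ' (Y.map_conj C g) hθ'C) hθ fun x hx => hgC' g hgN _ (hθ'C x hx))
      (Y.map_conj C g') hf1C
    set y1 : C := endo hθ hθC (cg (e0 ^ a)) with hy1
    have hy1v : (y1 : P) = f1 Y.e := by
      simp only [hy1, hcg, coe_endo, SubmonoidClass.coe_pow, hf1, Function.comp_apply, θe', e0]
    have hy2 : π2 y1 = π2 (cg^[q] e0) := by
      rw [hy1, ← hψθπ, ← hψgπ, _root_.map_pow, _root_.map_pow, hs, _root_.map_pow, _root_.map_mul, _root_.map_pow, hθv, hθe,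
        ← (hiter q e0).1, (hgq q).1,
        Commute.mul_pow ((hQc _ _).pow_pow _ _ |>.pow_left _), ← pow_mul, ← pow_mul, ← pow_mul]
      congr 1
      · exact pow_eq_of_cast hvp (by push_cast [hq]; ring)
      · rw [mul_comm a', pow_eq_of_cast hee h1, pow_one]
    obtain ⟨i, hi⟩ := conj_h hA hg'N
    have hd : (cg^[q] e0)⁻¹ * y1 ∈ D := QuotientGroup.eq.1 hy2.symm
    have hd' := hDinv _ (Y.map_conj C g') (hgC' g' hg'N) i hi hd
    rw [mem_comap] at hd'
    have hFe : (e0 * endo (Y.map_conj C g') (hgC' g' hg'N) ((cg^[q] e0)⁻¹ * y1) * e0⁻¹ : P)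
        = F Y.e * Y.e⁻¹ := by
      simp only [coe_endo, coe_mul, coe_inv, (hiter q e0).2, hy1v, hF, Function.comp_apply, cj,
        hg', e0]
      group
    have hgl : ∀ x : P, Commute x Y.l := fun x => mem_center_iff.1 hA.1 x
    have hFl : F Y.l = Y.l := by
      simp only [hF, hf1, Function.comp_apply, cj]
      rw [θl', ((hgl g).pow_right a').eq, mul_inv_cancel_right, Y.map_pow hθ hlC, θl, ← pow_mul,
        pow_eq_of_cast Y.exp_l h1, pow_one, (hgl g').eq, mul_inv_cancel_right]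
    have hFh : F Y.h = Y.h * Y.l ^ (i + a * k) := by
      simp only [hF, hf1, Function.comp_apply, cj]
      rw [θh', hgk, Y.map_mul hθ _ hhC _ (pow_mem hlC k), Y.map_pow hθ hlC, θh, θl, ← pow_mul,
        show g' * (Y.h * Y.l ^ (a * k)) * g'⁻¹ =
          g' * Y.h * g'⁻¹ * (g' * Y.l ^ (a * k) * g'⁻¹) by group,
        hi, ((hgl g').pow_right (a * k)).eq, mul_inv_cancel_right, mul_assoc, ← pow_add]
    have hdiv := hKEY F (i + a * k) hFmap hFl hFh _ hFe (Normal.conj_mem inferInstance _ hd' e0)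
    have hdiv2 : p ∣ q * k + i := by
      refine (Y.indep (q * k + i) 0 0 ?_).1
      have h2 := (hgq q).2
      have h3 : Y.h = g ^ q * (Y.h * Y.l ^ i) * (g ^ q)⁻¹ := by
        rw [← hi, hg']; group
      rw [show g ^ q * (Y.h * Y.l ^ i) * (g ^ q)⁻¹ =
        g ^ q * Y.h * (g ^ q)⁻¹ * (g ^ q * Y.l ^ i * (g ^ q)⁻¹) by group, h2,
        ((hgl (g ^ q)).pow_right i).eq, mul_inv_cancel_right, mul_assoc, ← pow_add,
        left_eq_mul] at h3
      rw [h3]; simp
    have e1 : ((i + a * k : ℕ) : ZMod p) = 0 := (ZMod.natCast_eq_zero_iff _ _).2 hdiv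
    have e2 : ((q * k + i : ℕ) : ZMod p) = 0 := (ZMod.natCast_eq_zero_iff _ _).2 hdiv2
    push_cast [hq] at e1 e2
    have e3 : ((a : ZMod p) * k) * ((μ : ZMod p) - 1) = 0 := by linear_combination e2 - e1
    have e4 : ((a : ZMod p) * k) ≠ 0 := mul_ne_zero
      (fun h => zero_ne_one (by rw [← haa, h, zero_mul]))
      fun h => hk ((ZMod.natCast_eq_zero_iff _ _).1 h)
    exact sub_eq_zero.1 ((mul_eq_zero.1 e3).resolve_left e4)
  -- `m = p`
  have hdvd : p - 1 ∣ m - 1 := hgen _ (by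
    rw [show m - 1 = (m - 2) + 1 by omega, pow_succ]
    calc (a : ZMod p) ^ (m - 2) * a = (a : ZMod p) ^ (m - 2) * ((μ : ZMod p) * a' ^ (m - 2)) := by
          rw [hrel]
      _ = ((a : ZMod p) * a') ^ (m - 2) := by rw [hμ, mul_pow]; ring
      _ = 1 := by rw [haa, one_pow])
  have hmp : m = p := by
    obtain ⟨t, ht⟩ := hdvd
    rcases lt_trichotomy t 1 with h | h | h
    · rw [show t = 0 by omega] at ht; omega
    · rw [h, mul_one] at ht; omega
    · have := Nat.mul_le_mul_left (p - 1) (show 2 ≤ t by omega)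
      omega
  subst hmp
  have hD1 : ∀ x : C, (x : P) ∈ LC P (n - m) → x ∈ D := by
    intro x hx
    set W := (LC P (n - m)).subgroupOf C with hW
    haveI : W.Normal := Normal.subgroupOf inferInstance C
    haveI : (W.map π).Normal := Normal.map inferInstance π hπsurj
    have hKW : K0 ≤ W := zpowers_le.2 (mem_subgroupOf.2 (LC_le (by omega) hj))
    have hWle : Nat.card W ≤ m ^ (m - 1) := by
      have h1 : Nat.card W ≤ Nat.card (LC P (n - m)) :=
        Nat.card_le_card_of_injective (fun y => (⟨((y : C) : P), mem_subgroupOf.1 y.2⟩ : LC P (n - m)))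
          fun y z hyz => Subtype.ext (Subtype.ext (congrArg (fun t : LC P (n - m) => (t : P)) hyz))
      rwa [Y.mc.card_LC (by omega) (by omega), show n - 1 - (n - m) = m - 1 by omega] at h1
    obtain ⟨w, hw⟩ := (hX.isPGroup.to_subgroup (W.map π)).exists_card_eq
    have hwle : w + 2 ≤ m := by
      rw [hcardmap W hKW, hw, ← pow_succ', Nat.pow_le_pow_iff_right hp.out.one_lt] at hWle
      omega
    have hidx : (W.map π).index = m ^ (m - w) := by
      have h1 := (W.map π).card_mul_index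
      rw [hw, hXcard, show m ^ m = m ^ w * m ^ (m - w) by rw [← pow_add]; congr 1; omega] at h1
      exact Nat.eq_of_mul_eq_mul_left (pow_pos hp.out.pos w) h1
    have h2 := CfsgLib.PGroup.maxClass_normal_eq hX.three_le hX.card_eq hX.class_eq (W.map π)
      (by omega : 2 ≤ m - w) hidx
    rw [hD, mem_comap]
    have h3 : π x ∈ W.map π := mem_map_of_mem π (mem_subgroupOf.2 hx)
    rw [h2] at h3
    exact LC_le (by omega) h3
  by_cases hcase : LC P (n - 1 - m) ≤ C
  · -- the lowest relevant term lies in `C`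
    set W := (LC P (n - m)).subgroupOf C with hW
    have hWC : LC P (n - m) ≤ C := (LC_le (by omega)).trans hcase
    have hD2 : ∀ x ∈ D, (x : P) ∈ LC P (n - m) := by
      have hKW : K0 ≤ W := zpowers_le.2 (mem_subgroupOf.2 (LC_le (by omega) hj))
      have hle : W.map π ≤ LC (C ⧸ K0) 1 := by
        rintro _ ⟨y, hy, rfl⟩
        exact hD1 y (mem_subgroupOf.1 hy)
      have heq := eq_of_le_of_card_ge hle (by
        have h1 := hcardmap W hKW
        rw [Nat.card_congr (subgroupOfEquivOfLe hWC).toEquiv, Y.mc.card_LC (by omega) (by omega),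
          show n - 1 - (n - m) = (m - 2) + 1 by omega, pow_succ'] at h1
        rw [← Nat.eq_of_mul_eq_mul_left hp.out.pos h1, hX.card_LC le_rfl (by omega),
          show m - 1 - 1 = m - 2 by omega])
      intro x hx
      obtain ⟨y, hy, he⟩ := heq.ge hx
      obtain ⟨i, hi⟩ := hπeq _ _ he
      rw [hi]
      exact mul_mem (mem_subgroupOf.1 hy) (pow_mem (LC_le (by omega) hj) i)
    obtain ⟨w, hw, hw'⟩ := Y.mc.exists_mem_not_mem (i := n - 1 - m) (by omega) (by omega)
    let w0 : C := ⟨w, hcase hw⟩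
    obtain ⟨i, hi⟩ := hM2 w0 ((mem_TC_top hA).1 (LC_one_le_TC _ (LC_le (by omega) hw)))
    have h1 : π2 (endo hθ hθC w0) = π2 w0 := by
      rw [← hψθπ, hi, _root_.map_pow, hθv, ← pow_mul]
      exact pow_eq_of_cast hvp (by push_cast; rw [hμ, one_mul])
    have hd := hD2 _ (QuotientGroup.eq.1 h1.symm)
    simp only [coe_mul, coe_inv, coe_endo, w0] at hd
    set d := w⁻¹ * θ w with hddef
    obtain ⟨sg, -, hsg, -, -⟩ := Y.mc.exists_two_good
    have hexp : ∀ x ∈ LC P (n - m), x ^ m = 1 := fun x hx => by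
      have h2 := hsg.pow_mem Y.mc n (n - m) (by omega) (by omega) x hx
      rwa [show n - m + m - 1 = n - 1 by omega, Y.mc.LC_eq_bot le_rfl, mem_bot] at h2
    have hXle : closure ({w, d} : Set P) ≤ LC P (n - 1 - m) := by
      rw [closure_le]
      rintro x (rfl | rfl)
      exacts [hw, LC_le (by omega) hd]
    obtain ⟨c', hc', hpow⟩ := pow_mul_eq hp.out w d fun x hx =>
      hexp x ((commutator_mono hXle hXle).trans (commutator_le.2 fun u hu v' hv' =>
        comm_LC hu hv' (by omega)) hx)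
    have hlcs : ∀ t, (closure ({w, d} : Set P)).lowerCentralSeries t ≤
        LC P (n - 1 - m + 2 * t) := by
      intro t
      induction t with
      | zero => simpa using hXle
      | succ t ih =>
        exact (commutator_mono ih hXle).trans (commutator_le.2 fun u hu v' hv' =>
          comm_LC hu hv' (by omega))
    have hc1 : c' = 1 := by
      have h2 := hlcs (m - 1) hc'
      rwa [Y.mc.LC_eq_bot (by omega), mem_bot] at h2
    rw [hc1, mul_one, hexp d hd, mul_one, hddef, mul_inv_cancel_left] at hpow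
    -- the power is central
    have hwp := hsg.pow_mem Y.mc n (n - 1 - m) (by omega) (by omega) w hw
    have hwp' := hsg.pow_not_mem Y.mc (i := n - 1 - m) (by omega) hw hw' (by omega)
    rw [show n - 1 - m + m = n - 1 by omega, Y.mc.LC_eq_bot le_rfl, mem_bot] at hwp'
    rw [show n - 1 - m + m - 1 = n - 2 by omega, ← Y.mc.center_eq, center_eq_l hA] at hwp
    obtain ⟨r, hr⟩ := (Submonoid.mem_powers_iff _ _).1 (mem_powers_iff_mem_zpowers.2 hwp)
    have hθw : θ (w ^ m) = w ^ m := by rw [Y.map_pow hθ (hcase hw), hpow]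
    rw [← hr, Y.map_pow hθ (hEC Y.l_mem), θl, ← pow_mul] at hθw
    have h3 := pow_eq_pow_iff_modEq.1 hθw
    rw [orderOf_eq_prime Y.exp_l Y.l_ne_one, ← ZMod.natCast_eq_natCast_iff] at h3
    push_cast at h3
    have hr0 : (r : ZMod m) ≠ 0 := fun h => hwp' (by
      obtain ⟨r', rfl⟩ := (ZMod.natCast_eq_zero_iff _ _).1 h
      rw [← hr, pow_mul, Y.exp_l, one_pow])
    have ha1 : (a : ZMod m) ^ 1 = 1 := by
      rw [pow_one]
      exact mul_right_cancel₀ hr0 (by rw [h3, one_mul])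
    have := Nat.le_of_dvd one_pos (hgen 1 ha1)
    omega
  · -- some term moves `h` while keeping its image deep
    obtain ⟨b, hb1, hb2, hbC, hbC'⟩ : ∃ b, n - 1 - m ≤ b ∧ b + 2 ≤ n ∧ ¬ LC P b ≤ C ∧
        LC P (b + 1) ≤ C := by
      have hex : ∃ d, LC P (n - 1 - m + d) ≤ C := ⟨n, by
        rw [Y.mc.LC_eq_bot (by omega)]
        exact bot_le⟩
      have hd0 : Nat.find hex ≠ 0 := fun h => hcase (by simpa [h] using Nat.find_spec hex)
      refine ⟨n - 1 - m + (Nat.find hex - 1), by omega, ?_, Nat.find_min hex (by omega), ?_⟩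
      · by_contra hc
        refine Nat.find_min hex (show Nat.find hex - 1 < Nat.find hex by omega) ?_
        rw [Y.mc.LC_eq_bot (by omega)]
        exact bot_le
      · have h1 := Nat.find_spec hex
        rwa [show n - 1 - m + (Nat.find hex - 1) + 1 = n - 1 - m + Nat.find hex by omega]
    obtain ⟨u, hu, huC⟩ := SetLike.not_le_iff_exists.1 hbC
    have huN : u ∈ normalizer (C : Set P) := mem_normalizer_fintype fun x hx => by
      rw [conj_eq_comm_mul]
      exact mul_mem (hbC' (comm_LC_left hu x)) hx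
    obtain ⟨ku, hku⟩ := conj_h hA huN
    refine absurd (hKEY (cj u) ku (Y.map_conj C u) ?_ hku
      ⟨⁅u, Y.e⁆, hbC' (comm_LC_left hu _)⟩ (by simp [cj, commutatorElement_def])
      (hD1 _ (LC_le (by omega) (comm_LC_left hu Y.e)))) fun ⟨k', hk'⟩ => huC ?_
    · rw [cj, (show Commute u Y.l from mem_center_iff.1 hA.1 u).eq, mul_inv_cancel_right]
    · rw [hk', pow_mul, Y.exp_l, one_pow, mul_one, mul_inv_eq_iff_eq_mul] at hku
      exact mem_centralizer_singleton_iff.2 hku

end CubeSys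

end CfsgLib.MaxClassEss
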