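import Cfsg.Agent.Lib.MaxClassEss.Common

/-!
The case where `c` generates the second centre modulo the centre: local facts and the extension
of the torus to `C(h)`.
-/

set_option autoImplicit false
set_option linter.style.haveILetI false
set_option linter.unusedSectionVars false

namespace CfsgLib.MaxClassEss

open Subgroup CfsgLib.Coprime.MaxClassUniform
open scoped commutatorElement

variable {P : Type*} [Group P] [Finite P] {p : ℕ} [hp : Fact p.Prime] {n : ℕ}
  (Y : CubeSys p n P)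

namespace CubeSys

/-- The hypotheses of the case: `l` is central and `c` lies in the second centre. -/
def IsCaseA : Prop := Y.l ∈ center P ∧ Y.c ∈ LC P (n - 3)

variable {Y} (hA : Y.IsCaseA)
include hA

theorem center_le_E : center P ≤ Y.E := (center_le_centralizer _).trans Y.cent_E

theorem center_eq_l : center P = zpowers Y.l := by
  refine (eq_of_le_of_card_ge (zpowers_le.2 hA.1) ?_).symm
  rw [Y.mc.card_center, Nat.card_zpowers, orderOf_eq_prime Y.exp_l Y.l_ne_one]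

theorem c_not_LC : Y.c ∉ LC P (n - 2) := fun h => Y.c_not (by
  rw [← Y.mc.center_eq] at h
  exact center_le_E hA h)

theorem mem_TC_top {g : P} : g ∈ TC P (n - 3) ↔ Commute g Y.c := by
  have h5 := Y.five_le
  constructor
  · intro hg
    have := mem_TC_iff.1 hg Y.c hA.2
    rw [Y.mc.LC_eq_bot (show n - 1 ≤ n - 3 + 2 by omega), mem_bot] at this
    exact commutatorElement_eq_one_iff_commute.1 this
  · intro hg
    by_contra hn
    refine Y.mc.comm_not_mem (by omega) hn hA.2 ?_ ?_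
    · rw [show n - 3 + 1 = n - 2 by omega]; exact c_not_LC hA
    · rw [commutatorElement_eq_one_iff_commute.2 hg]
      exact one_mem _

theorem c_pow_p : Y.c ^ p ∈ center P := by
  have h5 := Y.five_le
  rw [Y.mc.center_eq]
  by_contra hc
  have h1 : zpowers Y.c ⊔ LC P (n - 2) ≤ LC P (n - 3) :=
    sup_le (zpowers_le.2 hA.2) (LC_le (by omega))
  haveI : (LC P (n - 2)).Normal := inferInstance
  set π := QuotientGroup.mk' (LC P (n - 2))
  have hcard : Nat.card ((LC P (n - 3)).map π) = p := by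
    rw [show Nat.card ((LC P (n - 3)).map π) = π.ker.relIndex (LC P (n - 3)) from (relIndex_ker _ _).symm,
      QuotientGroup.ker_mk']
    have h2 := relIndex_mul_relIndex ⊥ (LC P (n - 2)) (LC P (n - 3)) bot_le (LC_le (by omega))
    rw [relIndex_bot_left, relIndex_bot_left, Y.mc.card_LC (by omega) (by omega),
      Y.mc.card_LC (by omega) (by omega), show n - 1 - (n - 2) = 1 by omega,
      show n - 1 - (n - 3) = 2 by omega, pow_one, pow_two] at h2
    exact Nat.eq_of_mul_eq_mul_left hp.out.pos h2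
  have h3 := pow_card_eq_one' (x := (⟨π Y.c, mem_map_of_mem π hA.2⟩ : (LC P (n - 3)).map π))
  rw [hcard] at h3
  refine hc ((QuotientGroup.eq_one_iff _).1 ?_)
  simpa [π] using congrArg Subtype.val h3

theorem commute_c_of_pow {y : P} {m : ℕ} (hm : ¬ p ∣ m) (hy : Commute y (Y.c ^ m)) :
    Commute y Y.c := by
  obtain ⟨k, hk⟩ : ∃ k : ℕ, m * k % p = 1 := by
    refine ⟨((m : ZMod p)⁻¹).val, ?_⟩
    have : ((m * ((m : ZMod p)⁻¹).val : ℕ) : ZMod p) = ((1 : ℕ) : ZMod p) := by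
      push_cast
      rw [ZMod.natCast_zmod_val, mul_inv_cancel₀ fun e => hm ((ZMod.natCast_eq_zero_iff _ _).1 e)]
    have h1 := (ZMod.natCast_eq_natCast_iff' _ _ p).1 this
    rwa [Nat.mod_eq_of_lt hp.out.one_lt] at h1
  have h1 := hy.pow_right k
  rw [← pow_mul, ← Nat.mod_add_div (m * k) p, hk, pow_add, pow_one, pow_mul] at h1
  have hz : Commute y ((Y.c ^ p) ^ (m * k / p))⁻¹ :=
    (mem_center_iff.1 (inv_mem (pow_mem (c_pow_p hA) _)) y)
  simpa [mul_assoc] using h1.mul_right hz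

theorem cent_e : centralizer ({Y.e} : Set P) = Y.E := by
  have hle : Y.E ≤ centralizer ({Y.e} : Set P) := fun x hx =>
    mem_centralizer_singleton_iff.2 (Y.comm_E x hx _ Y.e_mem)
  refine le_antisymm ?_ hle
  by_contra hn
  haveI := Y.isPGroup.isNilpotent
  have hlt : Y.E < centralizer ({Y.e} : Set P) := lt_of_le_not_ge hle hn
  have hlt' : Y.E.subgroupOf (centralizer ({Y.e} : Set P)) < ⊤ := by
    rw [lt_top_iff_ne_top, Ne, subgroupOf_eq_top]
    exact hlt.not_ge
  obtain ⟨⟨g, hgC⟩, hg1, hg2⟩ := SetLike.exists_of_lt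
    (Group.normalizerCondition_of_isNilpotent _ hlt')
  have hgN : g ∈ normalizer (Y.E : Set P) := mem_normalizer_fintype fun x hx =>
    mem_subgroupOf.1 ((hg1 ⟨x, hle hx⟩).1 (mem_subgroupOf.2 hx))
  obtain ⟨u, hu, k, rfl, -, -, ge⟩ := Y.act_N hgN
  rw [mem_centralizer_singleton_iff.1 hgC, mul_inv_cancel_right, right_eq_mul] at ge
  obtain ⟨k', rfl⟩ := (Y.indep k 0 0 (by rw [ge]; simp)).1
  refine hg2 (mem_subgroupOf.2 (Y.E.mul_mem hu ?_))
  rw [pow_mul]
  exact pow_mem (center_le_E hA (c_pow_p hA)) _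

theorem h_mem_LC_one : Y.h ∈ LC P 1 := by
  have h5 := Y.five_le
  by_contra hh
  have hTC : zpowers Y.h ⊔ LC P 1 = TC P (n - 3) := by
    refine eq_of_le_of_card_ge (sup_le (zpowers_le.2 ((mem_TC_top hA).2 ?_)) (LC_one_le_TC _)) ?_
    · exact (mul_inv_eq_iff_eq_mul.1 Y.c_h).symm
    · have e1 := (zpowers Y.h ⊔ LC P 1).card_mul_index
      have e2 := (TC P (n - 3)).card_mul_index
      rw [Y.mc.line_index hh] at e1
      rw [Y.mc.TC_index (by omega) (by omega)] at e2
      exact (Nat.eq_of_mul_eq_mul_right hp.out.pos (e2.trans e1.symm)).le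
  have htop := Y.mc.eq_top_of_gen' (H := centralizer ({Y.e} : Set P)) hh (t := Y.e)
    (fun h => Y.e_not_commute_c ((mem_TC_top hA).1 (hTC.le h)))
    (mem_centralizer_singleton_iff.2 Y.commute_he.eq) (mem_centralizer_singleton_iff.2 rfl)
  exact Y.e_not_commute_c (mem_centralizer_singleton_iff.1 (htop.ge (mem_top Y.c))).symm

theorem h_not_LC : Y.h ∉ LC P (n - 3) := by
  have h5 := Y.five_le
  intro hh
  obtain ⟨u, hu, z, hz, huz⟩ := mem_sup_of_normal_right.1
    (Y.mc.LC_gen (by omega) hA.2 (by rw [show n - 3 + 1 = n - 2 by omega]; exact c_not_LC hA) hh)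
  obtain ⟨k, rfl⟩ := mem_zpowers_iff.1 hu
  rw [show n - 3 + 1 = n - 2 by omega, ← Y.mc.center_eq] at hz
  have hck : Y.c ^ k ∈ Y.E := by
    have := mul_mem Y.h_mem (inv_mem (center_le_E hA hz))
    rwa [← huz, mul_inv_cancel_right] at this
  by_cases hk : (p : ℤ) ∣ k
  · obtain ⟨q, rfl⟩ := hk
    have hhc : Y.h ∈ center P := by
      rw [← huz, zpow_mul, zpow_natCast]
      exact mul_mem (zpow_mem (c_pow_p hA) q) hz
    rw [center_eq_l hA] at hhc
    obtain ⟨i, hi⟩ := (Submonoid.mem_powers_iff _ _).1 (mem_powers_iff_mem_zpowers.2 hhc)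
    have h1 := Y.indep (i * (p - 1)) 1 0 (by
      rw [pow_zero, mul_one, pow_one, ← hi, ← pow_add, ← Nat.mul_succ,
        Nat.succ_eq_add_one, Nat.sub_add_cancel hp.out.one_le, mul_comm, pow_mul, Y.exp_l, one_pow])
    exact hp.out.not_dvd_one h1.2.1
  · obtain ⟨a, b, hab⟩ : IsCoprime k (p : ℤ) :=
      Int.isCoprime_iff_gcd_eq_one.2 (Int.isCoprime_iff_gcd_eq_one.1
        ((Nat.prime_iff_prime_int.1 hp.out).coprime_iff_not_dvd.2 hk).symm)
    refine Y.c_not ?_
    have h1 : Y.c ^ (k * a + (p : ℤ) * b) ∈ Y.E := by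
      rw [zpow_add, zpow_mul, zpow_mul, zpow_natCast]
      exact mul_mem (zpow_mem hck a) (zpow_mem (center_le_E hA (c_pow_p hA)) b)
    rwa [show k * a + (p : ℤ) * b = 1 by linear_combination hab, zpow_one] at h1

theorem exists_layer : ∃ j, 1 ≤ j ∧ j + 4 ≤ n ∧ Y.h ∈ LC P j ∧ Y.h ∉ LC P (j + 1) := by
  classical
  have hex : ∃ j, Y.h ∉ LC P (j + 1) := ⟨n - 4, by
    have h5 := Y.five_le
    rw [show n - 4 + 1 = n - 3 by omega]
    exact h_not_LC hA⟩
  set j := Nat.find hex with hj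
  have hjn : j ≤ n - 4 := Nat.find_min' hex (by
    have h5 := Y.five_le
    rw [show n - 4 + 1 = n - 3 by omega]
    exact h_not_LC hA)
  have hj1 : 1 ≤ j := by
    by_contra h0
    have := Nat.find_spec hex
    rw [← hj, show j = 0 by omega] at this
    exact this (h_mem_LC_one hA)
  refine ⟨j, hj1, by have := Y.five_le; omega, ?_, Nat.find_spec hex⟩
  have := Nat.find_min hex (show j - 1 < Nat.find hex by omega)
  rwa [not_not, show j - 1 + 1 = j by omega] at this

theorem e_not_TC {j : ℕ} (hjn : j + 4 ≤ n) (hj : Y.h ∈ LC P j) {b : ℕ} (hb : 1 ≤ b)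
    (hbj : b + 2 ≤ j) : Y.e ∉ TC P b := by
  classical
  intro hTC
  have hmem : ∀ u : LC P b, (u : P) * Y.e * (u : P)⁻¹ * Y.e⁻¹ ∈ LC P (b + 2) := fun u => by
    have h1 := mem_TC_iff.1 hTC u u.2
    rw [← commutatorElement_inv, commutatorElement_def] at h1
    exact inv_mem_iff.1 h1
  have hcap : Nat.card (Y.E.subgroupOf (LC P b)) = p ^ 2 := by
    rw [← Y.card_H]
    refine le_antisymm ?_ ?_
    · refine Nat.card_le_card_of_injective (fun x => ⟨((x : LC P b) : P), mem_subgroupOf.1 x.2,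
        Y.mem_A.2 ⟨Y.le_N (mem_subgroupOf.1 x.2), (mem_TC_top hA).1
          (LC_one_le_TC _ (LC_le (by omega) (x : LC P b).2))⟩⟩) fun x y h => ?_
      exact Subtype.ext (Subtype.ext (congrArg (fun z : (Y.E ⊓ Y.A : Subgroup P) => (z : P)) h))
    · have hmem' : ∀ x : (Y.E ⊓ Y.A : Subgroup P), (x : P) ∈ LC P b := fun x => by
        obtain ⟨i, k, hx⟩ := Y.mem_E_A x.2.1 x.2.2
        rw [hx]
        refine mul_mem (pow_mem ?_ i) (pow_mem (LC_le (by omega) hj) k)
        have := hA.1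
        rw [Y.mc.center_eq] at this
        exact LC_le (by omega) this
      refine Nat.card_le_card_of_injective (fun x => (⟨⟨x, hmem' x⟩,
        mem_subgroupOf.2 x.2.1⟩ : Y.E.subgroupOf (LC P b))) fun x y h => ?_
      exact Subtype.ext (congrArg (fun z : Y.E.subgroupOf (LC P b) => ((z : LC P b) : P)) h)
  let F : LC P b ⧸ Y.E.subgroupOf (LC P b) → LC P (b + 2) := fun q => ⟨_, hmem q.out⟩
  have hF : Function.Injective F := fun q r h => by
    have h1 : (q.out : P) * Y.e * (q.out : P)⁻¹ = (r.out : P) * Y.e * (r.out : P)⁻¹ :=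
      mul_right_cancel (congrArg Subtype.val h)
    have h2 : (q.out : P)⁻¹ * r.out ∈ Y.E := by
      refine (cent_e hA).le (mem_centralizer_singleton_iff.2 ?_)
      calc (q.out : P)⁻¹ * r.out * Y.e
          = (q.out : P)⁻¹ * ((r.out : P) * Y.e * (r.out : P)⁻¹) * r.out := by group
        _ = Y.e * ((q.out : P)⁻¹ * r.out) := by rw [← h1]; group
    rw [← QuotientGroup.out_eq' q, ← QuotientGroup.out_eq' r]
    exact QuotientGroup.eq.2 (mem_subgroupOf.2 h2)
  have hcard : Nat.card (LC P (b + 2)) ≤ Nat.card (LC P b ⧸ Y.E.subgroupOf (LC P b)) := by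
    rw [← index_eq_card]
    have h1 := (Y.E.subgroupOf (LC P b)).card_mul_index
    rw [hcap, Y.mc.card_LC hb (by omega), show p ^ (n - 1 - b) = p ^ 2 * p ^ (n - 1 - (b + 2)) by
      rw [← pow_add]; congr 1; omega] at h1
    rw [Y.mc.card_LC (by omega) (by omega), Nat.eq_of_mul_eq_mul_left (pow_pos hp.out.pos 2) h1]
  obtain ⟨q, hq⟩ := (hF.bijective_of_nat_card_le hcard).2 ⟨Y.h, LC_le hbj hj⟩
  have hq' : (q.out : P) * Y.e * (q.out : P)⁻¹ = Y.h * Y.e := by
    rw [← mul_inv_eq_iff_eq_mul]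
    exact congrArg Subtype.val hq
  generalize (q.out : P) = u at hq'
  have huN : u ∈ normalizer (Y.E : Set P) := by
    refine mem_normalizer_fintype fun x hx => ?_
    refine (cent_e hA).le (mem_centralizer_singleton_iff.2 ?_)
    have h1 : Commute (u * x * u⁻¹) (Y.h * Y.e) := hq' ▸ (by
      show u * x * u⁻¹ * (u * Y.e * u⁻¹) = u * Y.e * u⁻¹ * (u * x * u⁻¹)
      rw [show u * x * u⁻¹ * (u * Y.e * u⁻¹) = u * (x * Y.e) * u⁻¹ by group,
        Y.comm_E x hx _ Y.e_mem]
      group)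
    have h2 : u * x * u⁻¹ ∈ Y.E := by
      have hle : ∀ y ∈ Y.E, u⁻¹ * y * u ∈ Y.E := fun y hy => by
        refine (cent_e hA).le (mem_centralizer_singleton_iff.2 ?_)
        have := Y.comm_E y hy _ (mul_mem Y.h_mem Y.e_mem)
        rw [← hq'] at this
        calc u⁻¹ * y * u * Y.e = u⁻¹ * (y * (u * Y.e * u⁻¹)) * u := by group
          _ = u⁻¹ * (u * Y.e * u⁻¹ * y) * u := by rw [this]
          _ = Y.e * (u⁻¹ * y * u) := by group
      have hi : Function.Injective fun y : Y.E => (⟨u⁻¹ * y * u, hle y y.2⟩ : Y.E) :=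
        fun a b hab => Subtype.ext (by simpa using congrArg Subtype.val hab)
      obtain ⟨y, hy⟩ := (Finite.injective_iff_bijective.1 hi).2 ⟨x, hx⟩
      rw [show x = u⁻¹ * y * u from (congrArg Subtype.val hy).symm,
        show u * (u⁻¹ * y * u) * u⁻¹ = y by group]
      exact y.2
    exact (Y.comm_E _ h2 _ Y.e_mem)
  obtain ⟨v, hv, k, -, -, -, ge⟩ := Y.act_N huN
  rw [hq', mul_left_inj] at ge
  have h1 := Y.indep (k * (p - 1)) 1 0 (by
    rw [pow_zero, mul_one, pow_one, ge, ← pow_add, ← Nat.mul_succ, Nat.succ_eq_add_one,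
      Nat.sub_add_cancel hp.out.one_le, mul_comm, pow_mul, Y.exp_l, one_pow])
  exact hp.out.not_dvd_one h1.2.1

/-- Bounds on `n`. -/
theorem layer_bounds (hp2 : p ≠ 2) {j : ℕ} (hj1 : 1 ≤ j) (hjn : j + 4 ≤ n) (hj : Y.h ∈ LC P j)
    (hj' : Y.h ∉ LC P (j + 1)) : n ≤ j + p ∧ j < p := by
  obtain ⟨s, -, hs, -, -⟩ := Y.mc.exists_two_good
  refine ⟨?_, ?_⟩
  · by_contra hn
    exact hs.pow_not_mem Y.mc hj1 hj hj' (by omega) (by rw [Y.exp_h]; exact one_mem _)
  · by_contra hjp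
    have hp3 : 3 ≤ p := by
      have := hp.out.two_le
      omega
    set b := j - (p - 1) with hb
    have hle := hs.TC_le Y.mc (i := b) (by omega) (by omega)
    rw [show b + p - 1 = j by omega] at hle
    have heq : TC P b = TC P j := by
      refine eq_of_le_of_card_ge hle ?_
      have e1 := (TC P b).card_mul_index
      have e2 := (TC P j).card_mul_index
      rw [Y.mc.TC_index (by omega) (by omega)] at e1 e2
      exact (Nat.eq_of_mul_eq_mul_right hp.out.pos (e2.trans e1.symm)).le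
    have hej : Y.e ∈ TC P j := by
      by_contra hne
      refine Y.mc.comm_not_mem hj1 hne hj hj' ?_
      rw [commutatorElement_eq_one_iff_commute.2 Y.commute_he.symm]
      exact one_mem _
    exact e_not_TC hA hjn hj (b := b) (by omega) (by omega) (heq.ge hej)

theorem conj_e_mem {g : P} (hh : Commute g Y.h) {i : ℕ}
    (hg : g * Y.e * g⁻¹ = Y.e * Y.h ^ i) : g ∈ Y.E ∧ p ∣ i := by
  have hgl : Commute g Y.l := mem_center_iff.1 hA.1 g
  have hgN : g ∈ normalizer (Y.E : Set P) := by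
    refine mem_normalizer_fintype fun x hx => ?_
    obtain ⟨a, b, q, rfl⟩ := Y.span x hx
    rw [show g * (Y.l ^ a * Y.h ^ b * Y.e ^ q) * g⁻¹ =
        (g * Y.l * g⁻¹) ^ a * (g * Y.h * g⁻¹) ^ b * (g * Y.e * g⁻¹) ^ q by
      simp only [conj_pow]; group, hgl.eq, hh.eq, mul_inv_cancel_right, mul_inv_cancel_right, hg]
    exact mul_mem (mul_mem (pow_mem Y.l_mem a) (pow_mem Y.h_mem b))
      (pow_mem (mul_mem Y.e_mem (pow_mem Y.h_mem i)) q)
  obtain ⟨u, hu, k, rfl, -, -, ge⟩ := Y.act_N hgN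
  rw [hg, (Y.commute_le.pow_left k).eq, mul_right_inj] at ge
  have h1 := Y.indep (k * (p - 1)) i 0 (by
    rw [pow_zero, mul_one, ge, ← pow_add, ← Nat.mul_succ, Nat.succ_eq_add_one,
      Nat.sub_add_cancel hp.out.one_le, mul_comm, pow_mul, Y.exp_l, one_pow])
  obtain ⟨r, rfl⟩ := h1.2.1
  refine ⟨Y.E.mul_mem hu ?_, dvd_mul_right p r⟩
  rw [pow_mul, Y.exp_h, one_pow] at ge
  obtain ⟨k', rfl⟩ := (Y.indep k 0 0 (by rw [← ge]; simp)).1
  rw [pow_mul]
  exact pow_mem (center_le_E hA (c_pow_p hA)) _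

theorem N_le_C : normalizer (Y.E : Set P) ≤ centralizer ({Y.h} : Set P) := fun g hg => by
  obtain ⟨-, -, -, -, -, gh, -⟩ := Y.act_N hg
  exact mem_centralizer_singleton_iff.2 gh

omit hA in
theorem card_R_quot {R : Subgroup P} (hER : Y.E ≤ R) :
    Nat.card (R ⧸ Y.E.subgroupOf R) * p ^ 3 = Nat.card R := by
  have h1 := (Y.E.subgroupOf R).card_mul_index
  rw [Nat.card_congr (subgroupOfEquivOfLe hER).toEquiv, Y.card_E, index_eq_card] at h1
  rw [← h1, mul_comm]

/-- The conjugates of `e` cover a coset modulo `⟨h⟩`. -/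
theorem class_cover {Q R : Subgroup P} (hNQ : normalizer (Y.E : Set P) ≤ Q) (hQR : Q ≤ R)
    (hRC : R ≤ centralizer ({Y.h} : Set P)) (hRn : R ≤ normalizer (Q : Set P))
    (hcard : Nat.card R = Nat.card Q * p) {η : P} (hη : η ∈ Q) (hηc : Commute η Y.c) :
    ∃ r ∈ R, ∃ i : ℕ, r * Y.e * r⁻¹ * Y.h ^ i = η * Y.e := by
  classical
  have h5 := Y.five_le
  have hEQ : Y.E ≤ Q := Y.le_N.trans hNQ
  set M : Subgroup P := Q ⊓ centralizer ({Y.c} : Set P) with hM
  have hmem : ∀ (r : R) (i : ℕ), (r : P) * Y.e * (r : P)⁻¹ * Y.h ^ i * Y.e⁻¹ ∈ M := by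
    intro r i
    refine mem_inf.2 ⟨mul_mem (mul_mem ((hRn r.2 _).1 (hEQ Y.e_mem)) (pow_mem (hEQ Y.h_mem) i))
      (inv_mem (hEQ Y.e_mem)), mem_centralizer_singleton_iff.2 ((mem_TC_top hA).1 ?_)⟩
    rw [show (r : P) * Y.e * (r : P)⁻¹ * Y.h ^ i * Y.e⁻¹ =
        ⁅(r : P), Y.e⁆ * (Y.e * Y.h ^ i * Y.e⁻¹) by rw [commutatorElement_def]; group,
      (Y.commute_he.pow_left i).symm.eq, mul_inv_cancel_right]
    have hc1 : ⁅(r : P), Y.e⁆ ∈ LC P 1 := comm_LC_left (i := 0) (mem_top (r : P)) Y.e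
    exact mul_mem (LC_one_le_TC _ hc1)
      (pow_mem ((mem_TC_top hA).2 (mul_inv_eq_iff_eq_mul.1 Y.c_h).symm) i)
  let F : (R ⧸ Y.E.subgroupOf R) × Fin p → M := fun q => ⟨_, hmem q.1.out q.2.val⟩
  have hF : Function.Injective F := by
    rintro ⟨q, i⟩ ⟨r, i'⟩ hqr
    have h1 : (q.out : P) * Y.e * (q.out : P)⁻¹ * Y.h ^ i.val =
        (r.out : P) * Y.e * (r.out : P)⁻¹ * Y.h ^ i'.val :=
      mul_right_cancel (congrArg Subtype.val hqr)
    have hhc : ∀ x : R, Commute (x : P) Y.h := fun x =>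
      mem_centralizer_singleton_iff.1 (hRC x.2)
    set g := (r.out : P)⁻¹ * (q.out : P) with hg
    have hgh : Commute g Y.h := ((hhc r.out).inv_left).mul_left (hhc q.out)
    have h2 : g * Y.e * g⁻¹ = Y.e * Y.h ^ (i'.val + (p - 1) * i.val) := by
      have e1 : Y.h ^ ((p - 1) * i.val) = (Y.h ^ i.val)⁻¹ := by
        refine eq_inv_of_mul_eq_one_left ?_
        rw [← pow_add, ← Nat.succ_mul, Nat.succ_eq_add_one, Nat.sub_add_cancel hp.out.one_le,
          pow_mul, Y.exp_h, one_pow]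
      rw [pow_add, e1, hg]
      have h3 : (q.out : P) * Y.e * (q.out : P)⁻¹ =
          (r.out : P) * Y.e * (r.out : P)⁻¹ * Y.h ^ i'.val * (Y.h ^ i.val)⁻¹ := by
        rw [← h1, mul_inv_cancel_right]
      calc (r.out : P)⁻¹ * q.out * Y.e * ((r.out : P)⁻¹ * q.out)⁻¹
          = (r.out : P)⁻¹ * ((q.out : P) * Y.e * (q.out : P)⁻¹) * r.out := by group
        _ = Y.e * ((r.out : P)⁻¹ * (Y.h ^ i'.val * (Y.h ^ i.val)⁻¹) * r.out) := by rw [h3]; group
        _ = _ := by
          rw [mul_assoc _ _ (r.out : P), (((hhc r.out).symm.pow_left i'.val).mul_left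
            ((hhc r.out).symm.pow_left i.val).inv_left).eq, inv_mul_cancel_left]
    obtain ⟨hgE, hdiv⟩ := conj_e_mem hA hgh h2
    refine Prod.ext ?_ ?_
    · rw [← QuotientGroup.out_eq' q, ← QuotientGroup.out_eq' r]
      exact (QuotientGroup.eq.2 (mem_subgroupOf.2 hgE)).symm
    · have h4 : ((i'.val + (p - 1) * i.val : ℕ) : ZMod p) = 0 := (ZMod.natCast_eq_zero_iff _ _).2 hdiv
      rw [Nat.cast_add, Nat.cast_mul, Nat.cast_sub hp.out.one_le, ZMod.natCast_self, zero_sub,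
        Nat.cast_one, neg_one_mul, ← sub_eq_add_neg, sub_eq_zero] at h4
      have h5 := (ZMod.natCast_eq_natCast_iff' _ _ p).1 h4
      rw [Nat.mod_eq_of_lt i'.isLt, Nat.mod_eq_of_lt i.isLt] at h5
      exact Fin.ext h5.symm
  have hMle : Nat.card M ≤ Nat.card ((R ⧸ Y.E.subgroupOf R) × Fin p) := by
    rw [Nat.card_prod, Nat.card_fin]
    refine Nat.le_of_mul_le_mul_right (c := p ^ 3) ?_ (pow_pos hp.out.pos 3)
    rw [mul_right_comm, card_R_quot (hEQ.trans hQR), hcard, mul_assoc, ← sq]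
    have hlt : Nat.card M < Nat.card Q := lt_of_le_of_ne (card_le_of_le inf_le_left) fun e =>
      Y.e_not_commute_c (mem_centralizer_singleton_iff.1
        ((inf_le_right : M ≤ centralizer ({Y.c} : Set P))
          ((eq_of_le_of_card_ge (inf_le_left : M ≤ Q) e.ge).ge (hEQ Y.e_mem))))
    obtain ⟨x, hx⟩ := (Y.isPGroup.to_subgroup M).exists_card_eq
    obtain ⟨y, hy⟩ := (Y.isPGroup.to_subgroup Q).exists_card_eq
    rw [hx, hy, ← pow_add, ← pow_add]
    rw [hx, hy, Nat.pow_lt_pow_iff_right hp.out.one_lt] at hlt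
    exact Nat.pow_le_pow_right hp.out.pos (by omega)
  obtain ⟨⟨q, i⟩, hq⟩ := (hF.bijective_of_nat_card_le hMle).2
    ⟨η, hη, mem_centralizer_singleton_iff.2 hηc⟩
  exact ⟨q.out, q.out.2, i.val, mul_inv_eq_iff_eq_mul.1 (congrArg Subtype.val hq)⟩

end CubeSys

end CfsgLib.MaxClassEss
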