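import Cfsg.Agent.Lib.MaxClassEss.CaseABase
import Cfsg.Agent.Lib.MaxClassEss.MCLemma

/-!
The torus extends to the centralizer of `h`.
-/

set_option autoImplicit false
set_option linter.style.haveILetI false
set_option linter.unusedSectionVars false

namespace CfsgLib.MaxClassEss

open Subgroup CfsgLib.Coprime.MaxClassUniform
open scoped commutatorElement

variable {P : Type*} [Group P] [Finite P] {p : ℕ} [hp : Fact p.Prime] {n : ℕ}
  {Y : CubeSys p n P}

namespace CubeSys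

theorem theta_c (hA : Y.IsCaseA) {a a' : ℕ} (haa : ((a : ZMod p) * (a' : ZMod p)) = 1) :
    ∃ θ, Y.Map (normalizer (Y.E : Set P)) θ ∧
      (∀ x ∈ normalizer (Y.E : Set P), θ x ∈ normalizer (Y.E : Set P)) ∧
      θ Y.l = Y.l ^ a ∧ θ Y.h = Y.h ∧ θ Y.e = Y.e ^ a' ∧
      ∃ i j : ℕ, θ Y.c = Y.l ^ i * Y.h ^ j * Y.c ^ (a * a) := by
  have h5 := Y.five_le
  obtain ⟨θ, hθ, hθN, θl, θh, θe, u, hu, θc⟩ := Y.exists_theta_N haa
  set N : Subgroup P := normalizer (Y.E : Set P) with hN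
  have hH : ∀ x ∈ Y.E ⊓ Y.A, θ x ∈ Y.E ⊓ Y.A := by
    intro x hx
    obtain ⟨i, j, rfl⟩ := Y.mem_E_A hx.1 hx.2
    rw [Y.map_mul hθ _ (Y.le_N (pow_mem Y.l_mem i)) _ (Y.le_N (pow_mem Y.h_mem j)),
      Y.map_pow hθ (Y.le_N Y.l_mem), Y.map_pow hθ (Y.le_N Y.h_mem), θl, θh]
    exact ⟨mul_mem (pow_mem (pow_mem Y.l_mem a) i) (pow_mem Y.h_mem j),
      mul_mem (pow_mem (pow_mem Y.l_mem_A a) i) (pow_mem Y.h_mem_A j)⟩
  have hLc : LC P (n - 2) = center P := Y.mc.center_eq.symm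
  have hAc : ∀ {x : P}, x ∈ Y.A → Commute x Y.c := fun hx => (Y.mem_A.1 hx).2
  have hgA : ∀ g ∈ normalizer (N : Set P), ∀ x ∈ Y.A, g * x * g⁻¹ ∈ Y.A := by
    intro g hg x hx
    refine Y.mem_A.2 ⟨(hg x).1 (Y.A_le_N hx), (mem_TC_top hA).1 ?_⟩
    exact (TC_normal (n - 3)).conj_mem x ((mem_TC_top hA).2 (hAc hx)) g
  have hbig : p ^ 4 < Nat.card (normalizer (Y.A : Set P)) := by
    have hNA : N ≤ normalizer (Y.A : Set P) := fun g hg =>
      mem_normalizer_fintype fun x hx => hgA g (Subgroup.le_normalizer (H := N) hg) x hx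
    have h3 : LC P (n - 3) ≤ Y.A := by
      intro x hx
      obtain ⟨u', hu', z, hz, rfl⟩ := mem_sup_of_normal_right.1
        (Y.mc.LC_gen (by omega) hA.2 (by rw [show n - 3 + 1 = n - 2 by omega]; exact c_not_LC hA) hx)
      obtain ⟨k, rfl⟩ := mem_zpowers_iff.1 hu'
      rw [show n - 3 + 1 = n - 2 by omega, hLc, center_eq_l hA] at hz
      exact mul_mem (zpow_mem Y.c_mem_A k) (zpowers_le.2 Y.l_mem_A hz)
    have h4 : LC P (n - 4) ≤ normalizer (Y.A : Set P) := fun g hg =>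
      mem_normalizer_fintype fun x hx => by
        rw [conj_eq_comm_mul]
        refine mul_mem (h3 ?_) hx
        have := comm_LC_left hg x
        rwa [show n - 4 + 1 = n - 3 by omega] at this
    by_cases hle : LC P (n - 4) ≤ N
    · have hle' : LC P (n - 4) ≤ Y.A := fun g hg => Y.mem_A.2 ⟨hle hg, by
        have h5' := comm_LC hg hA.2 (k := n - 1) (by omega)
        rw [Y.mc.LC_eq_bot le_rfl, mem_bot] at h5'
        exact commutatorElement_eq_one_iff_commute.1 h5'⟩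
      have heq : LC P (n - 4) = Y.A := eq_of_le_of_card_ge hle' (by
        rw [Y.card_A, Y.mc.card_LC (by omega) (by omega), show n - 1 - (n - 4) = 3 by omega])
      haveI : Y.A.Normal := heq ▸ inferInstance
      rw [normalizer_eq_top, Subgroup.card_top, Y.mc.card_eq]
      exact Nat.pow_lt_pow_right hp.out.one_lt (by omega)
    · rw [← Y.card_N]
      refine lt_of_le_of_ne (card_le_of_le hNA) fun e => hle ?_
      exact h4.trans (eq_of_le_of_card_ge hNA e.ge).ge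
  have hA' := Y.theta_A Y.mc.card_eq hθ hθN hH hgA hbig
  have hu' : u ∈ Y.A := by
    have h1 := hA' _ Y.c_mem_A
    rw [θc] at h1
    have h2 := mul_mem h1 (inv_mem (pow_mem Y.c_mem_A (a * a)))
    rwa [mul_inv_cancel_right] at h2
  obtain ⟨i, j, rfl⟩ := Y.mem_E_A hu hu'
  exact ⟨θ, hθ, hθN, θl, θh, θe, i, j, θc⟩

/-- A good map on `Q`. -/
def IsTorusMap (Y : CubeSys p n P) (a a' : ℕ) (Q : Subgroup P) (f : P → P) : Prop :=
  Y.Map Q f ∧ (∀ x ∈ Q, f x ∈ Q) ∧ f Y.l = Y.l ^ a ∧ f Y.h = Y.h ∧ f Y.e = Y.e ^ a' ∧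
    ∃ i j : ℕ, f Y.c = Y.l ^ i * Y.h ^ j * Y.c ^ (a * a)

theorem commute_c_map (hA : Y.IsCaseA) {a a' : ℕ} (haa : ((a : ZMod p) * (a' : ZMod p)) = 1)
    {Q : Subgroup P} (hNQ : normalizer (Y.E : Set P) ≤ Q)
    (hQC : Q ≤ centralizer ({Y.h} : Set P)) {f : P → P} (hf : Y.IsTorusMap a a' Q f) {x : P}
    (hx : x ∈ Q) (hxc : Commute x Y.c) : Commute (f x) Y.c := by
  obtain ⟨hf, hfQ, -, -, -, i, j, fc⟩ := hf
  have hcQ : Y.c ∈ Q := hNQ Y.c_mem
  have h1 : Commute (f x) (f Y.c) := by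
    show f x * f Y.c = f Y.c * f x
    rw [← Y.map_mul hf _ hx _ hcQ, ← Y.map_mul hf _ hcQ _ hx, hxc.eq]
  rw [fc] at h1
  have hl : Commute (f x) Y.l := mem_center_iff.1 hA.1 _
  have hh : Commute (f x) Y.h := mem_centralizer_singleton_iff.1 (hQC (hfQ x hx))
  have h2 := ((hl.pow_right i).mul_right (hh.pow_right j)).inv_right.mul_right h1
  rw [inv_mul_cancel_left] at h2
  refine commute_c_of_pow hA (fun hd => ?_) h2
  have h3 : ((a * a : ℕ) : ZMod p) = 0 := (ZMod.natCast_eq_zero_iff _ _).2 hd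
  rw [Nat.cast_mul] at h3
  rcases mul_eq_zero.1 h3 with h4 | h4 <;> rw [h4, zero_mul] at haa <;> exact zero_ne_one haa

theorem exists_theta_C (hA : Y.IsCaseA) (hp2 : p ≠ 2) {a a' : ℕ}
    (haa : ((a : ZMod p) * (a' : ZMod p)) = 1) :
    ∃ θ, Y.IsTorusMap a a' (centralizer ({Y.h} : Set P)) θ := by
  classical
  set C : Subgroup P := centralizer ({Y.h} : Set P) with hC
  set N : Subgroup P := normalizer (Y.E : Set P) with hN
  suffices key : ∀ d : ℕ, ∀ Q : Subgroup P, N ≤ Q → Q ≤ C → Nat.card C ≤ Nat.card Q * p ^ d →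
      (∃ f, Y.IsTorusMap a a' Q f) → ∃ θ, Y.IsTorusMap a a' C θ by
    obtain ⟨θ, h⟩ := theta_c hA haa
    refine key n N le_rfl (N_le_C hA) ?_ ⟨θ, h⟩
    refine le_trans (Y.mc.card_eq ▸ Subgroup.card_le_card_group C) ?_
    exact Nat.le_mul_of_pos_left _ Nat.card_pos
  intro d
  induction d with
  | zero =>
    intro Q hNQ hQC hcard hf
    rw [pow_zero, mul_one] at hcard
    rwa [← eq_of_le_of_card_ge hQC hcard]
  | succ d ih =>
    intro Q hNQ hQC hcard hf
    rcases eq_or_lt_of_le hQC with rfl | hlt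
    · exact hf
    obtain ⟨f, hgood⟩ := hf
    obtain ⟨hf, hfQ, fl, fh, fe, i₀, j₀, fc⟩ := hgood
    have hgood : Y.IsTorusMap a a' Q f := ⟨hf, hfQ, fl, fh, fe, i₀, j₀, fc⟩
    have hEQ : Y.E ≤ Q := Y.le_N.trans hNQ
    -- a subgroup covering `Q`
    haveI := Y.isPGroup.isNilpotent
    set G : Subgroup P := C ⊓ normalizer (Q : Set P) with hG
    have hQG : Q ≤ G := le_inf hQC le_normalizer
    have hQG' : Nat.card Q < Nat.card G := by
      refine lt_of_le_of_ne (card_le_of_le hQG) fun e => ?_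
      have heq := eq_of_le_of_card_ge hQG e.ge
      have hlt' : Q.subgroupOf C < ⊤ := by
        rw [lt_top_iff_ne_top, Ne, subgroupOf_eq_top]
        exact hlt.not_ge
      obtain ⟨⟨g, hgC⟩, hg1, hg2⟩ := SetLike.exists_of_lt
        (Group.normalizerCondition_of_isNilpotent _ hlt')
      refine hg2 (mem_subgroupOf.2 (heq.ge (mem_inf.2 ⟨hgC, mem_normalizer_fintype fun x hx => ?_⟩)))
      exact mem_subgroupOf.1 ((hg1 ⟨x, hQC hx⟩).1 (mem_subgroupOf.2 hx))
    obtain ⟨k, hk⟩ := (Y.isPGroup.to_subgroup Q).exists_card_eq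
    obtain ⟨kG, hkG⟩ := (Y.isPGroup.to_subgroup G).exists_card_eq
    rw [hk, hkG, Nat.pow_lt_pow_iff_right hp.out.one_lt] at hQG'
    obtain ⟨K, hK, hQK⟩ := Sylow.exists_subgroup_card_pow_succ (G := G) (p := p) (n := k)
      (hkG ▸ pow_dvd_pow p (by omega : k + 1 ≤ kG)) (H := Q.subgroupOf G)
      (by rw [Nat.card_congr (subgroupOfEquivOfLe hQG).toEquiv, hk])
    set R : Subgroup P := K.map G.subtype with hR
    have hRG : R ≤ G := map_subtype_le K
    have hRcard : Nat.card R = Nat.card Q * p := by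
      rw [hR, card_map_of_injective G.subtype_injective, hK, hk, pow_succ]
    have hQR : Q ≤ R := fun x hx => ⟨⟨x, hQG hx⟩, hQK (mem_subgroupOf.2 hx), rfl⟩
    have hRC : R ≤ C := hRG.trans inf_le_left
    have hRn : R ≤ normalizer (Q : Set P) := hRG.trans inf_le_right
    obtain ⟨f', hf', hf'Q, hl', hr'⟩ := Y.map_inv hf hfQ
    have hlQ := hEQ Y.l_mem
    have heQ := hEQ Y.e_mem
    have hhQ := hEQ Y.h_mem
    have h1 : ((a * a' : ℕ) : ZMod p) = ((1 : ℕ) : ZMod p) := by push_cast; exact haa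
    have fl' : f' Y.l = Y.l ^ a' := by
      rw [← hl' _ (pow_mem hlQ a'), Y.map_pow hf hlQ, fl, ← pow_mul, pow_eq_of_cast Y.exp_l h1,
        pow_one]
    have fe' : f' Y.e = Y.e ^ a := by
      rw [← hl' _ (pow_mem heQ a), Y.map_pow hf heQ, fe, ← pow_mul, mul_comm,
        pow_eq_of_cast Y.exp_e h1, pow_one]
    have fh' : f' Y.h = Y.h := by
      conv_lhs => rw [← fh]
      exact hl' _ hhQ
    -- conjugation by elements of `R`
    have hconj : ∀ g ∈ R, ∃ g' ∈ R, ∀ x ∈ Q, f (g * x * g⁻¹) = g' * f x * g'⁻¹ := by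
      intro g hg
      have hgQ : ∀ x ∈ Q, g * x * g⁻¹ ∈ Q := fun x hx => (hRn hg x).1 hx
      set φ : P → P := f ∘ (cj g ∘ f') with hφdef
      have hφ : Y.Map Q φ := Y.map_comp
        (Y.map_comp hf' (Y.map_conj Q g) hf'Q) hf fun x hx => hgQ _ (hf'Q x hx)
      have hφl : φ Y.l = Y.l := by
        simp only [hφdef, Function.comp_apply, cj]
        rw [fl', (show Commute g (Y.l ^ a') from
          (show Commute g Y.l from mem_center_iff.1 hA.1 g).pow_right a').eq, mul_inv_cancel_right,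
          Y.map_pow hf hlQ, fl, ← pow_mul, pow_eq_of_cast Y.exp_l h1, pow_one]
      have hgh : Commute g Y.h := mem_centralizer_singleton_iff.1 (hRC hg)
      have hφh : φ Y.h = Y.h := by
        simp only [hφdef, Function.comp_apply, cj]
        rw [fh', hgh.eq, mul_inv_cancel_right, fh]
      set η : P := ⁅g, Y.e ^ a⁆ with hη
      have hηQ : η ∈ Q := by
        rw [hη, commutatorElement_def]
        exact mul_mem (hgQ _ (pow_mem heQ a)) (inv_mem (pow_mem heQ a))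
      have hηc : Commute η Y.c := (mem_TC_top hA).1 (LC_one_le_TC _
        (comm_LC_left (i := 0) (mem_top g) _))
      have hφe : φ Y.e = f η * Y.e := by
        simp only [hφdef, Function.comp_apply, cj]
        rw [fe', conj_eq_comm_mul, ← hη, Y.map_mul hf _ hηQ _ (pow_mem heQ a), Y.map_pow hf heQ, fe,
          ← pow_mul, mul_comm a' a, pow_eq_of_cast Y.exp_e h1, pow_one]
      obtain ⟨r, hr, i, hri⟩ := class_cover hA hNQ hQR hRC hRn hRcard (hfQ _ hηQ)
        (commute_c_map hA haa hNQ hQC hgood hηQ hηc)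
      have hrh : Commute r Y.h := mem_centralizer_singleton_iff.1 (hRC hr)
      have hψ : Y.Map Y.E (cj r⁻¹ ∘ φ) := Y.map_comp (Y.map_mono hφ hEQ)
        (Y.map_conj ⊤ r⁻¹) fun x _ => mem_top _
      obtain ⟨g₀, hg₀, hg₀x⟩ := Y.uni_conj hp2 hψ (k := 0) (i := i) (j := 0)
        (by
          simp only [Function.comp_apply, cj]
          rw [hφl, (show Commute r⁻¹ Y.l from mem_center_iff.1 hA.1 r⁻¹).eq, mul_inv_cancel_right])
        (by
          simp only [Function.comp_apply, cj]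
          rw [hφh, hrh.inv_left.eq, mul_inv_cancel_right, pow_zero, mul_one])
        (by
          simp only [Function.comp_apply, cj]
          rw [hφe, ← hri, pow_zero, mul_one, inv_inv, mul_assoc (r⁻¹),
            mul_assoc _ (Y.h ^ i) r, ← (hrh.pow_right i).eq]
          group)
      have hEφ : ∀ x ∈ Y.E, cj (r * g₀) x = φ x := fun x hx => by
        have h2 := hg₀x x hx
        simp only [Function.comp_apply, cj] at h2 ⊢
        rw [show r * g₀ * x * (r * g₀)⁻¹ = r * (g₀ * x * g₀⁻¹) * r⁻¹ by group, ← h2]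
        group
      obtain ⟨z, hz, hzy⟩ := Y.agree hEQ (Y.map_conj Q (r * g₀)) hφ hEφ
      refine ⟨r * g₀ * z, mul_mem (mul_mem hr (hQR (hNQ hg₀))) (hQR (hEQ hz)), fun x hx => ?_⟩
      have h2 := hzy (f x) (hfQ x hx)
      simp only [hφdef, Function.comp_apply, cj, hl' x hx] at h2
      rw [h2]
      group
    obtain ⟨F, hF, hFx⟩ := Y.ext (Or.inl hEQ) hf hfQ hQR hRn fun g hg => by
      obtain ⟨g', -, hg'⟩ := hconj g hg
      exact ⟨g', hg'⟩
    have hFR : ∀ g ∈ R, F g ∈ R := by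
      intro g hg
      obtain ⟨g', hg'R, hg'⟩ := hconj g hg
      have h2 : g'⁻¹ * F g ∈ centralizer (Y.E : Set P) := by
        refine mem_centralizer_iff.2 fun y hy => ?_
        have hyQ : y ∈ Q := hEQ hy
        have h3 := hg' _ (hf'Q y hyQ)
        rw [← hFx _ ((hRn hg _).1 (hf'Q y hyQ)), Y.map_conj_apply hF hg (hQR (hf'Q y hyQ)),
          hFx _ (hf'Q y hyQ), hr' y hyQ] at h3
        calc y * (g'⁻¹ * F g) = g'⁻¹ * (g' * y * g'⁻¹) * F g := by group
          _ = g'⁻¹ * (F g * y * (F g)⁻¹) * F g := by rw [h3]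
          _ = g'⁻¹ * F g * y := by group
      have h4 := mul_mem hg'R (hQR (hEQ (Y.cent_E h2)))
      rwa [mul_inv_cancel_left] at h4
    refine ih R (hNQ.trans hQR) hRC ?_ ⟨F, hF, hFR, ?_, ?_, ?_, i₀, j₀, ?_⟩
    · rw [hRcard, mul_assoc, ← pow_succ']
      exact hcard
    · rw [hFx _ hlQ, fl]
    · rw [hFx _ hhQ, fh]
    · rw [hFx _ heQ, fe]
    · rw [hFx _ (hNQ Y.c_mem), fc]

end CubeSys

end CfsgLib.MaxClassEss
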