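import Cfsg.Agent.Lib.MaxClassEss.Common
import Cfsg.Agent.Lib.MaxClassEss.MCLemma

/-!
The case where the second centre lies in `E`: basic facts.
-/

set_option autoImplicit false
set_option linter.style.haveILetI false
set_option linter.unusedSectionVars false

namespace CfsgLib.MaxClassEss

open Subgroup CfsgLib.Coprime.MaxClassUniform
open scoped commutatorElement

theorem comm_mul_left {G : Type*} [Group G] {y u w : G} (h1 : Commute y ⁅u, w⁆)
    (h2 : Commute y w) : ⁅y * u, w⁆ = ⁅u, w⁆ := by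
  rw [show ⁅y * u, w⁆ = y * ⁅u, w⁆ * y⁻¹ * ⁅y, w⁆ by simp only [commutatorElement_def]; group,
    commutatorElement_eq_one_iff_commute.2 h2, mul_one, h1.eq, mul_inv_cancel_right]

theorem comm_mul_right {G : Type*} [Group G] {v u w : G} (h1 : Commute v ⁅u, w⁆)
    (h2 : Commute u v) : ⁅u, v * w⁆ = ⁅u, w⁆ := by
  rw [show ⁅u, v * w⁆ = ⁅u, v⁆ * (v * ⁅u, w⁆ * v⁻¹) by simp only [commutatorElement_def]; group,
    commutatorElement_eq_one_iff_commute.2 h2, one_mul, h1.eq, mul_inv_cancel_right]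

/-- Membership in a subgroup of index `p` generated over the derived subgroup. -/
theorem line_span {P : Type*} [Group P] [Finite P] {p : ℕ} [hp : Fact p.Prime] {n : ℕ}
    (h : IsMC p n P) {T : Subgroup P} (hT : LC P 1 ≤ T) (hTi : T.index = p) {x : P}
    (hx : x ∉ LC P 1) (hxT : x ∈ T) {y : P} (hy : y ∈ T) :
    ∃ i : ℕ, ∃ w ∈ LC P 1, y = w * x ^ i := by
  have hle : zpowers x ⊔ LC P 1 ≤ T := sup_le (zpowers_le.2 hxT) hT
  have heq : zpowers x ⊔ LC P 1 = T := by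
    refine eq_of_le_of_card_ge hle ?_
    have h1 := (zpowers x ⊔ LC P 1).card_mul_index
    have h2 := T.card_mul_index
    rw [h.line_index hx] at h1
    rw [hTi] at h2
    exact (Nat.eq_of_mul_eq_mul_right hp.out.pos (h2.trans h1.symm)).le
  rw [← heq, sup_comm] at hy
  obtain ⟨w, hw, z, hz, rfl⟩ := mem_sup_of_normal_left.1 hy
  obtain ⟨i, rfl⟩ := (Submonoid.mem_powers_iff _ _).1 (mem_powers_iff_mem_zpowers.2 hz)
  exact ⟨i, w, hw, rfl⟩

/-- Two distinct subgroups of index `p` over the derived subgroup meet in it. -/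
theorem line_inter {P : Type*} [Group P] [Finite P] {p : ℕ} [hp : Fact p.Prime] {n : ℕ}
    (h : IsMC p n P) {T U : Subgroup P} (hT : LC P 1 ≤ T) (hTi : T.index = p) (hU : LC P 1 ≤ U)
    (hne : ¬ T ≤ U) {x : P} (hxT : x ∈ T) (hxU : x ∈ U) : x ∈ LC P 1 := by
  by_contra hx
  refine hne fun y hy => ?_
  obtain ⟨i, w, hw, rfl⟩ := line_span h hT hTi hx hxT hy
  exact mul_mem (hU hw) (pow_mem hxU i)

variable {P : Type*} [Group P] [Finite P] {p : ℕ} [hp : Fact p.Prime] {n : ℕ}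
  {Y : CubeSys p n P}

namespace CubeSys

/-- The hypotheses of the case. -/
def IsCaseB (Y : CubeSys p n P) : Prop := LC P (n - 3) ≤ Y.E ∧ Y.c ∈ LC P (n - 4)

theorem c_not_Z2 (hB : Y.IsCaseB) : Y.c ∉ LC P (n - 3) := fun h => Y.c_not (hB.1 h)

theorem commute_c_Z2 (hB : Y.IsCaseB) {x : P} (hx : x ∈ LC P (n - 3)) : Commute x Y.c := by
  have h5 := Y.five_le
  have h1 := comm_LC hx hB.2 (k := n - 1) (by omega)
  rw [Y.mc.LC_eq_bot le_rfl, mem_bot] at h1
  exact commutatorElement_eq_one_iff_commute.1 h1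

theorem A_eq (hB : Y.IsCaseB) : Y.A = LC P (n - 4) := by
  have h5 := Y.five_le
  refine (eq_of_le_of_card_ge (fun g hg => Y.mem_A.2 ⟨mem_normalizer_fintype fun x hx => ?_, ?_⟩)
    ?_).symm
  · rw [conj_eq_comm_mul]
    refine mul_mem (hB.1 ?_) hx
    have := comm_LC_left hg x
    rwa [show n - 4 + 1 = n - 3 by omega] at this
  · have h1 := Y.mc.LC_gen (by omega) hB.2 (by rw [show n - 4 + 1 = n - 3 by omega]; exact c_not_Z2 hB) hg
    obtain ⟨u, hu, z, hz, rfl⟩ := mem_sup_of_normal_right.1 h1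
    obtain ⟨k, rfl⟩ := mem_zpowers_iff.1 hu
    rw [show n - 4 + 1 = n - 3 by omega] at hz
    exact ((Commute.refl Y.c).zpow_left k).mul_left (commute_c_Z2 hB hz)
  · rw [Y.card_A, Y.mc.card_LC (by omega) (by omega), show n - 1 - (n - 4) = 3 by omega]

theorem H_eq (hB : Y.IsCaseB) : Y.E ⊓ Y.A = LC P (n - 3) := by
  have h5 := Y.five_le
  refine (eq_of_le_of_card_ge (le_inf hB.1 (by rw [A_eq hB]; exact LC_le (by omega))) ?_).symm
  rw [Y.card_H, Y.mc.card_LC (by omega) (by omega), show n - 1 - (n - 3) = 2 by omega]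

theorem l_mem_Z2 (hB : Y.IsCaseB) : Y.l ∈ LC P (n - 3) := H_eq hB ▸ ⟨Y.l_mem, Y.l_mem_A⟩

theorem h_mem_Z2 (hB : Y.IsCaseB) : Y.h ∈ LC P (n - 3) := H_eq hB ▸ ⟨Y.h_mem, Y.h_mem_A⟩

theorem span_Z2 (hB : Y.IsCaseB) {x : P} (hx : x ∈ LC P (n - 3)) :
    ∃ i j : ℕ, x = Y.l ^ i * Y.h ^ j := by
  rw [← H_eq hB] at hx
  exact Y.mem_E_A hx.1 hx.2

theorem e_mem_T3 (hB : Y.IsCaseB) : Y.e ∈ TC P (n - 3) := mem_TC_iff.2 fun u hu => by
  rw [commutatorElement_eq_one_iff_commute.2 (Y.comm_E _ Y.e_mem _ (hB.1 hu))]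
  exact one_mem _

theorem comm_A (hB : Y.IsCaseB) : ∀ x ∈ Y.A, ∀ y ∈ Y.A, x * y = y * x := by
  intro x hx y hy
  obtain ⟨i, j, k, rfl⟩ := Y.span_A hx
  refine (Commute.mul_left (Commute.mul_left ?_ ?_) ((Y.mem_A.1 hy).2.symm.pow_left k)).eq
  · obtain ⟨i', j', k', rfl⟩ := Y.span_A hy
    exact (((Commute.refl Y.l).pow_right i').mul_right (Y.commute_lh.pow_right j')
      |>.mul_right ((Y.mem_A.1 Y.l_mem_A).2.pow_right k')).pow_left i
  · obtain ⟨i', j', k', rfl⟩ := Y.span_A hy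
    exact ((Y.commute_lh.symm.pow_right i').mul_right ((Commute.refl Y.h).pow_right j')
      |>.mul_right ((Y.mem_A.1 Y.h_mem_A).2.pow_right k')).pow_left j

theorem c_pow_p_mem (hB : Y.IsCaseB) : Y.c ^ p ∈ LC P (n - 3) := by
  have h5 := Y.five_le
  have hle : LC P (n - 3) ≤ LC P (n - 4) := LC_le (by omega)
  set K := (LC P (n - 3)).subgroupOf (LC P (n - 4)) with hK
  have h1 := K.card_mul_index
  rw [Nat.card_congr (subgroupOfEquivOfLe hle).toEquiv, Y.mc.card_LC (by omega) (by omega),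
    Y.mc.card_LC (by omega) (by omega), show n - 1 - (n - 3) = 2 by omega,
    show n - 1 - (n - 4) = 2 + 1 by omega, pow_succ] at h1
  haveI : K.Normal := Normal.subgroupOf inferInstance _
  have h2 := K.pow_index_mem ⟨Y.c, hB.2⟩
  rw [Nat.eq_of_mul_eq_mul_left (pow_pos hp.out.pos 2) h1] at h2
  exact mem_subgroupOf.1 h2

theorem exp_A (hB : Y.IsCaseB) (hp5 : 5 ≤ p) : ∀ x ∈ Y.A, x ^ p = 1 := by
  have h5 := Y.five_le
  obtain ⟨s, -, hs, -, -⟩ := Y.mc.exists_two_good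
  intro x hx
  rw [A_eq hB] at hx
  have h1 := hs.pow_mem Y.mc n (n - 4) (by omega) (by omega) x hx
  rwa [Y.mc.LC_eq_bot (by omega), mem_bot] at h1

/-- A conjugate of `E` over the second centre is not inside the derived subgroup. -/
theorem not_le_LC_one (K : Subgroup P) (hK : Nat.card K = p ^ 3) (hZ : LC P (n - 3) ≤ K)
    (hN : Nat.card (normalizer (K : Set P)) ≤ p ^ 4) (h5 : 5 ≤ n) (hmc : IsMC p n P) :
    ¬ K ≤ LC P 1 := by
  intro hle
  rcases Nat.lt_or_ge n 6 with hn | hn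
  · have heq : K = LC P 1 := eq_of_le_of_card_ge hle (by
      rw [hK, hmc.card_LC le_rfl (by omega), show n - 1 - 1 = 3 by omega])
    rw [heq, normalizer_eq_top, Subgroup.card_top, hmc.card_eq,
      Nat.pow_le_pow_iff_right hp.out.one_lt] at hN
    omega
  · have hB5 : LC P (n - 5) ≤ normalizer (K : Set P) := fun g hg =>
      mem_normalizer_fintype fun x hx => by
        rw [conj_eq_comm_mul]
        exact mul_mem (hZ (comm_LC hg (hle hx) (by omega))) hx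
    have heq := eq_of_le_of_card_ge hB5 (by
      rwa [hmc.card_LC (by omega) (by omega), show n - 1 - (n - 5) = 4 by omega])
    have hT : TC P (n - 5) ≤ normalizer (K : Set P) := fun g hg =>
      mem_normalizer_fintype fun x hx => by
        rw [conj_eq_comm_mul]
        refine mul_mem (hZ ?_) hx
        have h1 := mem_TC_iff.1 hg x (heq.ge (le_normalizer hx))
        rwa [show n - 5 + 2 = n - 3 by omega] at h1
    have h1 := (card_le_of_le hT).trans hN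
    have h2 := (TC P (n - 5)).card_mul_index
    rw [hmc.TC_index (by omega) (by omega), hmc.card_eq] at h2
    have h3 : p ^ n ≤ p ^ 5 := by
      rw [← h2, pow_succ]
      exact Nat.mul_le_mul_right p h1
    rw [Nat.pow_le_pow_iff_right hp.out.one_lt] at h3
    omega

theorem e_not_LC_one (hB : Y.IsCaseB) : Y.e ∉ LC P 1 := fun he => by
  have h5 := Y.five_le
  refine not_le_LC_one Y.E Y.card_E hB.1 Y.card_N.le h5 Y.mc fun x hx => ?_
  obtain ⟨i, j, q, rfl⟩ := Y.span x hx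
  exact mul_mem (mul_mem (pow_mem (LC_le (by omega) (l_mem_Z2 hB)) i)
    (pow_mem (LC_le (by omega) (h_mem_Z2 hB)) j)) (pow_mem he q)

/-- The torus on `N`, preserving `A`. -/
theorem theta_B (hB : Y.IsCaseB) {a a' : ℕ} (haa : ((a : ZMod p) * (a' : ZMod p)) = 1) :
    ∃ θ, Y.Map Y.A θ ∧ (∀ x ∈ Y.A, θ x ∈ Y.A) ∧ θ Y.l = Y.l ^ a ∧ θ Y.h = Y.h ∧
      ∃ i j : ℕ, θ Y.c = Y.l ^ i * Y.h ^ j * Y.c ^ (a * a) := by
  have h5 := Y.five_le
  obtain ⟨θ, hθ, hθN, θl, θh, -, u, hu, θc⟩ := Y.exists_theta_N haa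
  have hH : ∀ x ∈ Y.E ⊓ Y.A, θ x ∈ Y.E ⊓ Y.A := by
    intro x hx
    obtain ⟨i, j, rfl⟩ := Y.mem_E_A hx.1 hx.2
    rw [Y.map_mul hθ _ (Y.le_N (pow_mem Y.l_mem i)) _ (Y.le_N (pow_mem Y.h_mem j)),
      Y.map_pow hθ (Y.le_N Y.l_mem), Y.map_pow hθ (Y.le_N Y.h_mem), θl, θh]
    exact ⟨mul_mem (pow_mem (pow_mem Y.l_mem a) i) (pow_mem Y.h_mem j),
      mul_mem (pow_mem (pow_mem Y.l_mem_A a) i) (pow_mem Y.h_mem_A j)⟩
  have hAn : Y.A.Normal := by rw [A_eq hB]; infer_instance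
  have hA' := Y.theta_A Y.mc.card_eq hθ hθN hH (fun g _ x hx => hAn.conj_mem x hx g) (by
    rw [normalizer_eq_top, Subgroup.card_top, Y.mc.card_eq]
    exact Nat.pow_lt_pow_right hp.out.one_lt (by omega))
  have hu' : u ∈ Y.A := by
    have h1 := hA' _ Y.c_mem_A
    rw [θc] at h1
    have h2 := mul_mem h1 (inv_mem (pow_mem Y.c_mem_A (a * a)))
    rwa [mul_inv_cancel_right] at h2
  obtain ⟨i, j, rfl⟩ := Y.mem_E_A hu hu'
  exact ⟨θ, Y.map_mono hθ Y.A_le_N, hA', θl, θh, i, j, θc⟩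

/-- Automorphisms of `A` unipotent on the flag are conjugations. -/
theorem conj_of_flag (hB : Y.IsCaseB) (hp5 : 5 ≤ p) {f : P → P} (hf : Y.Map Y.A f)
    (hfA : ∀ x ∈ Y.A, f x ∈ Y.A) (h1 : ∀ z ∈ center P, f z = z)
    (h2 : ∀ x ∈ LC P (n - 3), f x * x⁻¹ ∈ center P)
    (h3 : ∀ x ∈ Y.A, f x * x⁻¹ ∈ LC P (n - 3)) :
    ∃ g : P, ∀ x ∈ Y.A, f x = g * x * g⁻¹ := by
  have h5 := Y.five_le
  have hZ : center P = LC P (n - 2) := Y.mc.center_eq
  have hZA : center P ≤ Y.A := by rw [hZ, A_eq hB]; exact LC_le (by omega)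
  have hHA : LC P (n - 3) ≤ Y.A := by rw [A_eq hB]; exact LC_le (by omega)
  have hAn : Y.A.Normal := by rw [A_eq hB]; infer_instance
  let U : (P → P) → Prop := fun f => (∀ x ∈ Y.A, ∀ y ∈ Y.A, f (x * y) = f x * f y) ∧
    (∀ z ∈ center P, f z = z) ∧ (∀ x ∈ LC P (n - 3), f x * x⁻¹ ∈ center P) ∧
    ∀ x ∈ Y.A, f x * x⁻¹ ∈ LC P (n - 3)
  obtain ⟨z0, hz0, hz0'⟩ := Y.mc.exists_mem_not_mem (i := n - 2) (by omega) (by omega)
  obtain ⟨y0, hy0, hy0'⟩ := Y.mc.exists_mem_not_mem (i := n - 3) (by omega) (by omega)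
  have hz0A : z0 ∈ Y.A := hZA (hZ ▸ hz0)
  have hgenZ : ∀ z ∈ LC P (n - 2), ∃ i : ℕ, z = z0 ^ i := by
    intro z hz
    have := Y.mc.LC_gen (by omega) hz0 hz0' hz
    rw [Y.mc.LC_eq_bot (show n - 1 ≤ n - 2 + 1 by omega), sup_bot_eq] at this
    obtain ⟨i, rfl⟩ := (Submonoid.mem_powers_iff _ _).1 (mem_powers_iff_mem_zpowers.2 this)
    exact ⟨i, rfl⟩
  have hgen2 : ∀ x ∈ LC P (n - 3), ∃ i j : ℕ, x = z0 ^ i * y0 ^ j := by
    intro x hx
    obtain ⟨u, hu, z, hz, rfl⟩ := mem_sup_of_normal_right.1 (Y.mc.LC_gen (by omega) hy0 hy0' hx)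
    obtain ⟨j, rfl⟩ := (Submonoid.mem_powers_iff _ _).1 (mem_powers_iff_mem_zpowers.2 hu)
    obtain ⟨i, rfl⟩ := hgenZ z (by rwa [show n - 3 + 1 = n - 2 by omega] at hz)
    exact ⟨i, j, comm_A hB _ (pow_mem (hHA hy0) j) _ (pow_mem hz0A i)⟩
  have hspan : ∀ x ∈ Y.A, ∃ i j k : ℕ, x = z0 ^ i * y0 ^ j * Y.c ^ k := by
    intro x hx
    obtain ⟨i, j, k, rfl⟩ := Y.span_A hx
    obtain ⟨i', j', h⟩ := hgen2 _ (mul_mem (pow_mem (l_mem_Z2 hB) i) (pow_mem (h_mem_Z2 hB) j))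
    exact ⟨i', j', k, by rw [h]⟩
  obtain ⟨g, -, hg⟩ := Y.syl (Q := Y.A) (Or.inr hAn) U
    (fun f g hf' hg' ⟨fm, f1, f2, f3⟩ ⟨gm, g1, g2, g3⟩ => ⟨fun x hx y hy => by
        simp only [Function.comp_apply]
        rw [gm x hx y hy, fm _ (hg' x hx) _ (hg' y hy)],
      fun z hz => by rw [Function.comp_apply, g1 z hz, f1 z hz],
      fun x hx => by
        have hgx : g x ∈ LC P (n - 3) := by
          have := mul_mem (hZ.le.trans (LC_le (by omega)) (g2 x hx) : g x * x⁻¹ ∈ LC P (n - 3)) hx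
          rwa [inv_mul_cancel_right] at this
        have := mul_mem (f2 _ hgx) (g2 x hx)
        rwa [mul_assoc, inv_mul_cancel_left] at this,
      fun x hx => by
        have := mul_mem (f3 _ (hg' x hx)) (g3 x hx)
        rwa [mul_assoc, inv_mul_cancel_left] at this⟩)
    (fun f g hfg ⟨fm, f1, f2, f3⟩ => ⟨fun x hx y hy => by
        rw [← hfg _ (mul_mem hx hy), ← hfg _ hx, ← hfg _ hy, fm x hx y hy],
      fun z hz => (hfg _ (hZA hz)).symm.trans (f1 z hz),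
      fun x hx => hfg x (hHA hx) ▸ f2 x hx, fun x hx => hfg x hx ▸ f3 x hx⟩)
    (fun g _ => ⟨fun x _ y _ => by simp [cj, mul_assoc],
      fun z hz => by rw [cj, mem_center_iff.1 hz g, mul_inv_cancel_right],
      fun x hx => by
        rw [cj, ← commutatorElement_def, hZ]
        exact LC_le (by omega) (comm_LC_right g hx),
      fun x hx => by
        rw [A_eq hB] at hx
        rw [cj, ← commutatorElement_def]
        exact LC_le (by omega) (comm_LC_right g hx)⟩)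
    (fun f _ _ ⟨fm, f1, f2, f3⟩ => by
      obtain ⟨k, hk⟩ := hgenZ _ (hZ.le (f2 y0 hy0))
      obtain ⟨j, i, hji⟩ := hgen2 _ (f3 Y.c Y.c_mem_A)
      refine uni_pow fm (comm_A hB) (exp_A hB hp5) (by omega) hz0A (hHA hy0) Y.c_mem_A
        (f1 _ (hZ ▸ hz0)) (k := k) (i := i) (j := j) ?_ ?_ hspan
      · rw [mul_inv_eq_iff_eq_mul.1 hk]
        exact comm_A hB _ (pow_mem hz0A k) _ (hHA hy0)
      · rw [mul_inv_eq_iff_eq_mul.1 hji, comm_A hB _ (mul_mem (pow_mem hz0A j) (pow_mem (hHA hy0) i)) _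
          Y.c_mem_A, comm_A hB _ (pow_mem hz0A j) _ (pow_mem (hHA hy0) i), mul_assoc])
    f hf hfA ⟨Y.map_mul hf, h1, h2, h3⟩
  exact ⟨g, hg⟩

/-- An automorphism of `A` preserving the flag extends to `P`. -/
theorem ext_top (hB : Y.IsCaseB) (hp5 : 5 ≤ p) {f : P → P} (hf : Y.Map Y.A f)
    (hfA : ∀ x ∈ Y.A, f x ∈ Y.A) (h1 : ∀ z ∈ center P, f z ∈ center P)
    (h2 : ∀ x ∈ LC P (n - 3), f x ∈ LC P (n - 3)) :
    ∃ ψ, Y.Map ⊤ ψ ∧ ∀ x ∈ Y.A, ψ x = f x := by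
  have h5 := Y.five_le
  have hZ : center P = LC P (n - 2) := Y.mc.center_eq
  have hZA : center P ≤ Y.A := by rw [hZ, A_eq hB]; exact LC_le (by omega)
  have hHA : LC P (n - 3) ≤ Y.A := by rw [A_eq hB]; exact LC_le (by omega)
  have hAn : Y.A.Normal := by rw [A_eq hB]; infer_instance
  obtain ⟨f', hf', hf'A, hl, hr⟩ := Y.map_inv hf hfA
  refine Y.ext (Or.inr hAn) hf hfA le_top (by rw [normalizer_eq_top]) fun g _ => ?_
  have hgA : ∀ x ∈ Y.A, cj g x ∈ Y.A := fun x hx => hAn.conj_mem x hx g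
  have hφ : Y.Map Y.A (f ∘ (cj g ∘ f')) :=
    Y.map_comp (Y.map_comp hf' (Y.map_conj Y.A g) hf'A) hf fun x hx => hgA _ (hf'A x hx)
  have hstep : ∀ x ∈ Y.A, (f ∘ (cj g ∘ f')) x * x⁻¹ = f ⁅g, f' x⁆ := fun x hx => by
    simp only [Function.comp_apply, cj]
    rw [show ⁅g, f' x⁆ = g * f' x * g⁻¹ * (f' x)⁻¹ from commutatorElement_def _ _,
      Y.map_mul hf _ (show g * f' x * g⁻¹ ∈ Y.A from hgA _ (hf'A x hx)) _ (inv_mem (hf'A x hx)),
      Y.map_inv' hf (hf'A x hx),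
      hr x hx]
  have hpre : ∀ K : Subgroup P, K ≤ Y.A → (∀ x ∈ K, f x ∈ K) → ∀ x ∈ K, f' x ∈ K := by
    intro K hK hfK x hx
    have hi : Function.Injective fun y : K => (⟨f y, hfK y y.2⟩ : K) := fun u v huv =>
      Subtype.ext (Y.map_inj hf _ (hK u.2) _ (hK v.2) (congrArg Subtype.val huv))
    obtain ⟨y, hy⟩ := (Finite.injective_iff_bijective.1 hi).2 ⟨x, hx⟩
    rw [show x = f y from (congrArg Subtype.val hy).symm, hl _ (hK y.2)]
    exact y.2
  obtain ⟨g', hg'⟩ := conj_of_flag hB hp5 hφ (fun x hx => hfA _ (hgA _ (hf'A x hx)))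
    (fun z hz => by
      have hz' := hpre _ hZA h1 z hz
      simp only [Function.comp_apply, cj]
      rw [mem_center_iff.1 hz' g, mul_inv_cancel_right, hr z (hZA hz)])
    (fun x hx => by
      rw [hstep x (hHA hx)]
      refine h1 _ ?_
      rw [hZ]
      exact LC_le (by omega) (comm_LC_right g (hpre _ hHA h2 x hx)))
    (fun x hx => by
      rw [hstep x hx]
      refine h2 _ ?_
      have := hf'A x hx
      rw [A_eq hB] at this
      exact LC_le (by omega) (comm_LC_right g this))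
  refine ⟨g', fun x hx => ?_⟩
  have h4 := hg' (f x) (hfA x hx)
  simp only [Function.comp_apply, cj, hl x hx] at h4
  exact h4

end CubeSys

end CfsgLib.MaxClassEss
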