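import Cfsg.Agent.Lib.MaxClassEss.Sys
import Mathlib

/-!
Facts shared by both cases: the subgroup `A = ⟨l, h, c⟩` of `N = N(E)` and extensions to `N`.
-/

set_option autoImplicit false
set_option linter.style.haveILetI false
set_option linter.unusedSectionVars false

namespace CfsgLib.MaxClassEss

open Subgroup CfsgLib.Coprime.MaxClassUniform
open scoped commutatorElement

variable {P : Type*} [Group P] [Finite P] {p : ℕ} [hp : Fact p.Prime] {n : ℕ}
  (Y : CubeSys p n P)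

namespace CubeSys

/-- The elements of `N(E)` commuting with `c`. -/
def A : Subgroup P := normalizer (Y.E : Set P) ⊓ centralizer {Y.c}

theorem mem_A {x : P} : x ∈ Y.A ↔ x ∈ normalizer (Y.E : Set P) ∧ Commute x Y.c := by
  rw [A, Subgroup.mem_inf, mem_centralizer_singleton_iff]
  rfl

theorem c_mem_A : Y.c ∈ Y.A := Y.mem_A.2 ⟨Y.c_mem, Commute.refl _⟩

theorem l_mem_A : Y.l ∈ Y.A :=
  Y.mem_A.2 ⟨Y.le_N Y.l_mem, (mul_inv_eq_iff_eq_mul.1 Y.c_l).symm⟩

theorem h_mem_A : Y.h ∈ Y.A :=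
  Y.mem_A.2 ⟨Y.le_N Y.h_mem, (mul_inv_eq_iff_eq_mul.1 Y.c_h).symm⟩

theorem e_not_commute_c : ¬ Commute Y.e Y.c := fun h => Y.l_ne_one (by
  have h1 := Y.c_e
  rw [← h.eq, mul_inv_cancel_right] at h1
  exact mul_eq_right.1 h1.symm)

theorem e_not_mem_A : Y.e ∉ Y.A := fun h => Y.e_not_commute_c (Y.mem_A.1 h).2

theorem not_dvd_one : ¬ p ∣ 1 := hp.out.not_dvd_one

/-- An element of `E` commutes with `c` exactly when its `e`-coordinate vanishes. -/
theorem commute_c_iff {i j q : ℕ} :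
    Commute (Y.l ^ i * Y.h ^ j * Y.e ^ q) Y.c ↔ p ∣ q := by
  have cl : Commute Y.c Y.l := mul_inv_eq_iff_eq_mul.1 Y.c_l
  have ch : Commute Y.c Y.h := mul_inv_eq_iff_eq_mul.1 Y.c_h
  constructor
  · intro hc
    have h1 : Commute (Y.e ^ q) Y.c := by
      have := ((cl.symm.pow_left i).mul_left (ch.symm.pow_left j)).inv_left.mul_left hc
      rwa [inv_mul_cancel_left] at this
    by_contra hq
    obtain ⟨k, hk⟩ := not_dvd_exists_pow Y.exp_e hq
    exact Y.e_not_commute_c (hk.symm ▸ h1.pow_left k)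
  · rintro ⟨k, rfl⟩
    rw [pow_mul, Y.exp_e, one_pow, mul_one]
    exact (cl.symm.pow_left i).mul_left (ch.symm.pow_left j)

/-- Membership in `E ∩ A`. -/
theorem mem_E_A {x : P} (hx : x ∈ Y.E) (hxA : x ∈ Y.A) : ∃ i j : ℕ, x = Y.l ^ i * Y.h ^ j := by
  obtain ⟨i, j, q, rfl⟩ := Y.span x hx
  obtain ⟨k, rfl⟩ := Y.commute_c_iff.1 (Y.mem_A.1 hxA).2
  exact ⟨i, j, by rw [pow_mul, Y.exp_e, one_pow, mul_one]⟩

theorem card_H : Nat.card (Y.E ⊓ Y.A : Subgroup P) = p ^ 2 := by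
  refine le_antisymm ?_ ?_
  · have hlt : Nat.card (Y.E ⊓ Y.A : Subgroup P) < Nat.card Y.E :=
      lt_of_le_of_ne (card_le_of_le inf_le_left) fun e => Y.e_not_mem_A
        ((inf_le_right : Y.E ⊓ Y.A ≤ Y.A)
          ((eq_of_le_of_card_ge inf_le_left e.ge).ge Y.e_mem))
    obtain ⟨k, hk⟩ := (Y.isPGroup.to_subgroup (Y.E ⊓ Y.A : Subgroup P)).exists_card_eq
    rw [hk, Y.card_E, Nat.pow_lt_pow_iff_right hp.out.one_lt] at hlt
    rw [hk]
    exact Nat.pow_le_pow_right hp.out.pos (by omega)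
  · let F : ZMod p × ZMod p → (Y.E ⊓ Y.A : Subgroup P) := fun q =>
      ⟨Y.l ^ q.1.val * Y.h ^ q.2.val, mul_mem (pow_mem Y.l_mem _) (pow_mem Y.h_mem _),
        mul_mem (pow_mem Y.l_mem_A _) (pow_mem Y.h_mem_A _)⟩
    have hF : Function.Injective F := by
      intro q r hqr
      have h1 : Y.l ^ q.1.val * Y.h ^ q.2.val = Y.l ^ r.1.val * Y.h ^ r.2.val :=
        congrArg Subtype.val hqr
      have h2 : Y.l ^ (q.1 - r.1).val * Y.h ^ (q.2 - r.2).val * Y.e ^ 0 = 1 := by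
        have el : Y.l ^ (q.1 - r.1).val * Y.l ^ r.1.val = Y.l ^ q.1.val := by
          rw [← pow_add]
          exact pow_eq_of_cast Y.exp_l (by simp)
        have eh : Y.h ^ (q.2 - r.2).val * Y.h ^ r.2.val = Y.h ^ q.2.val := by
          rw [← pow_add]
          exact pow_eq_of_cast Y.exp_h (by simp)
        rw [pow_zero, mul_one]
        refine mul_eq_right.1 (?_ : _ * (Y.l ^ r.1.val * Y.h ^ r.2.val) =
          Y.l ^ r.1.val * Y.h ^ r.2.val)
        rw [(Y.commute_lh.symm.pow_pow _ _).mul_mul_mul_comm, el, eh, h1]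
      obtain ⟨e1, e2, -⟩ := Y.indep _ _ _ h2
      rw [← ZMod.natCast_eq_zero_iff, ZMod.natCast_zmod_val, sub_eq_zero] at e1 e2
      exact Prod.ext e1 e2
    have := Nat.card_le_card_of_injective F hF
    rwa [Nat.card_prod, Nat.card_zmod, ← sq] at this

theorem A_le_N : Y.A ≤ normalizer (Y.E : Set P) := inf_le_left

theorem card_A : Nat.card Y.A = p ^ 3 := by
  refine le_antisymm ?_ ?_
  · have hlt : Nat.card Y.A < Nat.card (normalizer (Y.E : Set P)) :=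
      lt_of_le_of_ne (card_le_of_le Y.A_le_N) fun e => Y.e_not_mem_A
        ((eq_of_le_of_card_ge Y.A_le_N e.ge).ge (Y.le_N Y.e_mem))
    obtain ⟨k, hk⟩ := (Y.isPGroup.to_subgroup Y.A).exists_card_eq
    rw [hk, Y.card_N, Nat.pow_lt_pow_iff_right hp.out.one_lt] at hlt
    rw [hk]
    exact Nat.pow_le_pow_right hp.out.pos (by omega)
  · have hlt : Nat.card (Y.E ⊓ Y.A : Subgroup P) < Nat.card Y.A :=
      lt_of_le_of_ne (card_le_of_le inf_le_right) fun e => Y.c_not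
        ((inf_le_left : Y.E ⊓ Y.A ≤ Y.E)
          ((eq_of_le_of_card_ge inf_le_right e.ge).ge Y.c_mem_A))
    obtain ⟨k, hk⟩ := (Y.isPGroup.to_subgroup Y.A).exists_card_eq
    rw [Y.card_H, hk, Nat.pow_lt_pow_iff_right hp.out.one_lt] at hlt
    rw [hk]
    exact Nat.pow_le_pow_right hp.out.pos (by omega)

/-- Coordinates in `A`. -/
theorem span_A {x : P} (hx : x ∈ Y.A) : ∃ i j k : ℕ, x = Y.l ^ i * Y.h ^ j * Y.c ^ k := by
  obtain ⟨u, hu, k, rfl, -⟩ := Y.act_N (Y.A_le_N hx)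
  have huA : u ∈ Y.A := by
    have := mul_mem hx (inv_mem (pow_mem Y.c_mem_A k))
    rwa [mul_inv_cancel_right] at this
  obtain ⟨i, j, rfl⟩ := Y.mem_E_A hu huA
  exact ⟨i, j, k, rfl⟩

/-- The image of the normalizer under a map extending an automorphism of `Q`. -/
theorem stable_normalizer {Q R : Subgroup P} {f : P → P} (hf : Y.Map R f) (hQR : Q ≤ R)
    (hQ : ∀ x ∈ Q, f x ∈ Q) {g : P} (hg : g ∈ R) (hgQ : g ∈ normalizer (Q : Set P)) :
    f g ∈ normalizer (Q : Set P) := by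
  have hsurj : ∀ y ∈ Q, ∃ x ∈ Q, f x = y := by
    intro y hy
    have hi : Function.Injective fun x : Q => (⟨f x, hQ x x.2⟩ : Q) :=
      fun x y h => Subtype.ext (Y.map_inj hf _ (hQR x.2) _ (hQR y.2) (congrArg Subtype.val h))
    have hb := Finite.injective_iff_bijective.1 hi
    obtain ⟨x, hx⟩ := hb.2 ⟨y, hy⟩
    exact ⟨x, x.2, congrArg Subtype.val hx⟩
  refine mem_normalizer_fintype fun y hy => ?_
  obtain ⟨x, hx, rfl⟩ := hsurj y hy
  have : g * x * g⁻¹ ∈ Q := (hgQ x).1 hx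
  rw [← Y.map_conj_apply hf hg (hQR hx)]
  exact hQ _ this

/-- Another subgroup of order `p³` of `N` over `E ∩ A` is conjugate to `E`, so an automorphism
of `N` fixing `E` and `E ∩ A` fixes `A` as soon as `A` has a large normalizer. -/
theorem theta_A (hn : Nat.card P = p ^ n) {θ : P → P}
    (hθ : Y.Map (normalizer (Y.E : Set P)) θ)
    (hθN : ∀ x ∈ normalizer (Y.E : Set P), θ x ∈ normalizer (Y.E : Set P))
    (hH : ∀ x ∈ Y.E ⊓ Y.A, θ x ∈ Y.E ⊓ Y.A)
    (hgA : ∀ g ∈ normalizer ((normalizer (Y.E : Set P) : Subgroup P) : Set P),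
      ∀ x ∈ Y.A, g * x * g⁻¹ ∈ Y.A)
    (hbig : p ^ 4 < Nat.card (normalizer (Y.A : Set P))) :
    ∀ x ∈ Y.A, θ x ∈ Y.A := by
  classical
  set N : Subgroup P := normalizer (Y.E : Set P) with hN
  set H : Subgroup P := Y.E ⊓ Y.A with hHdef
  have hEN : Y.E ≤ N := Y.le_N
  -- the normalizer of `N` moves `E`
  have hNlt : N < ⊤ := lt_top_iff_ne_top.2 fun e => by
    have h1 := Y.card_N
    rw [← hN, e, Subgroup.card_top, hn] at h1
    have := Nat.pow_right_injective hp.out.two_le h1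
    have := Y.five_le
    omega
  haveI := Y.isPGroup.isNilpotent
  have hlt := Group.normalizerCondition_of_isNilpotent N hNlt
  set G : Subgroup P := normalizer (N : Set P) with hG
  -- the centre part is invariant
  have hgH : ∀ g ∈ G, ∀ x ∈ H, g * x * g⁻¹ ∈ H := by
    intro g hg x hx
    have hxc : ∀ y ∈ N, x * y = y * x := by
      intro y hy
      obtain ⟨i, j, rfl⟩ := Y.mem_E_A hx.1 hx.2
      obtain ⟨-, -, -, -, yl, yh, -⟩ := Y.act_N hy
      exact ((yl.symm.pow_left i).mul_left (yh.symm.pow_left j)).eq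
    have hcc : ∀ y ∈ N, g * x * g⁻¹ * y = y * (g * x * g⁻¹) := by
      intro y hy
      have hy' : g⁻¹ * y * g ∈ N := (mem_normalizer_iff''.1 hg y).1 hy
      have := hxc _ hy'
      calc g * x * g⁻¹ * y = g * (x * (g⁻¹ * y * g)) * g⁻¹ := by group
        _ = g * (g⁻¹ * y * g * x) * g⁻¹ := by rw [this]
        _ = y * (g * x * g⁻¹) := by group
    refine ⟨Y.cent_E (mem_centralizer_iff.2 fun y hy => (hcc y (hEN hy)).symm),
      hgA g hg x hx.2⟩
  let img : G → Subgroup P := fun g => Y.E.map (MulAut.conj (g : P)).toMonoidHom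
  have himg : ∀ g y, y ∈ img g ↔ ∃ x ∈ Y.E, (g : P) * x * (g : P)⁻¹ = y := fun g y => Iff.rfl
  have himgN : ∀ g, img g ≤ N := fun g y hy => by
    obtain ⟨x, hx, rfl⟩ := (himg g y).1 hy
    exact (g.2 x).1 (hEN hx)
  have himgcard : ∀ g, Nat.card (img g) = p ^ 3 := fun g => by
    rw [card_map_of_injective (MulAut.conj (g : P)).injective, Y.card_E]
  have himgA : ∀ g, img g ≠ Y.A := fun g e => Y.e_not_mem_A (by
    have h1 := hgA _ (G.inv_mem g.2) _ (e.le ((himg g _).2 ⟨Y.e, Y.e_mem, rfl⟩))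
    rwa [show (g : P)⁻¹ * ((g : P) * Y.e * (g : P)⁻¹) * (g : P)⁻¹⁻¹ = Y.e by group] at h1)
  have hHimg : ∀ g, H ≤ img g := fun g x hx =>
    (himg g x).2 ⟨(g : P)⁻¹ * x * g, by
      have := hgH _ (G.inv_mem g.2) x hx
      rw [inv_inv] at this
      exact this.1, by group⟩
  let 𝒦 := {K : Subgroup P // K ≤ N ∧ Nat.card K = p ^ 3 ∧ H ≤ K ∧ K ≠ Y.A}
  -- each member meets the coset `e A`
  have hmeet : ∀ K : 𝒦, ∃ a : Y.A, Y.e * a ∈ K.1 ∧ ∀ b : Y.A, Y.e * b ∈ K.1 → (a : P)⁻¹ * b ∈ H := by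
    rintro ⟨K, hKN, hKc, hHK, hKA⟩
    have hKA' : ¬ K ≤ Y.A := fun h => hKA (eq_of_le_of_card_ge h (by rw [hKc, Y.card_A]))
    obtain ⟨y, hy, hyA⟩ := SetLike.not_le_iff_exists.1 hKA'
    obtain ⟨u, hu, k, rfl, -⟩ := Y.act_N (hKN hy)
    obtain ⟨i, j, q, rfl⟩ := Y.span u hu
    have hq : ¬ p ∣ q := fun hq => hyA (by
      obtain ⟨r, rfl⟩ := hq
      rw [pow_mul, Y.exp_e, one_pow, mul_one]
      exact mul_mem (mul_mem (pow_mem Y.l_mem_A i) (pow_mem Y.h_mem_A j)) (pow_mem Y.c_mem_A k))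
    have hmemK : Y.e ^ q * Y.c ^ k ∈ K := by
      have h1 : Y.l ^ i * Y.h ^ j ∈ H := ⟨mul_mem (pow_mem Y.l_mem _) (pow_mem Y.h_mem _),
        mul_mem (pow_mem Y.l_mem_A _) (pow_mem Y.h_mem_A _)⟩
      have := mul_mem (inv_mem (hHK h1)) hy
      rwa [mul_assoc, inv_mul_cancel_left] at this
    obtain ⟨r, hr⟩ := not_dvd_exists_pow Y.exp_e hq
    have hAn : ∀ g ∈ N, ∀ x ∈ Y.A, g * x * g⁻¹ ∈ Y.A := fun g hg => hgA g (Subgroup.le_normalizer (H := N) hg)
    have key : ∀ t : ℕ, ∃ a ∈ Y.A, (Y.e ^ q * Y.c ^ k) ^ t = Y.e ^ (q * t) * a := by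
      intro t
      induction t with
      | zero => exact ⟨1, Y.A.one_mem, by simp⟩
      | succ t ih =>
        obtain ⟨a, ha, hat⟩ := ih
        refine ⟨((Y.e ^ q)⁻¹ * a * (Y.e ^ q)⁻¹⁻¹) * Y.c ^ k, mul_mem ?_ (pow_mem Y.c_mem_A k), ?_⟩
        · exact hAn _ (inv_mem (pow_mem (hEN Y.e_mem) q)) a ha
        · rw [pow_succ, hat, Nat.mul_succ, pow_add]
          group
    obtain ⟨a, ha, hat⟩ := key r
    rw [pow_mul, ← hr] at hat
    refine ⟨⟨a, ha⟩, hat ▸ pow_mem hmemK r, fun b hb => ?_⟩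
    have h1 : a⁻¹ * (b : P) ∈ K := by
      have := mul_mem (inv_mem (hat ▸ pow_mem hmemK r : Y.e * a ∈ K)) hb
      rwa [mul_inv_rev, mul_assoc, inv_mul_cancel_left] at this
    have h2 : a⁻¹ * (b : P) ∈ Y.A := mul_mem (inv_mem ha) b.2
    have hKAH : H = K ⊓ Y.A := by
      refine eq_of_le_of_card_ge (le_inf hHK inf_le_right) ?_
      obtain ⟨k', hk'⟩ := (Y.isPGroup.to_subgroup (K ⊓ Y.A : Subgroup P)).exists_card_eq
      have h3 : Nat.card (K ⊓ Y.A : Subgroup P) < Nat.card Y.A :=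
        lt_of_le_of_ne (card_le_of_le inf_le_right) fun e => hKA
          (eq_of_le_of_card_ge ((eq_of_le_of_card_ge inf_le_right e.ge).ge.trans inf_le_left)
            (by rw [hKc, Y.card_A])).symm
      rw [Y.card_A, hk', Nat.pow_lt_pow_iff_right hp.out.one_lt] at h3
      rw [Y.card_H, hk']
      exact Nat.pow_le_pow_right hp.out.pos (by omega)
    exact hKAH.ge ⟨h1, h2⟩
  choose aK haK huK using hmeet
  have hcardK : Nat.card 𝒦 ≤ p := by
    have hinj : Function.Injective fun K : 𝒦 =>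
        (QuotientGroup.mk (aK K) : Y.A ⧸ H.subgroupOf Y.A) := by
      intro K L hKL
      have h1 : (aK K : P)⁻¹ * aK L ∈ H := mem_subgroupOf.1 (QuotientGroup.eq.1 hKL)
      have hmem : Y.e * aK L ∈ K.1 := by
        have := mul_mem (haK K) (K.2.2.2.1 h1)
        rwa [mul_assoc, mul_inv_cancel_left] at this
      -- both are generated by `H` and `e * aK L`
      refine Subtype.ext ?_
      have hgen : ∀ M : 𝒦, Y.e * aK L ∈ M.1 → M.1 = H ⊔ zpowers (Y.e * (aK L : P)) := by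
        intro M hM
        refine (eq_of_le_of_card_ge (sup_le M.2.2.2.1 (zpowers_le.2 hM)) ?_).symm
        have h3 : Nat.card H < Nat.card (H ⊔ zpowers (Y.e * (aK L : P)) : Subgroup P) :=
          lt_of_le_of_ne (card_le_of_le le_sup_left) fun e => Y.e_not_mem_A (by
            have h4 : Y.e * aK L ∈ H := (eq_of_le_of_card_ge le_sup_left e.ge).ge
              (mem_sup_right (mem_zpowers _))
            have := mul_mem (show Y.e * (aK L : P) ∈ Y.A from h4.2) (inv_mem (aK L).2)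
            rwa [mul_inv_cancel_right] at this)
        obtain ⟨k', hk'⟩ :=
          (Y.isPGroup.to_subgroup (H ⊔ zpowers (Y.e * (aK L : P)) : Subgroup P)).exists_card_eq
        rw [Y.card_H, hk', Nat.pow_lt_pow_iff_right hp.out.one_lt] at h3
        rw [M.2.2.1, hk']
        exact Nat.pow_le_pow_right hp.out.pos (by omega)
      rw [hgen K hmem, hgen L (haK L)]
    refine (Nat.card_le_card_of_injective _ hinj).trans ?_
    have h1 := (H.subgroupOf Y.A).card_mul_index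
    rw [Nat.card_congr (subgroupOfEquivOfLe inf_le_right).toEquiv, Y.card_H, Y.card_A,
      index_eq_card, show p ^ 3 = p ^ 2 * p by ring] at h1
    exact (Nat.eq_of_mul_eq_mul_left (pow_pos hp.out.pos 2) h1).le
  let toK : G → 𝒦 := fun g => ⟨img g, himgN g, himgcard g, hHimg g, himgA g⟩
  -- the orbit of `E` has at least `p` members
  have hsurj : Function.Surjective toK := by
    let st : Subgroup G := N.subgroupOf G
    have hfib : ∀ g g' : G, toK g = toK g' → g⁻¹ * g' ∈ st := by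
      intro g g' hgg
      have he : img g = img g' := congrArg Subtype.val hgg
      show ((g : P)⁻¹ * g') ∈ N
      refine mem_normalizer_fintype fun x hx => ?_
      obtain ⟨y, hy, hxy⟩ := (himg g _).1 (he.ge ((himg g' _).2 ⟨x, hx, rfl⟩))
      have : (g : P)⁻¹ * g' * x * ((g : P)⁻¹ * g')⁻¹ = y := by
        calc (g : P)⁻¹ * g' * x * ((g : P)⁻¹ * g')⁻¹ = (g : P)⁻¹ * ((g' : P) * x * (g' : P)⁻¹) * g := by
              group
          _ = y := by rw [← hxy]; group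
      rw [this]; exact hy
    let F : G ⧸ st → 𝒦 := fun q => toK q.out
    have hFinj : Function.Injective F := fun q r hqr => by
      have := QuotientGroup.eq.2 (hfib _ _ hqr)
      rwa [QuotientGroup.out_eq', QuotientGroup.out_eq'] at this
    have hp' : p ≤ Nat.card (G ⧸ st) := by
      obtain ⟨k, hk⟩ := ((Y.isPGroup.to_subgroup G).index st)
      rw [← index_eq_card, hk]
      refine Nat.le_self_pow (fun h0 => ?_) p
      rw [h0, pow_zero, index_eq_one] at hk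
      exact hlt.not_ge (subgroupOf_eq_top.1 hk)
    have hFs : Function.Surjective F := (hFinj.bijective_of_nat_card_le (hcardK.trans hp')).2
    intro K
    obtain ⟨q, hq⟩ := hFs K
    exact ⟨_, hq⟩
  obtain ⟨θ', hθ', hθ'N, hθ'l, hθ'r⟩ := Y.map_inv hθ hθN
  -- the image of `A`
  let KA : Subgroup P :=
    { carrier := {y | ∃ x ∈ Y.A, θ x = y}
      one_mem' := ⟨1, Y.A.one_mem, Y.map_one hθ⟩
      mul_mem' := by
        rintro _ _ ⟨x, hx, rfl⟩ ⟨y, hy, rfl⟩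
        exact ⟨x * y, mul_mem hx hy, Y.map_mul hθ _ (Y.A_le_N hx) _ (Y.A_le_N hy)⟩
      inv_mem' := by
        rintro _ ⟨x, hx, rfl⟩
        exact ⟨x⁻¹, inv_mem hx, Y.map_inv' hθ (Y.A_le_N hx)⟩ }
  by_contra hcon
  push Not at hcon
  obtain ⟨x0, hx0, hx0'⟩ := hcon
  have hKAc : Nat.card KA = p ^ 3 := by
    rw [← Y.card_A]
    refine (Nat.card_congr (Equiv.ofBijective
      (fun x : Y.A => (⟨θ x, x, x.2, rfl⟩ : KA)) ⟨fun x y hxy => Subtype.ext
        (Y.map_inj hθ _ (Y.A_le_N x.2) _ (Y.A_le_N y.2) (congrArg Subtype.val hxy)), ?_⟩)).symm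
    rintro ⟨_, x, hx, rfl⟩
    exact ⟨⟨x, hx⟩, rfl⟩
  have hHKA : H ≤ KA := by
    intro y hy
    have hi : Function.Injective fun x : H => (⟨θ x, hH x x.2⟩ : H) :=
      fun x y h => Subtype.ext (Y.map_inj hθ _ (Y.A_le_N x.2.2) _ (Y.A_le_N y.2.2)
        (congrArg Subtype.val h))
    have hb := Finite.injective_iff_bijective.1 hi
    obtain ⟨x, hx⟩ := hb.2 ⟨y, hy⟩
    exact ⟨x, x.2.2, congrArg Subtype.val hx⟩
  obtain ⟨g, hg⟩ := hsurj ⟨KA, by rintro _ ⟨x, hx, rfl⟩; exact hθN x (Y.A_le_N hx), hKAc, hHKA,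
    fun e => hx0' (e.le ⟨x0, hx0, rfl⟩)⟩
  have hg' : img g = KA := congrArg Subtype.val hg
  -- a map of `E` onto `A`
  have hmap : Y.Map Y.E (θ' ∘ cj (g : P)) := Y.map_comp (Y.map_conj Y.E (g : P)) hθ' fun x hx =>
    himgN g ((himg g _).2 ⟨x, hx, rfl⟩)
  refine absurd hbig (not_lt.2 (Y.small hmap le_rfl Y.A fun y => ⟨fun hy => ?_, ?_⟩))
  · obtain ⟨x, hx, hxy⟩ := (himg g _).1 (hg'.ge ⟨y, hy, rfl⟩)
    refine ⟨x, hx, ?_⟩
    rw [Function.comp_apply, cj, hxy, hθ'l y (Y.A_le_N hy)]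
  · rintro ⟨x, hx, rfl⟩
    obtain ⟨y, hy, hyx⟩ := hg'.le ((himg g _).2 ⟨x, hx, rfl⟩)
    rw [Function.comp_apply, cj, ← hyx, hθ'l y (Y.A_le_N hy)]
    exact hy

/-- The torus extends to `N(E)`. -/
theorem exists_theta_N {a a' : ℕ} (haa : ((a : ZMod p) * (a' : ZMod p)) = 1) :
    ∃ θ, Y.Map (normalizer (Y.E : Set P)) θ ∧
      (∀ x ∈ normalizer (Y.E : Set P), θ x ∈ normalizer (Y.E : Set P)) ∧
      θ Y.l = Y.l ^ a ∧ θ Y.h = Y.h ∧ θ Y.e = Y.e ^ a' ∧
      ∃ u ∈ Y.E, θ Y.c = u * Y.c ^ (a * a) := by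
  obtain ⟨f, hf, hfE, fl, fh, fe⟩ := Y.torus a a' haa
  obtain ⟨f', hf', hf'x⟩ := Y.ext (Or.inl le_rfl) hf hfE Y.le_N le_rfl fun g hg => by
    obtain ⟨u, hu, k, -, gl, gh, ge⟩ := Y.act_N hg
    refine ⟨Y.c ^ (a * a * k), fun x hx => ?_⟩
    obtain ⟨cl, ch⟩ := Y.c_pow_lh (a * a * k)
    obtain ⟨i, j, q, rfl⟩ := Y.span x hx
    have hl := pow_mem Y.l_mem i
    have hh := pow_mem Y.h_mem j
    have e1 : g * (Y.l ^ i * Y.h ^ j * Y.e ^ q) * g⁻¹ = Y.l ^ i * Y.h ^ j * (Y.l ^ k * Y.e) ^ q := by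
      rw [← ge, conj_pow]
      calc g * (Y.l ^ i * Y.h ^ j * Y.e ^ q) * g⁻¹
          = (g * (Y.l ^ i * Y.h ^ j)) * Y.e ^ q * g⁻¹ := by group
        _ = _ := by rw [((gl.pow_right i).mul_right (gh.pow_right j)).eq]; group
    have hle : Y.l ^ k * Y.e ∈ Y.E := mul_mem (pow_mem Y.l_mem k) Y.e_mem
    rw [e1, Y.map_mul hf _ (mul_mem hl hh) _ (pow_mem hle q),
      Y.map_mul hf _ (mul_mem hl hh) _ (pow_mem Y.e_mem q), Y.map_mul hf _ hl _ hh,
      Y.map_pow hf Y.l_mem, Y.map_pow hf Y.h_mem, Y.map_pow hf hle, Y.map_pow hf Y.e_mem,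
      Y.map_mul hf _ (pow_mem Y.l_mem k) _ Y.e_mem, Y.map_pow hf Y.l_mem, fl, fh, fe]
    have e2 : (Y.l ^ a) ^ k = (Y.l ^ (a * a * k)) ^ a' := by
      rw [← pow_mul, ← pow_mul]
      refine pow_eq_of_cast Y.exp_l ?_
      push_cast
      linear_combination (-(a : ZMod p) * k) * haa
    rw [e2, ← Commute.mul_pow (Y.commute_le.pow_left _), ← Y.c_pow_e, conj_pow, conj_pow]
    set C := Y.c ^ (a * a * k)
    have hcl : Commute C ((Y.l ^ a) ^ i * Y.h ^ j) :=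
      ((cl.pow_right a).pow_right i).mul_right (ch.pow_right j)
    calc (Y.l ^ a) ^ i * Y.h ^ j * (C * (Y.e ^ a') ^ q * C⁻¹)
        = ((Y.l ^ a) ^ i * Y.h ^ j * C) * (Y.e ^ a') ^ q * C⁻¹ := by group
      _ = _ := by rw [← hcl.eq]; group
  have hf'E : ∀ x ∈ Y.E, f' x ∈ Y.E := fun x hx => hf'x x hx ▸ hfE x hx
  have hN : ∀ x ∈ normalizer (Y.E : Set P), f' x ∈ normalizer (Y.E : Set P) := fun x hx =>
    Y.stable_normalizer hf' Y.le_N hf'E hx hx
  refine ⟨f', hf', hN, by rw [hf'x _ Y.l_mem, fl], by rw [hf'x _ Y.h_mem, fh],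
    by rw [hf'x _ Y.e_mem, fe], ?_⟩
  obtain ⟨u, hu, k, hk, gl, gh, ge⟩ := Y.act_N (hN _ Y.c_mem)
  have h1 := Y.map_conj_apply hf' Y.c_mem (Y.le_N Y.e_mem)
  rw [Y.c_e, Y.map_mul hf' _ (Y.le_N Y.l_mem) _ (Y.le_N Y.e_mem), hf'x _ Y.l_mem, hf'x _ Y.e_mem,
    fl, fe, ← conj_pow, ge, (Y.commute_le.pow_left k).mul_pow, mul_left_inj, ← pow_mul] at h1
  refine ⟨u * (Y.c ^ k * (Y.c ^ (a * a))⁻¹), mul_mem hu ?_, by rw [hk]; group⟩
  -- `k ≡ a * a`
  have h2 : ((a : ℕ) : ZMod p) = (k : ZMod p) * a' := by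
    have hord : orderOf Y.l = p := orderOf_eq_prime Y.exp_l Y.l_ne_one
    have h3 := pow_eq_pow_iff_modEq.1 h1
    rw [hord, ← ZMod.natCast_eq_natCast_iff] at h3
    rw [h3, Nat.cast_mul]
  have h4 : (k : ZMod p) = ((a * a : ℕ) : ZMod p) := by
    push_cast
    linear_combination (-(k : ZMod p)) * haa - (a : ZMod p) * h2
  have hcp : Y.c ^ p ∈ Y.E := by
    by_contra hc
    haveI : (Y.E.subgroupOf (normalizer (Y.E : Set P))).Normal := normal_in_normalizer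
    have hidx : (Y.E.subgroupOf (normalizer (Y.E : Set P))).index = p := by
      have h5 := (Y.E.subgroupOf (normalizer (Y.E : Set P))).card_mul_index
      rw [Nat.card_congr (subgroupOfEquivOfLe Y.le_N).toEquiv, Y.card_E, Y.card_N,
        show p ^ 4 = p ^ 3 * p by ring] at h5
      exact Nat.eq_of_mul_eq_mul_left (pow_pos hp.out.pos 3) h5
    have h6 : (⟨Y.c, Y.c_mem⟩ : normalizer (Y.E : Set P)) ^ p ∈
        Y.E.subgroupOf (normalizer (Y.E : Set P)) := by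
      have h8 := Subgroup.pow_index_mem (Y.E.subgroupOf (normalizer (Y.E : Set P))) ⟨Y.c, Y.c_mem⟩
      rwa [hidx] at h8
    exact hc (mem_subgroupOf.1 h6)
  have h5 : ∃ t : ℤ, (k : ℤ) = (a * a : ℕ) + p * t := by
    have := (ZMod.intCast_eq_intCast_iff_dvd_sub ((a * a : ℕ) : ℤ) (k : ℤ) p).1 (by
      simpa using h4.symm)
    obtain ⟨t, ht⟩ := this
    exact ⟨t, by linarith⟩
  obtain ⟨t, ht⟩ := h5
  have h7 : Y.c ^ k * (Y.c ^ (a * a))⁻¹ = (Y.c ^ p) ^ t := by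
    rw [← zpow_natCast Y.c k, ← zpow_natCast Y.c (a * a), ← zpow_neg, ← zpow_add, ht,
      ← zpow_natCast Y.c p, ← zpow_mul]
    congr 1
    ring
  rw [h7]
  exact zpow_mem hcp t

end CubeSys

end CfsgLib.MaxClassEss
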