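import Cfsg.Agent.Lib.Invol.MaxClassSecond
import Cfsg.Agent.Lib.Fusion.CubeGL

/-!
An abstract setting for an elementary abelian essential subgroup of order `p³` in a group of
maximal class, and basic facts.
-/

set_option autoImplicit false
set_option linter.style.haveILetI false
set_option linter.unusedSectionVars false

namespace CfsgLib.MaxClassEss

open Subgroup CfsgLib.Coprime.MaxClassUniform
open scoped commutatorElement

variable {P : Type*} [Group P]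

theorem conj_eq_comm_mul (g x : P) : g * x * g⁻¹ = ⁅g, x⁆ * x := by
  rw [commutatorElement_def, inv_mul_cancel_right]

/-- Conjugation as a function. -/
def cj (g : P) : P → P := fun x => g * x * g⁻¹

theorem cj_apply (g x : P) : cj g x = g * x * g⁻¹ := rfl

/-- A saturated system seen from `P`, with an elementary abelian essential subgroup `E` of order
`p³` and a transvection `c` normalizing it. -/
structure CubeSys (p n : ℕ) (P : Type*) [Group P] where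
  Map : Subgroup P → (P → P) → Prop
  E : Subgroup P
  c : P
  l : P
  h : P
  e : P
  mc : IsMC p n P
  five_le : 5 ≤ n
  map_mul : ∀ {Q f}, Map Q f → ∀ x ∈ Q, ∀ y ∈ Q, f (x * y) = f x * f y
  map_inj : ∀ {Q f}, Map Q f → ∀ x ∈ Q, ∀ y ∈ Q, f x = f y → x = y
  map_congr : ∀ {Q f g}, Map Q f → (∀ x ∈ Q, f x = g x) → Map Q g
  map_mono : ∀ {Q R f}, Map R f → Q ≤ R → Map Q f
  map_comp : ∀ {Q R f g}, Map Q f → Map R g → (∀ x ∈ Q, f x ∈ R) → Map Q (g ∘ f)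
  map_conj : ∀ (Q : Subgroup P) (g : P), Map Q (cj g)
  map_inv : ∀ {Q f}, Map Q f → (∀ x ∈ Q, f x ∈ Q) → ∃ f', Map Q f' ∧
    (∀ x ∈ Q, f' x ∈ Q) ∧ (∀ x ∈ Q, f' (f x) = x) ∧ ∀ x ∈ Q, f (f' x) = x
  ext : ∀ {Q R : Subgroup P} {f}, (E ≤ Q ∨ Q.Normal) → Map Q f → (∀ x ∈ Q, f x ∈ Q) → Q ≤ R →
    R ≤ normalizer (Q : Set P) →
    (∀ g ∈ R, ∃ g', ∀ x ∈ Q, f (g * x * g⁻¹) = g' * f x * g'⁻¹) →
    ∃ f', Map R f' ∧ ∀ x ∈ Q, f' x = f x
  syl : ∀ {Q : Subgroup P}, (Q = E ∨ Q.Normal) → ∀ U : (P → P) → Prop,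
    (∀ f g, (∀ x ∈ Q, f x ∈ Q) → (∀ x ∈ Q, g x ∈ Q) → U f → U g → U (f ∘ g)) →
    (∀ f g, (∀ x ∈ Q, f x = g x) → U f → U g) →
    (∀ g ∈ normalizer (Q : Set P), U (cj g)) →
    (∀ f, Map Q f → (∀ x ∈ Q, f x ∈ Q) → U f → ∀ x ∈ Q, f^[p] x = x) →
    ∀ f, Map Q f → (∀ x ∈ Q, f x ∈ Q) → U f →
      ∃ g ∈ normalizer (Q : Set P), ∀ x ∈ Q, f x = g * x * g⁻¹
  agree : ∀ {Q : Subgroup P} {f g}, E ≤ Q → Map Q f → Map Q g → (∀ x ∈ E, f x = g x) →
    ∃ z ∈ E, ∀ y ∈ Q, g y = f (z * y * z⁻¹)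
  small : ∀ {R f}, Map R f → E ≤ R → ∀ K : Subgroup P,
    (∀ y, y ∈ K ↔ ∃ x ∈ E, f x = y) → Nat.card (normalizer (K : Set P)) ≤ p ^ 4
  card_E : Nat.card E = p ^ 3
  comm_E : ∀ x ∈ E, ∀ y ∈ E, x * y = y * x
  exp_E : ∀ x ∈ E, x ^ p = 1
  cent_E : centralizer (E : Set P) ≤ E
  card_N : Nat.card (normalizer (E : Set P)) = p ^ 4
  c_mem : c ∈ normalizer (E : Set P)
  c_not : c ∉ E
  l_mem : l ∈ E
  h_mem : h ∈ E
  e_mem : e ∈ E
  c_l : c * l * c⁻¹ = l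
  c_h : c * h * c⁻¹ = h
  c_e : c * e * c⁻¹ = l * e
  indep : ∀ i j k : ℕ, l ^ i * h ^ j * e ^ k = 1 → p ∣ i ∧ p ∣ j ∧ p ∣ k
  span : ∀ x ∈ E, ∃ i j k : ℕ, x = l ^ i * h ^ j * e ^ k
  torus : ∀ a a' : ℕ, ((a : ZMod p) * (a' : ZMod p)) = 1 → ∃ θ, Map E θ ∧
    (∀ x ∈ E, θ x ∈ E) ∧ θ l = l ^ a ∧ θ h = h ∧ θ e = e ^ a'

variable {p : ℕ} [hp : Fact p.Prime]

theorem pow_eq_of_cast {x : P} (hx : x ^ p = 1) {a b : ℕ} (hab : (a : ZMod p) = b) :
    x ^ a = x ^ b := by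
  have h1 : a % p = b % p := (ZMod.natCast_eq_natCast_iff' a b p).1 hab
  rw [← Nat.mod_add_div a p, ← Nat.mod_add_div b p, pow_add, pow_add, pow_mul, pow_mul, hx,
    one_pow, one_pow, h1]

theorem not_dvd_exists_pow {x : P} (hx : x ^ p = 1) {i : ℕ} (hi : ¬ p ∣ i) :
    ∃ k : ℕ, x = (x ^ i) ^ k := by
  refine ⟨((i : ZMod p)⁻¹).val, ?_⟩
  rw [← pow_mul]
  conv_lhs => rw [← pow_one x]
  refine pow_eq_of_cast hx ?_
  rw [Nat.cast_one, Nat.cast_mul, ZMod.natCast_zmod_val,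
    mul_inv_cancel₀ fun e => hi ((ZMod.natCast_eq_zero_iff _ _).1 e)]

/-- Iterates of an endomorphism unipotent on the flag `⟨l⟩ ≤ ⟨l, h⟩ ≤ Q`. -/
theorem uni_pow {Q : Subgroup P} {f : P → P} (hf : ∀ x ∈ Q, ∀ y ∈ Q, f (x * y) = f x * f y)
    (hab : ∀ x ∈ Q, ∀ y ∈ Q, x * y = y * x) (hexp : ∀ x ∈ Q, x ^ p = 1) (hp2 : p ≠ 2) {l h e : P}
    (hl : l ∈ Q) (hh : h ∈ Q) (he : e ∈ Q) (fl : f l = l) {k i j : ℕ} (fh : f h = h * l ^ k)
    (fe : f e = e * h ^ i * l ^ j) (hspan : ∀ x ∈ Q, ∃ a b c : ℕ, x = l ^ a * h ^ b * e ^ c) :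
    ∀ x ∈ Q, f^[p] x = x := by
  have fpow : ∀ x ∈ Q, ∀ m : ℕ, f (x ^ m) = f x ^ m := fun x hx m => by
    induction m with
    | zero =>
      have := hf 1 Q.one_mem 1 Q.one_mem
      rw [one_mul] at this
      rw [pow_zero, pow_zero]
      exact mul_eq_left.1 this.symm
    | succ m ih => rw [pow_succ, hf _ (Q.pow_mem hx m) _ hx, ih, pow_succ]
  have hstab : ∀ x ∈ Q, f x ∈ Q := by
    intro x hx
    obtain ⟨a, b, c, rfl⟩ := hspan x hx
    have hla := Q.pow_mem hl a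
    have hhb := Q.pow_mem hh b
    rw [hf _ (mul_mem hla hhb) _ (Q.pow_mem he c), hf _ hla _ hhb, fpow _ hl, fpow _ hh, fpow _ he,
      fl, fh, fe]
    exact mul_mem (mul_mem hla (pow_mem (mul_mem hh (pow_mem hl k)) b))
      (pow_mem (mul_mem (mul_mem he (pow_mem hh i)) (pow_mem hl j)) c)
  have il : ∀ m, f^[m] l = l := fun m => Function.iterate_fixed fl m
  have ih' : ∀ m, f^[m] h = h * l ^ (m * k) := by
    intro m
    induction m with
    | zero => simp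
    | succ m ih =>
      rw [Function.iterate_succ_apply', ih, hf _ hh _ (Q.pow_mem hl _), fh, fpow _ hl, fl,
        mul_assoc, ← pow_add, Nat.succ_mul, add_comm]
  have ie : ∀ m, f^[m] e = e * h ^ (m * i) * l ^ (m * j + m.choose 2 * (i * k)) := by
    intro m
    induction m with
    | zero => simp
    | succ m ihm =>
      have he1 := Q.pow_mem hh (m * i)
      rw [Function.iterate_succ_apply', ihm, hf _ (mul_mem he he1) _ (Q.pow_mem hl _),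
        hf _ he _ he1, fpow _ hh, fpow _ hl, fl, fh, fe,
        Commute.mul_pow (hab _ hh _ (Q.pow_mem hl k) : Commute h (l ^ k)), ← pow_mul,
        show e * h ^ i * l ^ j * (h ^ (m * i) * l ^ (k * (m * i))) *
            l ^ (m * j + m.choose 2 * (i * k)) =
          e * h ^ i * (l ^ j * h ^ (m * i)) * (l ^ (k * (m * i)) *
            l ^ (m * j + m.choose 2 * (i * k))) by group,
        hab _ (Q.pow_mem hl j) _ he1]
      have e1 : (m + 1).choose 2 = m.choose 2 + m := by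
        rw [Nat.choose_succ_succ', Nat.choose_one_right, add_comm]
      rw [e1, show (m + 1) * i = i + m * i by ring,
        show (m + 1) * j + (m.choose 2 + m) * (i * k) =
          j + (k * (m * i) + (m * j + m.choose 2 * (i * k))) by ring]
      simp only [pow_add, mul_assoc]
  have iter_mul : ∀ m, ∀ x ∈ Q, ∀ y ∈ Q, f^[m] (x * y) = f^[m] x * f^[m] y ∧ f^[m] x ∈ Q := by
    intro m
    induction m with
    | zero => exact fun x hx y hy => ⟨rfl, hx⟩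
    | succ m ih =>
      intro x hx y hy
      simp only [Function.iterate_succ_apply']
      rw [(ih x hx y hy).1, hf _ (ih x hx y hy).2 _ (ih y hy x hx).2]
      exact ⟨rfl, hstab _ (ih x hx y hy).2⟩
  have iter_pow : ∀ m, ∀ x ∈ Q, ∀ a : ℕ, f^[m] (x ^ a) = (f^[m] x) ^ a := by
    intro m x hx a
    induction a with
    | zero =>
      have := (iter_mul m 1 Q.one_mem 1 Q.one_mem).1
      rw [one_mul] at this
      rw [pow_zero, pow_zero]
      exact mul_eq_left.1 this.symm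
    | succ a ih => rw [pow_succ, (iter_mul m _ (Q.pow_mem hx a) _ hx).1, ih, pow_succ]
  obtain ⟨q, hq⟩ : p ∣ p.choose 2 :=
    hp.out.dvd_choose_self two_ne_zero (lt_of_le_of_ne hp.out.two_le (Ne.symm hp2))
  intro x hx
  obtain ⟨a, b, c, rfl⟩ := hspan x hx
  have h1 : f^[p] h = h := by rw [ih', pow_mul, hexp l hl, one_pow, mul_one]
  have h2 : f^[p] e = e := by
    rw [ie, pow_mul, hexp h hh, one_pow, mul_one, hq,
      show p * j + p * q * (i * k) = p * (j + q * (i * k)) by ring, pow_mul, hexp l hl, one_pow,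
      mul_one]
  rw [(iter_mul p _ (mul_mem (Q.pow_mem hl a) (Q.pow_mem hh b)) _ (Q.pow_mem he c)).1,
    (iter_mul p _ (Q.pow_mem hl a) _ (Q.pow_mem hh b)).1, iter_pow p l hl, iter_pow p h hh,
    iter_pow p e he, il, h1, h2]

variable {n : ℕ} (Y : CubeSys p n P)

namespace CubeSys

theorem map_one {Q f} (hf : Y.Map Q f) : f 1 = 1 := by
  have := Y.map_mul hf 1 Q.one_mem 1 Q.one_mem
  rw [one_mul] at this
  exact mul_eq_left.1 this.symm

theorem map_pow {Q f} (hf : Y.Map Q f) {x : P} (hx : x ∈ Q) (m : ℕ) : f (x ^ m) = f x ^ m := by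
  induction m with
  | zero => rw [pow_zero, pow_zero, Y.map_one hf]
  | succ m ih => rw [pow_succ, Y.map_mul hf _ (Q.pow_mem hx m) _ hx, ih, pow_succ]

theorem map_inv' {Q f} (hf : Y.Map Q f) {x : P} (hx : x ∈ Q) : f x⁻¹ = (f x)⁻¹ := by
  have := Y.map_mul hf x⁻¹ (Q.inv_mem hx) x hx
  rw [inv_mul_cancel, Y.map_one hf] at this
  exact eq_inv_of_mul_eq_one_left this.symm

theorem map_conj_apply {Q f} (hf : Y.Map Q f) {g x : P} (hg : g ∈ Q) (hx : x ∈ Q) :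
    f (g * x * g⁻¹) = f g * f x * (f g)⁻¹ := by
  rw [Y.map_mul hf _ (Q.mul_mem hg hx) _ (Q.inv_mem hg), Y.map_mul hf _ hg _ hx, Y.map_inv' hf hg]

include Y in
theorem isPGroup [Finite P] : IsPGroup p P := Y.mc.isPGroup

theorem le_N : Y.E ≤ normalizer (Y.E : Set P) := le_normalizer

theorem l_ne_one : Y.l ≠ 1 := fun e => by
  obtain ⟨h1, -, -⟩ := Y.indep 1 0 0 (by simp [e])
  exact hp.out.not_dvd_one h1

theorem commute_lh : Commute Y.l Y.h := Y.comm_E _ Y.l_mem _ Y.h_mem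

theorem commute_le : Commute Y.l Y.e := Y.comm_E _ Y.l_mem _ Y.e_mem

theorem commute_he : Commute Y.h Y.e := Y.comm_E _ Y.h_mem _ Y.e_mem

theorem c_pow_e (k : ℕ) : Y.c ^ k * Y.e * (Y.c ^ k)⁻¹ = Y.l ^ k * Y.e := by
  induction k with
  | zero => simp
  | succ k ih =>
    rw [show Y.c ^ (k + 1) * Y.e * (Y.c ^ (k + 1))⁻¹ = Y.c * (Y.c ^ k * Y.e * (Y.c ^ k)⁻¹) * Y.c⁻¹ by
        rw [pow_succ']; group, ih,
      show Y.c * (Y.l ^ k * Y.e) * Y.c⁻¹ = (Y.c * Y.l * Y.c⁻¹) ^ k * (Y.c * Y.e * Y.c⁻¹) by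
        rw [conj_pow]; group, Y.c_l, Y.c_e, ← mul_assoc, ← pow_succ]

theorem c_pow_lh (k : ℕ) : Commute (Y.c ^ k) Y.l ∧ Commute (Y.c ^ k) Y.h :=
  ⟨Commute.pow_left (mul_inv_eq_iff_eq_mul.1 Y.c_l) k,
    Commute.pow_left (mul_inv_eq_iff_eq_mul.1 Y.c_h) k⟩

/-- The action of `x * c ^ k` for `x` in `E`. -/
theorem act_N [Finite P] {g : P} (hg : g ∈ normalizer (Y.E : Set P)) :
    ∃ x ∈ Y.E, ∃ k : ℕ, g = x * Y.c ^ k ∧ Commute g Y.l ∧ Commute g Y.h ∧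
      g * Y.e * g⁻¹ = Y.l ^ k * Y.e := by
  haveI hEn : (Y.E.subgroupOf (normalizer (Y.E : Set P))).Normal := normal_in_normalizer
  have hidx : (Y.E.subgroupOf (normalizer (Y.E : Set P))).index = p := by
    have h1 := (Y.E.subgroupOf (normalizer (Y.E : Set P))).card_mul_index
    rw [Nat.card_congr (subgroupOfEquivOfLe Y.le_N).toEquiv, Y.card_E, Y.card_N,
      show p ^ 4 = p ^ 3 * p by ring] at h1
    exact Nat.eq_of_mul_eq_mul_left (pow_pos hp.out.pos 3) h1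
  have hcard : Nat.card (↥(normalizer (Y.E : Set P)) ⧸
      Y.E.subgroupOf (normalizer (Y.E : Set P))) = p := by rw [← index_eq_card, hidx]
  set π := QuotientGroup.mk' (Y.E.subgroupOf (normalizer (Y.E : Set P)))
  have hc1 : π ⟨Y.c, Y.c_mem⟩ ≠ 1 := fun e => Y.c_not (mem_subgroupOf.1 ((QuotientGroup.eq_one_iff (⟨Y.c, Y.c_mem⟩ : normalizer (Y.E : Set P))).1 e))
  obtain ⟨k, hk⟩ := (Submonoid.mem_powers_iff _ _).1 (mem_powers_iff_mem_zpowers.2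
    ((zpowers_eq_top_of_prime_card hcard hc1).ge (mem_top (π ⟨g, hg⟩))))
  have hx : g * (Y.c ^ k)⁻¹ ∈ Y.E := by
    have h1 : π (⟨g, hg⟩ * (⟨Y.c, Y.c_mem⟩ ^ k)⁻¹) = 1 := by
      rw [_root_.map_mul, _root_.map_inv, _root_.map_pow, hk, mul_inv_cancel]
    have h2 := (QuotientGroup.eq_one_iff _).1 h1
    exact mem_subgroupOf.1 h2
  obtain ⟨cl, ch⟩ := Y.c_pow_lh k
  refine ⟨_, hx, k, by group, ?_, ?_, ?_⟩
  · have := (show Commute _ Y.l from Y.comm_E _ hx _ Y.l_mem).mul_left cl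
    rwa [inv_mul_cancel_right] at this
  · have := (show Commute _ Y.h from Y.comm_E _ hx _ Y.h_mem).mul_left ch
    rwa [inv_mul_cancel_right] at this
  · rw [show g * Y.e * g⁻¹ = (g * (Y.c ^ k)⁻¹) * (Y.c ^ k * Y.e * (Y.c ^ k)⁻¹) *
        (g * (Y.c ^ k)⁻¹)⁻¹ by group, Y.c_pow_e,
      Y.comm_E _ hx _ (mul_mem (pow_mem Y.l_mem k) Y.e_mem), mul_inv_cancel_right]

theorem exp_l : Y.l ^ p = 1 := Y.exp_E _ Y.l_mem

theorem exp_h : Y.h ^ p = 1 := Y.exp_E _ Y.h_mem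

theorem exp_e : Y.e ^ p = 1 := Y.exp_E _ Y.e_mem

/-- The automorphisms of `E` in the system that are unipotent on the flag are inner in `N(E)`. -/
theorem uni_conj [Finite P] (hp2 : p ≠ 2) {f : P → P} (hf : Y.Map Y.E f)
    (fl : f Y.l = Y.l) {k i j : ℕ} (fh : f Y.h = Y.h * Y.l ^ k)
    (fe : f Y.e = Y.e * Y.h ^ i * Y.l ^ j) :
    ∃ g ∈ normalizer (Y.E : Set P), ∀ x ∈ Y.E, f x = g * x * g⁻¹ := by
  let U : (P → P) → Prop := fun g => g Y.l = Y.l ∧ (∃ k : ℕ, g Y.h = Y.h * Y.l ^ k) ∧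
    (∀ x ∈ Y.E, ∀ y ∈ Y.E, g (x * y) = g x * g y) ∧
    ∃ i j : ℕ, g Y.e = Y.e * Y.h ^ i * Y.l ^ j
  have hstab : ∀ g : P → P, U g → ∀ x ∈ Y.E, g x ∈ Y.E := by
    rintro g ⟨gl, ⟨k, gh⟩, gm, i, j, ge⟩ x hx
    have gpow : ∀ y ∈ Y.E, ∀ m : ℕ, g (y ^ m) = g y ^ m := fun y hy m => by
      induction m with
      | zero =>
        have := gm 1 Y.E.one_mem 1 Y.E.one_mem
        rw [one_mul] at this
        rw [pow_zero, pow_zero]
        exact mul_eq_left.1 this.symm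
      | succ m ih => rw [pow_succ, gm _ (Y.E.pow_mem hy m) _ hy, ih, pow_succ]
    obtain ⟨a, b, c, rfl⟩ := Y.span x hx
    rw [gm _ (mul_mem (pow_mem Y.l_mem a) (pow_mem Y.h_mem b)) _ (pow_mem Y.e_mem c),
      gm _ (pow_mem Y.l_mem a) _ (pow_mem Y.h_mem b), gpow _ Y.l_mem, gpow _ Y.h_mem,
      gpow _ Y.e_mem, gl, gh, ge]
    exact mul_mem (mul_mem (pow_mem Y.l_mem a) (pow_mem (mul_mem Y.h_mem (pow_mem Y.l_mem k)) b))
      (pow_mem (mul_mem (mul_mem Y.e_mem (pow_mem Y.h_mem i)) (pow_mem Y.l_mem j)) c)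
  have gpow : ∀ g : P → P, (∀ x ∈ Y.E, ∀ y ∈ Y.E, g (x * y) = g x * g y) →
      ∀ y ∈ Y.E, ∀ m : ℕ, g (y ^ m) = g y ^ m := fun g gm y hy m => by
    induction m with
    | zero =>
      have := gm 1 Y.E.one_mem 1 Y.E.one_mem
      rw [one_mul] at this
      rw [pow_zero, pow_zero]
      exact mul_eq_left.1 this.symm
    | succ m ih => rw [pow_succ, gm _ (Y.E.pow_mem hy m) _ hy, ih, pow_succ]
  have hfU : U f := ⟨fl, ⟨k, fh⟩, Y.map_mul hf, i, j, fe⟩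
  exact Y.syl (Q := Y.E) (Or.inl rfl) U (fun f g _ hg' ⟨fl, ⟨k, fh⟩, fm, i, j, fe⟩
      ⟨gl, ⟨k', gh⟩, gm, i', j', ge⟩ => ⟨by simp [fl, gl], ⟨k + k', by
        rw [Function.comp_apply, gh, fm _ Y.h_mem _ (pow_mem Y.l_mem _),
          gpow f fm _ Y.l_mem, fl, fh, mul_assoc, ← pow_add]⟩,
        fun x hx y hy => by
          simp only [Function.comp_apply]
          rw [gm x hx y hy, fm _ (hg' x hx) _ (hg' y hy)],
        i + i', j + k * i' + j', by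
          rw [Function.comp_apply, ge, fm _ (mul_mem Y.e_mem (pow_mem Y.h_mem _)) _
              (pow_mem Y.l_mem _), fm _ Y.e_mem _ (pow_mem Y.h_mem _), gpow f fm _ Y.h_mem,
            gpow f fm _ Y.l_mem, fl, fh, fe, (Y.commute_lh.symm.pow_right k).mul_pow, ← pow_mul,
            show Y.e * Y.h ^ i * Y.l ^ j * (Y.h ^ i' * Y.l ^ (k * i')) * Y.l ^ j' =
              Y.e * Y.h ^ i * (Y.l ^ j * Y.h ^ i') * (Y.l ^ (k * i') * Y.l ^ j') by group,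
            (Y.commute_lh.pow_pow j i').eq]
          simp only [pow_add, mul_assoc]⟩)
    (fun f g hfg ⟨fl, ⟨k, fh⟩, fm, i, j, fe⟩ => ⟨(hfg _ Y.l_mem).symm.trans fl,
      ⟨k, (hfg _ Y.h_mem).symm.trans fh⟩,
      fun x hx y hy => by rw [← hfg _ (mul_mem hx hy), ← hfg _ hx, ← hfg _ hy, fm x hx y hy],
      i, j, (hfg _ Y.e_mem).symm.trans fe⟩)
    (fun g hg => by
      obtain ⟨x, hx, k, -, gl, gh, ge⟩ := Y.act_N hg
      refine ⟨?_, ⟨0, ?_⟩, fun x _ y _ => by simp [cj, mul_assoc], 0, k, ?_⟩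
      · rw [cj, gl.eq, mul_inv_cancel_right]
      · rw [cj, gh.eq, mul_inv_cancel_right, pow_zero, mul_one]
      · rw [cj, ge, pow_zero, mul_one, (Y.commute_le.pow_left k).eq])
    (fun g hg hgs ⟨gl, ⟨k, gh⟩, gm, i, j, ge⟩ => uni_pow gm Y.comm_E Y.exp_E hp2 Y.l_mem Y.h_mem
      Y.e_mem gl gh ge Y.span)
    f hf (hstab f hfU) hfU

theorem fix_h_of_uni [Finite P] (hp2 : p ≠ 2) {f : P → P} (hf : Y.Map Y.E f)
    (fl : f Y.l = Y.l) {k i j : ℕ} (fh : f Y.h = Y.h * Y.l ^ k)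
    (fe : f Y.e = Y.e * Y.h ^ i * Y.l ^ j) : f Y.h = Y.h := by
  obtain ⟨g, hg, hgx⟩ := Y.uni_conj hp2 hf fl fh fe
  obtain ⟨-, -, -, -, -, gh, -⟩ := Y.act_N hg
  rw [hgx _ Y.h_mem, gh.eq, mul_inv_cancel_right]

end CubeSys

end CfsgLib.MaxClassEss
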